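import Cfsg.Agent.SylowRatio.Single

/-!
# The ratio of fixed points of a Sylow subgroup
-/

set_option linter.unusedSectionVars false

namespace CfsgLib.SylowRatio

open MulAction
open scoped Pointwise

universe u

variable {p : ℕ} [hp : Fact p.Prime] {G : Type u} [Group G] [Finite G] {α : Type u} [MulAction G α]
  [Finite α]

theorem K_fixes_only (H : Hyp p G) (hprim : IsPreprimitive G α) (hnt : Nontrivial α) {P : Sylow p G}
    {a y : α} (hP : (P : Subgroup G) ≤ stabilizer G a) (h : (K p G a : Subgroup G) ≤ stabilizer G y) :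
    y = a := by
  have := hprim.toIsPretransitive
  by_contra hya
  have hPK : (P : Subgroup G) ≤ K p G a := le_pgen P.isPGroup' hP
  obtain ⟨g, hg⟩ := MulAction.exists_smul_eq G a y
  have hle : (K p G a : Subgroup G) ≤ K p G y := by
    have := pgen_mono (p := p) h
    rwa [K, pgen_idem] at this
  have hcard : (Syls p (K p G y : Subgroup G)).ncard = (Syls p (K p G a : Subgroup G)).ncard := by
    rw [← hg, K_smul, ← Syls_cj, Set.ncard_image_of_injective _ (MulAction.injective g)]
  have hS : Syls p (K p G a : Subgroup G) = Syls p (K p G y : Subgroup G) :=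
    Set.eq_of_subset_of_ncard_le (fun Q hQ => le_trans hQ hle) hcard.le
  have hKy : (K p G y : Subgroup G) = K p G a := by
    refine le_antisymm ?_ hle
    have := pgen_le_of_syls (hPK.trans hle) (Y := (K p G a : Subgroup G)) hS.symm.subset
    rwa [K, pgen_idem] at this
  let N : Subgroup G := stabilizer G (⟨K p G a⟩ : Lab G)
  have hN : stabilizer G a ≤ N := fun k hk => by
    apply Lab.ext
    rw [Lab.smul_val, ← K_smul, mem_stabilizer_iff.1 hk]
  have hgN : g ∈ N := by
    apply Lab.ext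
    rw [Lab.smul_val, ← K_smul, hg, hKy]
  have hcoatom : IsCoatom (stabilizer G a) := (isCoatom_stabilizer_iff_preprimitive G a).2 hprim
  have hNtop : N = ⊤ := by
    refine hcoatom.2 N (lt_of_le_of_ne hN fun h => hya ?_)
    rw [← hg]
    exact mem_stabilizer_iff.1 (h ▸ hgN)
  have htop : (K p G a : Subgroup G) = ⊤ := eq_of_normalised H.gen hPK le_top fun k _ =>
    congrArg Lab.val (mem_stabilizer_iff.1 (hNtop ▸ Subgroup.mem_top k : k ∈ N))
  exact hcoatom.1 (top_le_iff.1 (htop ▸ K_le a))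

omit hp in
theorem exists_swap {g : G} {a : α} {k : ℕ} (hg : orderOf g = 2 ^ k) (hga : g • a ≠ a) :
    ∃ j, g ^ (2 ^ j) • a ≠ a ∧ g ^ (2 ^ j) • g ^ (2 ^ j) • a = a := by
  classical
  have hk : g ^ (2 ^ k) • a = a := by rw [← hg, pow_orderOf_eq_one, one_smul]
  have hex : ∃ j, g ^ (2 ^ j) • a = a := ⟨k, hk⟩
  have hpos : Nat.find hex ≠ 0 := fun h => hga (by
    have := Nat.find_spec hex
    rwa [h, pow_zero, pow_one] at this)
  obtain ⟨j, hj⟩ := Nat.exists_eq_succ_of_ne_zero hpos
  refine ⟨j, Nat.find_min hex (by omega), ?_⟩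
  have := Nat.find_spec hex
  rw [hj, pow_succ, mul_two, pow_add, mul_smul] at this
  exact this

/-- for `p = 2` -/
theorem primitive_two (H : Hyp p G) (h2 : p = 2) (hprim : IsPreprimitive G α) (hnt : Nontrivial α)
    (P : Sylow p G) (a : α) (hP : (P : Subgroup G) ≤ stabilizer G a) :
    0 ≤ E p (P : Subgroup G) (Set.univ : Set α) := by
  subst h2
  have := hprim.toIsPretransitive
  have hPK : (P : Subgroup G) ≤ K 2 G a := le_pgen P.isPGroup' hP
  have hcoatom : IsCoatom (stabilizer G a) := (isCoatom_stabilizer_iff_preprimitive G a).2 hprim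
  have hKtop : (K 2 G a : Subgroup G) ≠ ⊤ := fun h => hcoatom.1 (top_le_iff.1 (h ▸ K_le a))
  have hinvc : Inv (K 2 G a : Subgroup G) ({a}ᶜ : Set α) := fun g hg x hx h =>
    hx (MulAction.injective g (h.trans (K_le a hg).symm))
  have hnf : ∀ z ∈ ({a}ᶜ : Set α), z ∉ (Fixed (K 2 G a : Subgroup G) : Set α) := fun z hz hf =>
    hz (K_fixes_only H hprim hnt hP hf)
  by_contra hneg
  obtain ⟨w, hw⟩ := exists_E_eq (p := 2) P.isPGroup' (Inv.univ (α := α) (P : Subgroup G))
  have hs := E_diff (p := 2) (P : Subgroup G) (Set.subset_univ ({a} : Set α))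
  rw [E_singleton (show a ∈ (Fixed (P : Subgroup G) : Set α) from hP), ← Set.compl_eq_univ_sdiff] at hs
  have hc0 := set_nonneg H (pgen_idem _) hKtop hPK hinvc hnf
  have hcz : E 2 (P : Subgroup G) ({a}ᶜ : Set α) = 0 := by
    push_cast at hs hw
    omega
  -- every pair is fixed by a Sylow subgroup
  have hpair : ∀ x, x ≠ a → ∃ Q : Sylow 2 G, (Q : Subgroup G) ≤ stabilizer G a ⊓ stabilizer G x := by
    intro x hx
    have hsub : orbit (K 2 G a : Subgroup G) x ⊆ ({a}ᶜ : Set α) := hinvc.orbit_subset hx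
    rw [E_diff (p := 2) (P : Subgroup G) hsub] at hcz
    have h1 := set_nonneg H (pgen_idem _) hKtop hPK (s := orbit (K 2 G a : Subgroup G) x)
      (inv_orbit _ x) (fun z hz => hnf z (hsub hz))
    have h3 := set_nonneg H (pgen_idem _) hKtop hPK
      (s := ({a}ᶜ : Set α) \ orbit (K 2 G a : Subgroup G) x)
      (hinvc.diff (inv_orbit _ x)) (fun z hz => hnf z hz.1)
    have hne : (orbit (K 2 G a : Subgroup G) x ∩ Fixed (P : Subgroup G)).Nonempty := by
      by_contra hno
      have hE := E_of_noFixed (p := 2) (Set.not_nonempty_iff_eq_empty.1 hno)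
      have hpos : (1 : ℤ) ≤ ((orbit (K 2 G a : Subgroup G) x).ncard : ℤ) := by
        exact_mod_cast (Set.ncard_pos).2
          (show (orbit (K 2 G a : Subgroup G) x).Nonempty from ⟨x, mem_orbit_self x⟩)
      push_cast at hE
      linarith
    obtain ⟨_, ⟨⟨g, hg⟩, rfl⟩, hzf⟩ := hne
    refine ⟨g⁻¹ • P, ?_⟩
    rw [coe_smul_sylow, ← cj_inv_cj g (stabilizer G a ⊓ stabilizer G x)]
    refine cj_mono _ ?_
    rw [cj_inf, ← stab_smul, ← stab_smul, show g • a = a from K_le a hg]
    exact le_inf hP hzf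
  -- an element swapping two points
  obtain ⟨g, ⟨k, hk⟩, hga⟩ : ∃ g : G, (∃ k : ℕ, orderOf g = 2 ^ k) ∧ g • a ≠ a := by
    by_contra hall
    push Not at hall
    refine hcoatom.1 (top_le_iff.1 ?_)
    rw [← H.gen]
    exact (Subgroup.closure_le _).2 fun g hg => hall g hg.2
  obtain ⟨j, hhne, hh2⟩ := exists_swap hk hga
  set h := g ^ (2 ^ j)
  set b := h • a
  set U := stabilizer G a ⊓ stabilizer G b with hU
  obtain ⟨Q, hQ⟩ := hpair b hhne
  have hodd : ¬ 2 ∣ U.index := fun hd => Q.not_dvd_index (hd.trans (Subgroup.index_dvd_of_le hQ))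
  set N := stabilizer G (⟨U⟩ : Lab G)
  have hUN : U ≤ N := fun u hu => Lab.ext (cj_eq_self hu)
  have hhN : h ∈ N := by
    apply Lab.ext
    rw [Lab.smul_val]
    change cj h U = U
    rw [hU, cj_inf, ← stab_smul, ← stab_smul, hh2, inf_comm]
  have hnorm : (U.subgroupOf N).Normal := ⟨fun u hu n => by
    rw [Subgroup.mem_subgroupOf] at hu ⊢
    push_cast
    have hn : cj (n : G) U = U := congrArg Lab.val (mem_stabilizer_iff.1 n.2)
    rw [← hn, mem_cj]
    simpa [mul_assoc] using hu⟩
  let q : N ⧸ U.subgroupOf N := QuotientGroup.mk ⟨h, hhN⟩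
  have hq1 : orderOf q ≠ 1 := fun h1 => hhne (by
    rw [orderOf_eq_one_iff, QuotientGroup.eq_one_iff, Subgroup.mem_subgroupOf] at h1
    exact h1.1)
  have hq2 : orderOf q ∣ 2 ^ k := by
    refine (orderOf_map_dvd (QuotientGroup.mk' (U.subgroupOf N)) _).trans ?_
    rw [Subgroup.orderOf_mk, ← hk]
    exact orderOf_pow_dvd _
  obtain ⟨i, -, hi⟩ := (Nat.dvd_prime_pow Nat.prime_two).1 hq2
  have h2q : 2 ∣ orderOf q := by
    rw [hi]
    exact dvd_pow_self 2 fun hi0 => hq1 (by rw [hi, hi0, pow_zero])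
  refine hodd ((h2q.trans (orderOf_dvd_natCard q)).trans ?_)
  rw [← Subgroup.index_eq_card, ← Subgroup.relIndex_mul_index hUN]
  exact dvd_mul_right _ _

/-- the primitive case -/
theorem primitive_case (H : Hyp p G) (hprim : IsPreprimitive G α) (hnt : Nontrivial α) (P : Sylow p G) (a : α)
    (hP : (P : Subgroup G) ≤ stabilizer G a) :
    0 ≤ E p (P : Subgroup G) (Set.univ : Set α) ∧
      (p ≠ 2 → ∀ k : ℕ, 2 ≤ k → E p (P : Subgroup G) (Set.univ : Set α) = p * ((p : ℤ) - k) →
        IsMultiplyPretransitive G α k ∧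
          ∀ b c d : α, c ≠ b → d ≠ b → ∃ g ∈ pgen p (stabilizer G b), g • c = d) := by
  have := hprim.toIsPretransitive
  by_cases h2 : p = 2
  · exact ⟨primitive_two H h2 hprim hnt P a hP, fun h => absurd h2 h⟩
  have hPK : (P : Subgroup G) ≤ K p G a := le_pgen P.isPGroup' hP
  have mkCtx : E p (P : Subgroup G) (Set.univ : Set α) ≤ p * ((p : ℤ) - 2) → Ctx p G α := fun hb =>
    { hyp := H, odd := h2, prim := hprim, nontriv := hnt, exists_fix := ⟨P, a, hP⟩
      bound := fun Q b _ => by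
        rw [E_congr (X := (⊤ : Subgroup G)) (P := Q) (Q := P) le_top le_top (Inv.univ _)]
        exact hb }
  have hsyl : ∀ (C : Ctx p G α) (b : α), E p (syl p G b : Subgroup G) (Set.univ : Set α)
      = E p (P : Subgroup G) (Set.univ : Set α) := fun _ b =>
    E_congr (X := (⊤ : Subgroup G)) le_top le_top (Inv.univ _)
  refine ⟨?_, fun _ k hk hE => ?_⟩
  · by_contra hneg
    obtain ⟨w, hw⟩ := exists_E_eq (p := p) P.isPGroup' (Inv.univ (α := α) (P : Subgroup G))
    have hp1 : (3 : ℤ) ≤ p := by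
      have := hp.out.two_le
      exact_mod_cast show 3 ≤ p by omega
    have C := mkCtx (by nlinarith [mul_nonneg (show (0 : ℤ) ≤ p by linarith) (show (0 : ℤ) ≤ (p : ℤ) - 2 by linarith)])
    have hlow := C.EA_nonneg (C.inv_compl a) (fun h => h rfl)
    rw [C.EA_compl, hsyl C] at hlow
    have hne := (C.result a).2.1
    rw [hsyl C] at hne
    rw [hw] at hneg hlow hne
    have h1 : w < 0 := by
      by_contra h
      exact hneg (mul_nonneg (by linarith) (not_lt.1 h))
    have h2' : -1 ≤ w := by nlinarith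
    have : w = -1 := by omega
    subst this
    exact hne (by ring)
  · have C := mkCtx (by
      rw [hE]
      exact mul_le_mul_of_nonneg_left (by have : (2 : ℤ) ≤ k := (by exact_mod_cast hk); linarith)
        (Int.natCast_nonneg p))
    refine ⟨(C.result a).2.2 k hk (by rw [hsyl C]; exact hE), fun b c d hc hd => ?_⟩
    exact (C.result b).1 c d hc hd

/-- every group generated by its `p`-elements satisfies the inequality -/
theorem good (p : ℕ) [hp : Fact p.Prime] : ∀ (N : ℕ) {G : Type u} [Group G] [Finite G], Nat.card G ≤ N →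
    pgen p (⊤ : Subgroup G) = ⊤ → ∀ (β : Type u) [MulAction G β] [Finite β], Good p G β := by
  intro N
  induction N with
  | zero => intro G _ _ h; exact absurd h (by have := Nat.card_pos (α := G); omega)
  | succ N ih =>
    intro G _ _ hN hgen β _ _
    have H : Hyp p G := by
      refine ⟨hgen, fun X hX hXt γ _ _ => ih ?_ (pgen_top_of_eq hX) γ⟩
      have h1 := X.card_mul_index
      have h2 : 2 ≤ X.index := X.one_lt_index_of_ne_top hXt
      have h3 : 0 < Nat.card X := Nat.card_pos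
      nlinarith
    intro htrans hnt P ⟨a, ha⟩
    refine ⟨?_, fun hp2 hprim => (primitive_case H hprim hnt P a ha).2 hp2⟩
    -- reduce to a primitive quotient
    obtain ⟨b, hb⟩ := exists_ne a
    have hne : stabilizer G a ≠ ⊤ := fun h => by
      obtain ⟨g, hg⟩ := MulAction.exists_smul_eq G a b
      exact hb (hg.symm.trans (mem_stabilizer_iff.1 (h ▸ Subgroup.mem_top g)))
    obtain ⟨M, hM, hle⟩ := (IsCoatomic.eq_top_or_exists_le_coatom (stabilizer G a)).resolve_left hne
    have hntQ : Nontrivial (G ⧸ M) := by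
      rw [← Finite.one_lt_card_iff_nontrivial, ← Subgroup.index_eq_card]
      exact M.one_lt_index_of_ne_top hM.1
    have hstab : stabilizer G ((1 : G) : G ⧸ M) = M := MulAction.stabilizer_quotient M
    have hprimQ : IsPreprimitive G (G ⧸ M) :=
      (isCoatom_stabilizer_iff_preprimitive G ((1 : G) : G ⧸ M)).1 (hstab.symm ▸ hM)
    have h0 := (primitive_case H hprimQ hntQ P ((1 : G) : G ⧸ M)
      (hstab.symm ▸ (show (P : Subgroup G) ≤ M from le_trans ha hle))).1
    classical
    let φ : β → G ⧸ M := fun z => ((MulAction.exists_smul_eq G a z).choose : G ⧸ M)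
    have hφg : ∀ g : G, φ (g • a) = (g : G ⧸ M) := by
      intro g
      simp only [φ]
      have hc := (MulAction.exists_smul_eq G a (g • a)).choose_spec
      rw [QuotientGroup.eq]
      refine hle ?_
      rw [mem_stabilizer_iff, mul_smul, inv_smul_eq_iff, hc]
    have hφ : ∀ g ∈ (⊤ : Subgroup G), ∀ z ∈ orbit (⊤ : Subgroup G) a, φ (g • z) = g • φ z := by
      intro g _ z _
      obtain ⟨k, rfl⟩ := MulAction.exists_smul_eq G a z
      rw [← mul_smul, hφg, hφg]
      rfl
    have horb : orbit (⊤ : Subgroup G) a = Set.univ := Set.eq_univ_of_forall fun z => by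
      obtain ⟨m, hm⟩ := MulAction.exists_smul_eq G a z
      exact ⟨⟨m, Subgroup.mem_top m⟩, hm⟩
    have horbQ : orbit (⊤ : Subgroup G) (φ a) = Set.univ := Set.eq_univ_of_forall fun z => by
      obtain ⟨m, hm⟩ := MulAction.exists_smul_eq G (φ a) z
      exact ⟨⟨m, Subgroup.mem_top m⟩, hm⟩
    obtain ⟨c, g, -, hgc, -, hcard, hfix, -⟩ := orbit_map_counts hφ (P := P) le_top ⟨a, mem_orbit_self a, ha⟩
    rw [horb] at hcard hfix
    erw [horbQ] at hcard hfix
    unfold E at h0 ⊢
    rw [hcard, hfix]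
    push_cast
    have hp1 : (1 : ℤ) ≤ p := by exact_mod_cast hp.out.one_le
    have hgc' : (g : ℤ) ≤ c := by exact_mod_cast hgc
    nlinarith [mul_nonneg h0 (Int.natCast_nonneg c),
      mul_nonneg (mul_nonneg (show (0 : ℤ) ≤ 2 * (p : ℤ) - 1 by linarith)
        (Int.natCast_nonneg ((Set.univ ∩ Fixed (P : Subgroup G) : Set (G ⧸ M)).ncard)))
        (sub_nonneg.2 hgc')]

theorem card_sylow_subgroup {H : Subgroup G} {P : Sylow p G} (hP : (P : Subgroup G) ≤ H) :
    Nat.card (Sylow p H) = (Syls p H).ncard := by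
  rw [← Nat.card_coe_set_eq]
  refine (Nat.card_congr (Equiv.ofBijective (fun Q : Syls p H => Q.1.subtype Q.2)
    ⟨fun Q Q' h => Subtype.ext (Sylow.subtype_injective h), fun R => ?_⟩)).symm
  obtain ⟨x, hx⟩ := MulAction.exists_smul_eq H (P.subtype hP) R
  rw [Sylow.smul_subtype] at hx
  exact ⟨⟨_, Sylow.smul_le hP x⟩, hx⟩

/-- the inequality for the numbers of Sylow subgroups -/
theorem ratio (hgen : pgen p (⊤ : Subgroup G) = ⊤) {H : Subgroup G} (hH : H ≠ ⊤) {P : Sylow p G}
    (hP : (P : Subgroup G) ≤ H) :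
    (2 * p - 1) * Nat.card (Sylow p H) ≤ (p - 1) * Nat.card (Sylow p G) := by
  have hnt : Nontrivial (G ⧸ H) := by
    rw [← Finite.one_lt_card_iff_nontrivial, ← Subgroup.index_eq_card]
    exact H.one_lt_index_of_ne_top hH
  have hstab : stabilizer G ((1 : G) : G ⧸ H) = H := MulAction.stabilizer_quotient H
  have hfix : ((1 : G) : G ⧸ H) ∈ (Fixed (P : Subgroup G) : Set (G ⧸ H)) :=
    show (P : Subgroup G) ≤ stabilizer G ((1 : G) : G ⧸ H) from hstab.symm ▸ hP
  have h0 := (good p (Nat.card G) le_rfl hgen (G ⧸ H) inferInstance hnt P ⟨_, hfix⟩).1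
  have hs := syls_orbit (p := p) (X := (⊤ : Subgroup G)) ((1 : G) : G ⧸ H) P le_top
  have horb : orbit (⊤ : Subgroup G) ((1 : G) : G ⧸ H) = Set.univ := Set.eq_univ_of_forall fun z => by
    obtain ⟨m, hm⟩ := MulAction.exists_smul_eq G ((1 : G) : G ⧸ H) z
    exact ⟨⟨m, Subgroup.mem_top m⟩, hm⟩
  have htop : Syls p (⊤ : Subgroup G) = Set.univ := Set.eq_univ_of_forall fun Q => show (Q : Subgroup G) ≤ ⊤ from le_top
  erw [horb] at hs
  rw [htop, top_inf_eq, hstab, Set.ncard_univ (Sylow p G), ← card_sylow_subgroup hP] at hs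
  unfold E at h0
  set f := (Set.univ ∩ Fixed (P : Subgroup G) : Set (G ⧸ H)).ncard
  set n := (Set.univ : Set (G ⧸ H)).ncard
  have h1 : (2 * p - 1) * f ≤ (p - 1) * n := by
    have hp1 := hp.out.one_le
    zify [hp1, show 1 ≤ 2 * p by omega]
    linarith
  have hn : 0 < n := by
    simp only [n, Set.ncard_univ]
    exact Nat.card_pos
  refine Nat.le_of_mul_le_mul_left ?_ hn
  calc n * ((2 * p - 1) * Nat.card (Sylow p H)) = (2 * p - 1) * (n * Nat.card (Sylow p H)) := by ring
    _ = (2 * p - 1) * (f * Nat.card (Sylow p G)) := by rw [hs]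
    _ = ((2 * p - 1) * f) * Nat.card (Sylow p G) := by ring
    _ ≤ ((p - 1) * n) * Nat.card (Sylow p G) := Nat.mul_le_mul_right _ h1
    _ = n * ((p - 1) * Nat.card (Sylow p G)) := by ring

end CfsgLib.SylowRatio
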