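import Mathlib

/-!
# Sylow subgroups fixing points: counting

For a Sylow `p`-subgroup `P` and a finite set `s`, `E P s = (p-1)|s| - (2p-1)|s ∩ Fix P|` measures how
far the proportion of fixed points is from `(p-1)/(2p-1)`.
-/

set_option linter.unusedSectionVars false

namespace CfsgLib.SylowRatio

open MulAction
open scoped Pointwise

universe u

variable {p : ℕ} {G : Type u} [Group G]

/-- the subgroup generated by the `p`-elements of `H` -/
def pgen (p : ℕ) (H : Subgroup G) : Subgroup G :=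
  Subgroup.closure {g | g ∈ H ∧ ∃ k : ℕ, orderOf g = p ^ k}

/-- conjugate subgroup -/
def cj (g : G) (H : Subgroup G) : Subgroup G := H.map (MulAut.conj g).toMonoidHom

theorem mem_cj {g x : G} {H : Subgroup G} : x ∈ cj g H ↔ g⁻¹ * x * g ∈ H := by
  simp only [cj, Subgroup.mem_map, MulEquiv.coe_toMonoidHom, MulAut.conj_apply]
  constructor
  · rintro ⟨a, ha, rfl⟩; simpa [mul_assoc] using ha
  · exact fun h => ⟨_, h, by simp [mul_assoc]⟩

theorem cj_one (H : Subgroup G) : cj 1 H = H := by ext; simp [mem_cj]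

theorem cj_mul (g h : G) (H : Subgroup G) : cj (g * h) H = cj g (cj h H) := by
  ext; simp [mem_cj, mul_assoc]

theorem cj_inv_cj (g : G) (H : Subgroup G) : cj g⁻¹ (cj g H) = H := by rw [← cj_mul]; simp [cj_one]

theorem cj_mono (g : G) {H H' : Subgroup G} (h : H ≤ H') : cj g H ≤ cj g H' := Subgroup.map_mono h

theorem cj_inf (g : G) (H H' : Subgroup G) : cj g (H ⊓ H') = cj g H ⊓ cj g H' := by
  ext; simp [mem_cj]

theorem cj_eq_self {g : G} {H : Subgroup G} (hg : g ∈ H) : cj g H = H := by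
  ext x
  rw [mem_cj]
  exact ⟨fun h => by simpa [mul_assoc] using H.mul_mem (H.mul_mem hg h) (H.inv_mem hg),
    fun h => H.mul_mem (H.mul_mem (H.inv_mem hg) h) hg⟩

theorem coe_smul_sylow (g : G) (P : Sylow p G) :
    ((g • P : Sylow p G) : Subgroup G) = cj g (P : Subgroup G) := rfl

theorem mem_pgen {H : Subgroup G} {g : G} (hg : g ∈ H) {k : ℕ} (hk : orderOf g = p ^ k) :
    g ∈ pgen p H := Subgroup.subset_closure ⟨hg, k, hk⟩

theorem pgen_le (H : Subgroup G) : pgen p H ≤ H := (Subgroup.closure_le _).2 fun _ hg => hg.1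

theorem pgen_mono {H H' : Subgroup G} (h : H ≤ H') : pgen p H ≤ pgen p H' :=
  Subgroup.closure_mono fun _ hg => ⟨h hg.1, hg.2⟩

theorem pgen_idem (H : Subgroup G) : pgen p (pgen p H) = pgen p H :=
  le_antisymm (pgen_le _) ((Subgroup.closure_le _).2 fun _ hg => mem_pgen (Subgroup.subset_closure hg) hg.2.choose_spec)

theorem le_pgen [hp : Fact p.Prime] {Q H : Subgroup G} (hQ : IsPGroup p Q) (h : Q ≤ H) : Q ≤ pgen p H := by
  intro g hg
  obtain ⟨k, hk⟩ := (IsPGroup.iff_orderOf.1 hQ) ⟨g, hg⟩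
  exact mem_pgen (h hg) (k := k) (by rw [← hk, Subgroup.orderOf_mk])

theorem pgen_cj (g : G) (H : Subgroup G) : pgen p (cj g H) = cj g (pgen p H) := by
  unfold pgen cj
  rw [MonoidHom.map_closure]
  congr 1
  ext x
  constructor
  · rintro ⟨⟨a, ha, rfl⟩, hk⟩
    exact ⟨a, ⟨ha, by rwa [MulEquiv.coe_toMonoidHom, MulEquiv.orderOf_eq] at hk⟩, rfl⟩
  · rintro ⟨a, ⟨ha, hk⟩, rfl⟩
    exact ⟨⟨a, ha, rfl⟩, by rwa [MulEquiv.coe_toMonoidHom, MulEquiv.orderOf_eq]⟩

/-- Subgroups, with the action by conjugation -/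
@[ext]
structure Lab (G : Type u) [Group G] where
  val : Subgroup G

instance : MulAction G (Lab G) where
  smul g L := ⟨cj g L.val⟩
  one_smul L := Lab.ext (cj_one L.val)
  mul_smul g h L := Lab.ext (cj_mul g h L.val)

instance [Finite G] : Finite (Lab G) :=
  Finite.of_injective Lab.val fun _ _ h => Lab.ext h

@[simp] theorem Lab.smul_val (g : G) (L : Lab G) : (g • L).val = cj g L.val := rfl

variable {α : Type*} [MulAction G α] {β : Type*} [MulAction G β]

/-- the points fixed by `Q` -/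
def Fixed (Q : Subgroup G) : Set α := {x | ∀ q ∈ Q, q • x = x}

theorem mem_Fixed {Q : Subgroup G} {x : α} : x ∈ (Fixed Q : Set α) ↔ Q ≤ stabilizer G x := Iff.rfl

theorem Fixed_cj (g : G) (Q : Subgroup G) {x : α} :
    g • x ∈ (Fixed (cj g Q) : Set α) ↔ x ∈ (Fixed Q : Set α) := by
  constructor
  · intro h q hq
    have := h (g * q * g⁻¹) (by rw [mem_cj]; simpa [mul_assoc] using hq)
    simpa [mul_smul] using this
  · intro h q hq
    rw [mem_cj] at hq
    have := h _ hq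
    rw [mul_smul, mul_smul, inv_smul_eq_iff] at this
    exact this

theorem stab_smul (g : G) (x : α) : stabilizer G (g • x) = cj g (stabilizer G x) :=
  stabilizer_smul_eq_stabilizer_map_conj g x

/-- `s` is invariant under `X` -/
def Inv (X : Subgroup G) (s : Set α) : Prop := ∀ g ∈ X, ∀ x ∈ s, g • x ∈ s

theorem Inv.mono {X Y : Subgroup G} {s : Set α} (h : Inv X s) (hY : Y ≤ X) : Inv Y s :=
  fun g hg => h g (hY hg)

theorem Inv.univ (X : Subgroup G) : Inv X (Set.univ : Set α) := fun _ _ _ _ => trivial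

theorem Inv.inter {X : Subgroup G} {s t : Set α} (hs : Inv X s) (ht : Inv X t) : Inv X (s ∩ t) :=
  fun g hg x hx => ⟨hs g hg x hx.1, ht g hg x hx.2⟩

theorem Inv.diff {X : Subgroup G} {s t : Set α} (hs : Inv X s) (ht : Inv X t) : Inv X (s \ t) :=
  fun g hg x hx => ⟨hs g hg x hx.1, fun h => hx.2 (by simpa using ht g⁻¹ (X.inv_mem hg) _ h)⟩

theorem inv_orbit (X : Subgroup G) (x : α) : Inv X (orbit X x) := by
  rintro g hg _ ⟨h, rfl⟩
  exact ⟨⟨g, hg⟩ * h, mul_smul _ _ _⟩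

theorem Inv.orbit_subset {X : Subgroup G} {s : Set α} (hs : Inv X s) {x : α} (hx : x ∈ s) :
    orbit X x ⊆ s := by
  rintro _ ⟨h, rfl⟩
  exact hs h.1 h.2 x hx

theorem inv_singleton {X : Subgroup G} {x : α} (h : x ∈ (Fixed X : Set α)) : Inv X {x} :=
  fun g hg y hy => by rw [Set.mem_singleton_iff.1 hy]; exact h g hg

/-- the excess of `s` over the critical proportion of fixed points -/
noncomputable def E (p : ℕ) (P : Subgroup G) (s : Set α) : ℤ :=
  ((p : ℤ) - 1) * (s.ncard : ℤ) - (2 * (p : ℤ) - 1) * ((s ∩ Fixed P).ncard : ℤ)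

@[simp] theorem E_empty (P : Subgroup G) : E p P (∅ : Set α) = 0 := by simp [E]

theorem E_singleton {P : Subgroup G} {x : α} (h : x ∈ (Fixed P : Set α)) :
    E p P {x} = -(p : ℤ) := by
  rw [E, Set.inter_eq_left.2 (Set.singleton_subset_iff.2 h), Set.ncard_singleton]
  push_cast; ring

theorem E_union [Finite α] (P : Subgroup G) {s t : Set α} (h : Disjoint s t) :
    E p P (s ∪ t) = E p P s + E p P t := by
  have h' : Disjoint (s ∩ Fixed P) (t ∩ Fixed P) := h.mono Set.inter_subset_left Set.inter_subset_left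
  unfold E
  rw [Set.union_inter_distrib_right, Set.ncard_union_eq h, Set.ncard_union_eq h']
  push_cast; ring

theorem E_diff [Finite α] (P : Subgroup G) {s t : Set α} (h : t ⊆ s) :
    E p P s = E p P t + E p P (s \ t) := by
  rw [← E_union P Set.disjoint_sdiff_right, Set.union_sdiff_cancel h]

theorem E_of_noFixed {P : Subgroup G} {s : Set α} (h : s ∩ Fixed P = ∅) :
    E p P s = ((p : ℤ) - 1) * s.ncard := by simp [E, h]

theorem ncard_fixed_le [Finite α] (Q : Subgroup G) (s : Set α) : (s ∩ Fixed Q).ncard ≤ s.ncard :=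
  Set.ncard_le_ncard Set.inter_subset_left

variable [hp : Fact p.Prime]

theorem ncard_fixed_modEq [Finite α] {P : Subgroup G} (hP : IsPGroup p P) {s : Set α} (hs : Inv P s) :
    s.ncard ≡ (s ∩ Fixed P).ncard [MOD p] := by
  let S : SubMulAction P α := ⟨s, fun g _ hx => hs g.1 g.2 _ hx⟩
  have h := hP.card_modEq_card_fixedPoints (α := S)
  have h1 : Nat.card S = s.ncard := Nat.card_coe_set_eq s
  have h2 : Nat.card (fixedPoints P S) = (s ∩ Fixed P).ncard := by
    rw [← Nat.card_coe_set_eq]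
    exact Nat.card_congr
      { toFun := fun x => ⟨x.1.1, x.1.2, fun q hq => congrArg Subtype.val (x.2 ⟨q, hq⟩)⟩
        invFun := fun x => ⟨⟨x.1, x.2.1⟩, fun q => Subtype.ext (x.2.2 q.1 q.2)⟩
        left_inv := fun _ => rfl
        right_inv := fun _ => rfl }
  rwa [h1, h2] at h

theorem exists_E_eq [Finite α] {P : Subgroup G} (hP : IsPGroup p P) {s : Set α} (hs : Inv P s) :
    ∃ u : ℤ, E p P s = p * u := by
  obtain ⟨c, hc⟩ := Nat.modEq_iff_dvd.1 (ncard_fixed_modEq hP hs)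
  exact ⟨-(((p : ℤ) - 1) * c) - ((s ∩ Fixed P).ncard : ℤ), by unfold E; linear_combination -((p : ℤ) - 1) * hc⟩

/-- Sylow subgroups inside `X` are conjugate in `X`. -/
theorem exists_cj_sylow [Finite G] {X : Subgroup G} {P Q : Sylow p G} (hP : (P : Subgroup G) ≤ X)
    (hQ : (Q : Subgroup G) ≤ X) : ∃ x ∈ X, cj x (P : Subgroup G) = Q := by
  obtain ⟨x, hx⟩ := MulAction.exists_smul_eq X (P.subtype hP) (Q.subtype hQ)
  rw [Sylow.smul_subtype] at hx
  exact ⟨x, x.2, congrArg (fun R : Sylow p G => (R : Subgroup G)) (Sylow.subtype_injective hx)⟩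

theorem ncard_fixed_congr [Finite G] {X : Subgroup G} {P Q : Sylow p G} (hP : (P : Subgroup G) ≤ X)
    (hQ : (Q : Subgroup G) ≤ X) {s : Set α} (hs : Inv X s) :
    (s ∩ Fixed (P : Subgroup G)).ncard = (s ∩ Fixed (Q : Subgroup G)).ncard := by
  obtain ⟨x, hx, hPQ⟩ := exists_cj_sylow hP hQ
  rw [← hPQ, ← Set.ncard_image_of_injective (s ∩ Fixed (P : Subgroup G)) (MulAction.injective (β := α) x)]
  congr 1
  ext y
  constructor
  · rintro ⟨z, ⟨hz, hzf⟩, rfl⟩
    exact ⟨hs x hx z hz, (Fixed_cj x _).2 hzf⟩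
  · rintro ⟨hy, hyf⟩
    refine ⟨x⁻¹ • y, ⟨hs _ (X.inv_mem hx) y hy, ?_⟩, smul_inv_smul x y⟩
    rw [← Fixed_cj x, smul_inv_smul]
    exact hyf

theorem E_congr [Finite G] {X : Subgroup G} {P Q : Sylow p G} (hP : (P : Subgroup G) ≤ X)
    (hQ : (Q : Subgroup G) ≤ X) {s : Set α} (hs : Inv X s) :
    E p (P : Subgroup G) s = E p (Q : Subgroup G) s := by
  unfold E; rw [ncard_fixed_congr hP hQ hs]

theorem E_smul (g : G) (P : Subgroup G) (s : Set α) : E p (cj g P) (g • s) = E p P s := by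
  have h : g • s ∩ Fixed (cj g P) = g • (s ∩ Fixed P) := by
    ext y
    rw [Set.mem_smul_set_iff_inv_smul_mem, Set.mem_inter_iff, Set.mem_inter_iff,
      Set.mem_smul_set_iff_inv_smul_mem, ← Fixed_cj g P, smul_inv_smul]
  unfold E
  rw [h, Set.ncard_smul_set, Set.ncard_smul_set]

/-- double counting -/
theorem ncard_mul_eq {γ δ : Type*} [Finite γ] [Finite δ] (A : Set γ) (B : Set δ) (r : γ → δ → Prop)
    {e N : ℕ} (hA : ∀ a ∈ A, {b ∈ B | r a b}.ncard = e) (hB : ∀ b ∈ B, {a ∈ A | r a b}.ncard = N) :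
    A.ncard * e = B.ncard * N := by
  classical
  have := Fintype.ofFinite γ
  have := Fintype.ofFinite δ
  rw [Set.ncard_eq_toFinset_card' A, Set.ncard_eq_toFinset_card' B]
  refine Finset.card_mul_eq_card_mul r (fun a ha => ?_) (fun b hb => ?_)
  · rw [← hA a (Set.mem_toFinset.1 ha), Set.ncard_eq_toFinset_card']
    congr 1; ext b; simp [Finset.bipartiteAbove]
  · rw [← hB b (Set.mem_toFinset.1 hb), Set.ncard_eq_toFinset_card']
    congr 1; ext a; simp [Finset.bipartiteBelow]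

theorem ncard_eq_mul_of_fibres {γ δ : Type*} [Finite γ] [Finite δ] (A : Set γ) (B : Set δ) (φ : γ → δ)
    (hφ : ∀ a ∈ A, φ a ∈ B) {c : ℕ} (hc : ∀ b ∈ B, {a ∈ A | φ a = b}.ncard = c) :
    A.ncard = B.ncard * c := by
  have := ncard_mul_eq A B (fun a b => φ a = b) (e := 1) (N := c) (fun a ha => by
    rw [Set.ncard_eq_one]
    exact ⟨φ a, Set.ext fun b => ⟨fun h => h.2.symm, fun h => ⟨h ▸ hφ a ha, h.symm⟩⟩⟩) hc
  omega

/-- the Sylow subgroups contained in `X` -/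
def Syls (p : ℕ) (X : Subgroup G) : Set (Sylow p G) := {P | (P : Subgroup G) ≤ X}

theorem Syls_cj (g : G) (X : Subgroup G) :
    (fun P : Sylow p G => g • P) '' Syls p X = Syls p (cj g X) := by
  ext Q
  constructor
  · rintro ⟨P, hP, rfl⟩
    exact cj_mono g (show (P : Subgroup G) ≤ X from hP)
  · intro hQ
    refine ⟨g⁻¹ • Q, ?_, smul_inv_smul g Q⟩
    change ((g⁻¹ • Q : Sylow p G) : Subgroup G) ≤ X
    rw [coe_smul_sylow, ← cj_inv_cj g X]
    exact cj_mono _ hQ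

/-- fixed points in an orbit and Sylow subgroups of the stabiliser -/
theorem syls_orbit [Finite G] [Finite α] {X : Subgroup G} (x : α) (P : Sylow p G) (hP : (P : Subgroup G) ≤ X) :
    (orbit X x ∩ Fixed (P : Subgroup G)).ncard * (Syls p X).ncard
      = (orbit X x).ncard * (Syls p (X ⊓ stabilizer G x)).ncard := by
  rw [mul_comm]
  refine ncard_mul_eq (Syls p X) (orbit X x) (fun Q z => z ∈ (Fixed (Q : Subgroup G) : Set α))
    (fun Q hQ => ?_) (fun z hz => ?_)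
  · exact ncard_fixed_congr hQ hP (inv_orbit X x)
  · obtain ⟨g, rfl⟩ := hz
    have h : {Q ∈ Syls p X | (g • x : α) ∈ (Fixed (Q : Subgroup G) : Set α)}
        = Syls p (cj g.1 (X ⊓ stabilizer G x)) := by
      ext Q
      rw [cj_inf, cj_eq_self g.2, ← stab_smul]
      simp only [Syls, Set.mem_ofPred_eq, le_inf_iff]
      exact Iff.rfl
    rw [h, ← Syls_cj, Set.ncard_image_of_injective _ (MulAction.injective g.1)]

/-- an equivariant map has fibres of constant size on an orbit -/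
theorem ncard_fibre [Finite α] {X : Subgroup G} {x : α} {φ : α → β}
    (hφ : ∀ g ∈ X, ∀ z ∈ orbit X x, φ (g • z) = g • φ z) {b : β} (hb : b ∈ orbit X (φ x)) :
    {z ∈ orbit X x | φ z = b}.ncard = {z ∈ orbit X x | φ z = φ x}.ncard := by
  obtain ⟨g, rfl⟩ := hb
  rw [← Set.ncard_image_of_injective {z ∈ orbit X x | φ z = φ x} (MulAction.injective (β := α) g.1)]
  congr 1
  ext z
  constructor
  · rintro ⟨hz, hzφ⟩
    refine ⟨g.1⁻¹ • z, ⟨inv_orbit X x _ (X.inv_mem g.2) z hz, ?_⟩, smul_inv_smul _ z⟩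
    rw [hφ _ (X.inv_mem g.2) z hz, hzφ]
    exact inv_smul_smul g.1 (φ x)
  · rintro ⟨w, ⟨hw, hwφ⟩, rfl⟩
    exact ⟨inv_orbit X x _ g.2 w hw, by rw [hφ _ g.2 w hw, hwφ]; rfl⟩

theorem map_orbit {X : Subgroup G} {x : α} {φ : α → β}
    (hφ : ∀ g ∈ X, ∀ z ∈ orbit X x, φ (g • z) = g • φ z) :
    (∀ z ∈ orbit X x, φ z ∈ orbit X (φ x)) ∧ ∀ b ∈ orbit X (φ x), ∃ z ∈ orbit X x, φ z = b := by
  constructor
  · rintro _ ⟨g, rfl⟩
    exact ⟨g, (hφ g.1 g.2 x (mem_orbit_self x)).symm⟩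
  · rintro _ ⟨g, rfl⟩
    exact ⟨g • x, mem_orbit x g, hφ g.1 g.2 x (mem_orbit_self x)⟩

theorem map_fixed {X Q : Subgroup G} (hQ : Q ≤ X) {x : α} {φ : α → β}
    (hφ : ∀ g ∈ X, ∀ z ∈ orbit X x, φ (g • z) = g • φ z) {z : α} (hz : z ∈ orbit X x)
    (hzf : z ∈ (Fixed Q : Set α)) : φ z ∈ (Fixed Q : Set β) := fun q hq => by
  rw [← hφ q (hQ hq) z hz, hzf q hq]

/-- fixed points of a Sylow subgroup over the fibres of an equivariant map -/
theorem orbit_map_counts [Finite G] [Finite α] [Finite β] {X : Subgroup G} {x : α} {φ : α → β}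
    (hφ : ∀ g ∈ X, ∀ z ∈ orbit X x, φ (g • z) = g • φ z) {P : Sylow p G} (hP : (P : Subgroup G) ≤ X)
    (hf : (orbit X x ∩ Fixed (P : Subgroup G)).Nonempty) :
    ∃ c g : ℕ, 0 < g ∧ g ≤ c ∧ c ≡ g [MOD p] ∧ (orbit X x).ncard = (orbit X (φ x)).ncard * c ∧
      (orbit X x ∩ Fixed (P : Subgroup G)).ncard
        = (orbit X (φ x) ∩ Fixed (P : Subgroup G)).ncard * g ∧
      (g = c → ∀ z ∈ orbit X x, φ z ∈ (Fixed (P : Subgroup G) : Set β) →
        z ∈ (Fixed (P : Subgroup G) : Set α)) := by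
  obtain ⟨hmap, hsurj⟩ := map_orbit hφ
  obtain ⟨x₀, hx₀, hx₀f⟩ := hf
  set fib : β → Set α := fun b => {z ∈ orbit X x | φ z = b} with hfib
  have hinv : ∀ Y : Subgroup G, Y ≤ X → ∀ b ∈ (Fixed Y : Set β), Inv Y (fib b) := by
    intro Y hY b hb g hg z hz
    exact ⟨inv_orbit X x g (hY hg) z hz.1, by rw [hφ g (hY hg) z hz.1, hz.2, hb g hg]⟩
  have hb0 : φ x₀ ∈ (Fixed (P : Subgroup G) : Set β) := map_fixed hP hφ hx₀ hx₀f
  have hg : ∀ b ∈ orbit X (φ x) ∩ Fixed (P : Subgroup G),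
      (fib b ∩ Fixed (P : Subgroup G)).ncard = (fib (φ x₀) ∩ Fixed (P : Subgroup G)).ncard := by
    rintro b ⟨hb, hbf⟩
    obtain ⟨k, hk⟩ : ∃ k : X, k • φ x₀ = b := by
      have h0 := hmap x₀ hx₀
      rw [← orbit_eq_iff.2 h0] at hb
      exact hb
    have hPb : (P : Subgroup G) ≤ X ⊓ stabilizer G b := le_inf hP hbf
    have hQb : ((k.1 • P : Sylow p G) : Subgroup G) ≤ X ⊓ stabilizer G b := by
      rw [coe_smul_sylow]
      refine le_inf ((cj_mono _ hP).trans (cj_eq_self k.2).le) ?_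
      rw [← hk, Subgroup.smul_def, stab_smul]
      exact cj_mono _ hb0
    rw [ncard_fixed_congr hPb hQb (fun g hg => (hinv (X ⊓ stabilizer G b) inf_le_left b
      (fun q hq => (Subgroup.mem_inf.1 hq).2)) g hg)]
    rw [← Set.ncard_image_of_injective (fib (φ x₀) ∩ Fixed (P : Subgroup G))
      (MulAction.injective (β := α) k.1)]
    congr 1
    ext z
    rw [coe_smul_sylow]
    constructor
    · rintro ⟨hz, hzf⟩
      refine ⟨k.1⁻¹ • z, ⟨⟨inv_orbit X x _ (X.inv_mem k.2) z hz.1, ?_⟩, ?_⟩, smul_inv_smul _ z⟩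
      · rw [hφ _ (X.inv_mem k.2) z hz.1, hz.2, ← hk, Subgroup.smul_def, inv_smul_smul]
      · rw [← Fixed_cj k.1, smul_inv_smul]
        exact hzf
    · rintro ⟨w, ⟨hw, hwf⟩, rfl⟩
      exact ⟨⟨inv_orbit X x _ k.2 w hw.1, by rw [hφ _ k.2 w hw.1, hw.2]; exact hk⟩, (Fixed_cj k.1 _).2 hwf⟩
  refine ⟨(fib (φ x)).ncard, (fib (φ x₀) ∩ Fixed (P : Subgroup G)).ncard, ?_, ?_, ?_, ?_, ?_, ?_⟩
  · exact (Set.ncard_pos).2 ⟨x₀, ⟨hx₀, rfl⟩, hx₀f⟩
  · exact (ncard_fixed_le _ _).trans (ncard_fibre hφ (hmap x₀ hx₀)).le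
  · rw [← show (fib (φ x₀)).ncard = (fib (φ x)).ncard from ncard_fibre hφ (hmap x₀ hx₀)]
    exact ncard_fixed_modEq P.isPGroup' (hinv _ hP _ hb0)
  · exact ncard_eq_mul_of_fibres _ _ φ hmap fun b hb => ncard_fibre hφ hb
  · refine ncard_eq_mul_of_fibres _ _ φ (fun z hz => Set.mem_inter (hmap z hz.1) (map_fixed hP hφ hz.1 hz.2))
      fun b hb => ?_
    rw [← hg b hb]
    congr 1
    ext z
    simp only [fib, Set.mem_ofPred_eq, Set.mem_inter_iff]
    tauto
  · intro he z hz hzf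
    have hb : φ z ∈ orbit X (φ x) ∩ Fixed (P : Subgroup G) := ⟨hmap z hz, hzf⟩
    have h : fib (φ z) ∩ Fixed (P : Subgroup G) = fib (φ z) := by
      refine Set.eq_of_subset_of_ncard_le Set.inter_subset_left ?_
      rw [hg _ hb, he]
      exact (ncard_fibre hφ hb.1).le
    have hz' : z ∈ fib (φ z) := ⟨hz, rfl⟩
    rw [← h] at hz'
    exact hz'.2

end CfsgLib.SylowRatio
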