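import Cfsg.Agent.SylowRatio.Piece

/-!
# Counting incidences between suborbits and labels
-/

set_option linter.unusedSectionVars false

namespace CfsgLib.SylowRatio

open MulAction
open scoped Pointwise

universe u

variable {p : ℕ} [hp : Fact p.Prime] {G : Type u} [Group G] [Finite G] {α : Type u} [MulAction G α]
  [Finite α]

namespace Ctx

variable (C : Ctx p G α)
include C

theorem L_gen (a x : α) : pgen p (L p G a x) = L p G a x := pgen_idem _

/-- no suborbit can be attached equivariantly to fewer than `p` labels each, without common fixed points -/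
theorem no_relation {a x w : α} (h : Nice p G a x) (hw : w ≠ a) (R : α → Lab G → Prop)
    (hequi : ∀ g ∈ K p G a, ∀ z d, R z d → R (g • z) (g • d))
    (hfix : ∀ z ∈ orbit (K p G a) w, ∀ d ∈ (Lam p G a x : Set (Lab G)), R z d →
      d ∈ (Fixed (L p G a z) : Set (Lab G)))
    (hno : ∀ z ∈ orbit (K p G a) w, R z (lab p G a x) → ¬ L p G a x ≤ stabilizer G z)
    (hne : ∃ d ∈ (Lam p G a x : Set (Lab G)), R w d)
    (he : {d ∈ (Lam p G a x : Set (Lab G)) | R w d}.ncard + 1 ≤ p) : False := by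
  set b : Lab G := lab p G a x
  set Λ : Set (Lab G) := (Lam p G a x : Set (Lab G))
  set W := orbit (K p G a) w
  obtain ⟨P, hP⟩ := h.2.1
  have hPK : (P : Subgroup G) ≤ K p G a := hP.trans (L_le_K a x)
  have hiff : ∀ g ∈ K p G a, ∀ z d, R (g • z) (g • d) ↔ R z d := fun g hg z d =>
    ⟨fun h' => by simpa using hequi _ ((K p G a).inv_mem hg) _ _ h', hequi g hg z d⟩
  have hinvN : Inv (L p G a x) {z ∈ W | R z b} := fun g hg z hz =>
    ⟨inv_orbit _ _ g (L_le_K a x hg) z hz.1, by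
      have := hequi g (L_le_K a x hg) _ _ hz.2
      rwa [C.lab_fixed (L_le_K a x) (L_le_right a x) g hg] at this⟩
  have hrow : ∀ z ∈ W, {d ∈ Λ | R z d}.ncard = {d ∈ Λ | R w d}.ncard := by
    rintro _ ⟨⟨g, hg⟩, rfl⟩
    rw [← Set.ncard_image_of_injective {d ∈ Λ | R w d} (MulAction.injective (β := Lab G) g)]
    congr 1
    ext d
    constructor
    · rintro ⟨hd, hRd⟩
      refine ⟨g⁻¹ • d, ⟨inv_orbit _ _ _ ((K p G a).inv_mem hg) d hd, ?_⟩, smul_inv_smul g d⟩
      rw [← hiff g hg, smul_inv_smul]; exact hRd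
    · rintro ⟨d', ⟨hd', hR'⟩, rfl⟩
      exact ⟨inv_orbit _ _ g hg d' hd', hequi g hg _ _ hR'⟩
  have hcol : ∀ d ∈ Λ, {z ∈ W | R z d}.ncard = {z ∈ W | R z b}.ncard := by
    rintro _ ⟨⟨g, hg⟩, rfl⟩
    rw [← Set.ncard_image_of_injective {z ∈ W | R z b} (MulAction.injective (β := α) g)]
    congr 1
    ext z
    constructor
    · rintro ⟨hz, hRz⟩
      refine ⟨g⁻¹ • z, ⟨inv_orbit _ _ _ ((K p G a).inv_mem hg) z hz, ?_⟩, smul_inv_smul g z⟩
      rw [← hiff g hg, smul_inv_smul]; exact hRz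
    · rintro ⟨z', ⟨hz', hR'⟩, rfl⟩
      exact ⟨inv_orbit _ _ g hg z' hz', hequi g hg _ _ hR'⟩
  have hcolfix : ∀ d ∈ Λ ∩ Fixed (P : Subgroup G),
      {z ∈ W ∩ Fixed (P : Subgroup G) | R z d}.ncard
        = ({z ∈ W | R z b} ∩ Fixed (P : Subgroup G)).ncard := by
    rintro _ ⟨⟨⟨g, hg⟩, rfl⟩, hdf⟩
    have hgx : g • x ∈ cls p G a x := C.orbit_subset_cls h.1 ⟨⟨g, hg⟩, rfl⟩
    have hPgx : g • x ∈ (Fixed (P : Subgroup G) : Set α) :=
      C.fixed_of_lab hgx.1 (C.cls_spec h hgx).1.2.1 hPK (by rw [lab_equi hg]; exact hdf)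
    have hQ : ((g⁻¹ • P : Sylow p G) : Subgroup G) ≤ L p G a x := by
      rw [coe_smul_sylow, ← cj_inv_cj g (L p G a x)]
      refine cj_mono _ ?_
      rw [← L_smul, show g • a = a from K_le a hg]
      exact sylow_le_L (hPK.trans (K_le a)) hPgx
    rw [ncard_fixed_congr hP hQ hinvN, ← Set.ncard_image_of_injective
      ({z ∈ W | R z b} ∩ Fixed ((g⁻¹ • P : Sylow p G) : Subgroup G)) (MulAction.injective (β := α) g)]
    congr 1
    ext z
    rw [coe_smul_sylow]
    constructor
    · rintro ⟨⟨hz, hzf⟩, hRz⟩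
      refine ⟨g⁻¹ • z, ⟨⟨inv_orbit _ _ _ ((K p G a).inv_mem hg) z hz, ?_⟩, (Fixed_cj _ _).2 hzf⟩,
        smul_inv_smul g z⟩
      rw [← hiff g hg, smul_inv_smul]; exact hRz
    · rintro ⟨z', ⟨⟨hz', hR'⟩, hf'⟩, rfl⟩
      refine ⟨⟨inv_orbit _ _ g hg z' hz', ?_⟩, hequi g hg _ _ hR'⟩
      rw [← Fixed_cj g⁻¹, inv_smul_smul]
      exact hf'
  have hrowfix : ∀ z ∈ W ∩ Fixed (P : Subgroup G),
      {d ∈ Λ ∩ Fixed (P : Subgroup G) | R z d}.ncard = {d ∈ Λ | R w d}.ncard := by
    intro z hz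
    rw [← hrow z hz.1]
    congr 1
    ext d
    refine ⟨fun hd => ⟨hd.1.1, hd.2⟩, fun hd => ⟨⟨hd.1, fun q hq => ?_⟩, hd.2⟩⟩
    exact hfix z hz.1 d hd.1 hd.2 q (sylow_le_L (hPK.trans (K_le a)) hz.2 hq)
  have e1 := ncard_mul_eq W Λ R hrow hcol
  have e2 := ncard_mul_eq (W ∩ Fixed (P : Subgroup G)) (Λ ∩ Fixed (P : Subgroup G)) R hrowfix hcolfix
  have hEN : 0 ≤ E p (P : Subgroup G) {z ∈ W | R z b} :=
    set_nonneg C.hyp (X := L p G a x) (C.L_gen a x) (C.L_ne_top a x) hP hinvN fun z hz hf => hno z hz.1 hz.2 hf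
  have hNpos : 0 < {z ∈ W | R z b}.ncard := by
    obtain ⟨_, ⟨⟨g, hg⟩, rfl⟩, hRw⟩ := hne
    refine (Set.ncard_pos).2 (show ({z ∈ W | R z b}).Nonempty from ⟨g⁻¹ • w,
      inv_orbit _ _ _ ((K p G a).inv_mem hg) w (mem_orbit_self w), ?_⟩)
    rw [← hiff g hg, smul_inv_smul]
    exact hRw
  obtain ⟨t, ht⟩ := (Nat.modEq_iff_dvd' (ncard_fixed_le (P : Subgroup G) {z ∈ W | R z b})).1
    (ncard_fixed_modEq (p := p) P.isPGroup' (hinvN.mono hP)).symm
  have hle := ncard_fixed_le (P : Subgroup G) {z ∈ W | R z b}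
  obtain ⟨-, -, hrf⟩ := C.Lam_counts h.1 h.2.1 hPK
  have hEW : E p (P : Subgroup G) W ≤ p * ((p : ℤ) - 1) := by
    rw [← C.EA_eq a (inv_orbit _ _) hPK]; exact C.EA_orbit_le hw
  unfold E at hEN hEW
  set m := W.ncard
  set f := (W ∩ Fixed (P : Subgroup G)).ncard
  set r := Λ.ncard
  set f' := (Λ ∩ Fixed (P : Subgroup G)).ncard
  set N := {z ∈ W | R z b}.ncard
  set N' := ({z ∈ W | R z b} ∩ Fixed (P : Subgroup G)).ncard
  set e := {d ∈ Λ | R w d}.ncard
  have hp3 := C.cast_three_le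
  have hNp : (p : ℤ) ≤ (N : ℤ) := by
    rcases Nat.eq_zero_or_pos t with rfl | ht0
    · exfalso
      have : N' = N := by omega
      rw [this] at hEN
      have : (1 : ℤ) ≤ (N : ℤ) := by exact_mod_cast hNpos
      nlinarith
    · have := Nat.le_mul_of_pos_right p ht0
      exact_mod_cast show p ≤ N by omega
  have hgap : (p : ℤ) ≤ (r : ℤ) - f' := by
    have : ((f' + p : ℕ) : ℤ) ≤ r := by exact_mod_cast hrf
    push_cast at this; linarith
  have he' : (e : ℤ) ≤ (p : ℤ) - 1 := by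
    have : ((e + 1 : ℕ) : ℤ) ≤ p := by exact_mod_cast he
    push_cast at this; linarith
  have e1' : (m : ℤ) * e = r * N := by exact_mod_cast e1
  have e2' : (f : ℤ) * e = f' * N' := by exact_mod_cast e2
  have key : ((p : ℤ) - 1) * ((r : ℤ) - f') * N
      ≤ (((p : ℤ) - 1) * m - (2 * (p : ℤ) - 1) * f) * e := by
    have := mul_le_mul_of_nonneg_left (sub_nonneg.1 hEN) (Int.natCast_nonneg f')
    nlinarith
  have h1 : ((p : ℤ) - 1) * p * p ≤ ((p : ℤ) - 1) * ((r : ℤ) - f') * N :=
    mul_le_mul (mul_le_mul_of_nonneg_left hgap (by linarith)) hNp (by linarith) (by nlinarith)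
  have h2 : (((p : ℤ) - 1) * m - (2 * (p : ℤ) - 1) * f) * e ≤ p * ((p : ℤ) - 1) * e :=
    mul_le_mul_of_nonneg_right hEW (Int.natCast_nonneg e)
  nlinarith [mul_le_mul_of_nonneg_left he' (show (0 : ℤ) ≤ p * ((p : ℤ) - 1) by nlinarith)]

theorem max_eq {a x b y : α} (h : Max p G a x) (h' : Max p G b y) :
    EA p G a (Lam p G a x : Set (Lab G)) = EA p G b (Lam p G b y : Set (Lab G)) :=
  le_antisymm (h'.2 a x h.1) (h.2 b y h'.1)

theorem smul_Vset (g : G) (a x : α) : g • Vset p G a x = Vset p G (g • a) (g • x) := by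
  unfold Vset
  rw [Set.smul_set_insert, smul_cls]

section Closed

variable (hP : ∀ a x : α, Max p G a x → Piece p G a x)
include hP

theorem Vset_eq_of_two {a x b y t t' : α} (h : Max p G a x) (h' : Max p G b y) (ht : t ∈ Vset p G a x)
    (ht2 : t ∈ Vset p G b y) (ht' : t' ∈ Vset p G a x) (ht2' : t' ∈ Vset p G b y) (hne : t' ≠ t) :
    Vset p G a x = Vset p G b y :=
  (C.Vset_pair hP h ht ht' hne).2.symm.trans (C.Vset_pair hP h' ht2 ht2' hne).2

/-- two closed sets through one point are impossible -/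
theorem no_two {a c y : α} (hac : Max p G a c) (hcy : Max p G c y)
    (hne : Vset p G c y ≠ Vset p G a c) : False := by
  have hca := C.max_symm hP hac
  have hyc := C.max_symm hP hcy
  have haV : a ∈ Vset p G a c := Set.mem_insert _ _
  have hcV : c ∈ Vset p G a c := Or.inr (mem_cls_self hac.1.1)
  have hyV : y ∉ Vset p G a c := fun hy => hne ((C.Vset_eq_of_two hP hac hcy hcV (Set.mem_insert _ _) hy
    (Or.inr (mem_cls_self hcy.1.1)) hcy.1.1).symm)
  have hya : y ≠ a := fun e => hyV (e ▸ haV)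
  have hW : ∀ z ∈ orbit (K p G a) y, z ∉ Vset p G a c := by
    rintro _ ⟨⟨g, hg⟩, rfl⟩ hz
    refine hyV (Or.inr ?_)
    have hz' : g • y ∈ cls p G a c := hz.resolve_left
      fun e => hya (MulAction.injective g (e.trans (K_le a hg).symm))
    simpa using C.cls_inv a c g⁻¹ ((K p G a).inv_mem hg) _ hz'
  refine C.no_relation hac.1 hya (fun z d => ∃ t ∈ cls p G a c, (lab p G a t : Lab G) = d ∧ Max p G z t)
    ?_ ?_ ?_ ⟨_, lab_mem_Lam a c, c, mem_cls_self hac.1.1, rfl, hyc⟩ ?_
  · rintro g hg z d ⟨t, ht, rfl, hzt⟩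
    exact ⟨g • t, C.cls_inv a c g hg t ht, lab_equi hg t, C.max_smul g hzt⟩
  · rintro z hz _ - ⟨t, ht, rfl, hzt⟩
    refine C.lab_fixed (L_le_K a z) fun m hm => ?_
    by_contra hmt
    refine hW z hz ?_
    rw [C.Vset_eq_of_two hP hac hzt (Or.inr ht) (Or.inr (mem_cls_self hzt.1.1))
      (Or.inr (C.cls_inv a c m (L_le_K a z hm) t ht))
      (Or.inr (C.cls_inv z t m (L_le_K' a z hm) t (mem_cls_self hzt.1.1))) hmt]
    exact Set.mem_insert _ _
  · intro z hz _ hfix
    have hza : z ≠ a := fun e => hW z hz (e ▸ haV)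
    exact hW z hz (Or.inr ⟨hza, by rw [C.lab_eq_of_fixed hac.1 hza hfix]; exact lab_mem_Lam a c⟩)
  · set D := {d ∈ (Lam p G a c : Set (Lab G)) | ∃ t ∈ cls p G a c, (lab p G a t : Lab G) = d ∧ Max p G y t}
    by_cases h0 : EA p G a (Lam p G a c : Set (Lab G)) = 0
    · -- exact suborbits: the labels are fixed by a Sylow subgroup
      have hcy0 : EA p G c (Lam p G c y : Set (Lab G)) = 0 := (C.max_eq hcy hac).trans h0
      obtain ⟨P, hPL⟩ := hac.1.2.1
      obtain ⟨c₀, -, -, hEO⟩ := C.EA_orbit_eq hcy.1.1 hcy.1.2.1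
      rw [hcy0, mul_zero, C.EA_eq c (inv_orbit _ _) (hPL.trans (L_le_K' a c))] at hEO
      have hsub : orbit (L p G a c) y ⊆ orbit (K p G c) y := by
        rintro _ ⟨⟨g, hg⟩, rfl⟩; exact ⟨⟨g, L_le_K' a c hg⟩, rfl⟩
      have hnf : ∀ z ∈ orbit (K p G c) y, z ∉ (Fixed (L p G a c) : Set α) := by
        intro z hz hf
        have hz' := C.orbit_subset_cls hcy.1.1 hz
        have e := C.lab_eq_of_fixed hca.1 hz'.1 (show L p G c a ≤ stabilizer G z by rw [L_comm]; exact hf)
        have h2 : (lab p G c z : Lab G) ∈ (Lam p G c a : Set (Lab G)) := by rw [e]; exact lab_mem_Lam c a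
        have : (Lam p G c y : Set (Lab G)) = Lam p G c a := by
          rw [← Lam_eq_of_mem hz'.2, Lam_eq_of_mem h2]
        refine hne ?_
        rw [C.Vset_swap hP hac]
        unfold Vset cls
        rw [this]
      rw [E_diff (p := p) (P : Subgroup G) hsub] at hEO
      have n1 := set_nonneg C.hyp (X := L p G a c) (C.L_gen a c) (C.L_ne_top a c) hPL
        (s := orbit (K p G c) y \ orbit (L p G a c) y)
        (((inv_orbit _ y).mono (L_le_K' a c)).diff (inv_orbit _ y)) (fun z hz => hnf z hz.1)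
      have n2 := set_nonneg C.hyp (X := L p G a c) (C.L_gen a c) (C.L_ne_top a c) hPL (s := orbit (L p G a c) y)
        (inv_orbit _ y) (fun z hz => hnf z (hsub hz))
      have hne' : (orbit (L p G a c) y ∩ Fixed (P : Subgroup G)).Nonempty := by
        by_contra hno
        have hE := E_of_noFixed (p := p) (Set.not_nonempty_iff_eq_empty.1 hno)
        have hpos : (1 : ℤ) ≤ ((orbit (L p G a c) y).ncard : ℤ) := by
          exact_mod_cast (Set.ncard_pos).2 (show (orbit (L p G a c) y).Nonempty from ⟨y, mem_orbit_self y⟩)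
        nlinarith [C.cast_three_le]
      obtain ⟨_, ⟨⟨l, hl⟩, rfl⟩, hzf⟩ := hne'
      have hQ : ((l⁻¹ • P : Sylow p G) : Subgroup G) ≤ L p G a y := by
        rw [coe_smul_sylow, ← cj_inv_cj l (L p G a y)]
        refine cj_mono _ ?_
        rw [← L_smul, show l • a = a from L_le_left a c hl]
        exact sylow_le_L (hPL.trans (L_le_left a c)) hzf
      obtain ⟨-, hf⟩ := C.exact_small hac.1 h0 (hQ.trans (L_le_K a y))
      refine le_trans (Nat.add_le_add_right (Set.ncard_le_ncard ?_) 1) hf.le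
      rintro d ⟨hd, t, ht, rfl, hyt⟩
      refine ⟨hd, C.lab_fixed (hQ.trans (L_le_K a y)) fun q hq => ?_⟩
      by_contra hqt
      refine hyV ?_
      rw [C.Vset_eq_of_two hP hac hyt (Or.inr ht) (Or.inr (mem_cls_self hyt.1.1))
        (Or.inr (C.cls_inv a c q (L_le_K a y (hQ hq)) t ht))
        (Or.inr (C.cls_inv y t q (L_le_K' a y (hQ hq)) t (mem_cls_self hyt.1.1))) hqt]
      exact Set.mem_insert _ _
    · -- otherwise the classes at `y` take up the excess
      classical
      have hsel : ∀ d : D, ∃ t ∈ cls p G a c, (lab p G a t : Lab G) = d.1 ∧ Max p G y t := fun d => d.2.2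
      choose T hT hTlab hTmax using hsel
      have := Fintype.ofFinite D
      have hstep : ∀ s : Finset D, (p : ℤ) * s.card ≤ EA p G y (⋃ d ∈ s, cls p G y (T d)) := by
        intro s
        induction s using Finset.induction_on with
        | empty => simp [EA]
        | @insert d s hd ih =>
          rw [Finset.set_biUnion_insert, EA, E_union]
          · have hk := C.nice_spec (hTmax d).1
            obtain ⟨k, -, hkp, hk, -, -⟩ := hk
            obtain ⟨-, -, hcnt⟩ := C.cls_counts (hTmax d).1 (C.syl_le y)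
            have hpos : (p : ℤ) ≤ EA p G y (cls p G y (T d)) := by
              rw [hcnt, hk]
              have hS : (1 : ℤ) ≤ (Sz p G y (T d) : ℤ) := by exact_mod_cast C.Sz_pos (hTmax d).1.1
              have hkp' : (1 : ℤ) ≤ (p : ℤ) - k := by
                have : k ≠ p := fun e => h0 (by rw [C.max_eq hac (hTmax d), hk, e]; ring)
                have : ((k + 1 : ℕ) : ℤ) ≤ p := by exact_mod_cast show k + 1 ≤ p by omega
                push_cast at this; linarith
              nlinarith [C.cast_three_le, mul_le_mul hS hkp' (by linarith) (by linarith)]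
            rw [Finset.card_insert_of_notMem hd]
            push_cast
            unfold EA at hpos ih
            linarith
          · simp only [Set.disjoint_iUnion_right]
            intro d' hd'
            rw [Set.disjoint_left]
            intro z hz hz'
            have hcls : cls p G y (T d) = cls p G y (T d') := by
              rw [← cls_eq_of_mem hz, cls_eq_of_mem hz']
            have hV : Vset p G y (T d) = Vset p G y (T d') := by unfold Vset; rw [hcls]
            by_cases hTT : T d' = T d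
            · exact hd ((Subtype.ext ((hTlab d).symm.trans (hTT ▸ hTlab d'))) ▸ hd')
            refine hyV ?_
            rw [C.Vset_eq_of_two hP hac (hTmax d) (Or.inr (hT d)) (Or.inr (mem_cls_self (hTmax d).1.1))
              (Or.inr (hT d')) (hV.symm ▸ Or.inr (mem_cls_self (hTmax d').1.1)) hTT]
            exact Set.mem_insert _ _
      have hU : Inv (K p G y) (⋃ d ∈ (Finset.univ : Finset D), cls p G y (T d)) := by
        intro g hg z hz
        simp only [Set.mem_iUnion] at hz ⊢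
        obtain ⟨d, hd, hz⟩ := hz
        exact ⟨d, hd, C.cls_inv y _ g hg z hz⟩
      have hb := (C.EA_mono hU (C.inv_compl y) (fun z hz => by
        simp only [Set.mem_iUnion] at hz
        obtain ⟨d, -, hz⟩ := hz
        exact hz.1) (fun h => h rfl)).trans (C.EA_compl_le y)
      have := (hstep Finset.univ).trans hb
      rw [Finset.card_univ, ← Nat.card_eq_fintype_card, Nat.card_coe_set_eq] at this
      have h' := le_of_mul_le_mul_left this (by exact_mod_cast hp.out.pos)
      omega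

/-- hence the closed set is everything -/
theorem Vset_eq_univ {a x : α} (h : Max p G a x) : Vset p G a x = Set.univ := by
  have hblock : IsBlock G (Vset p G a x) := by
    intro g₁ g₂ hne
    rw [Set.disjoint_left]
    intro c hc₁ hc₂
    rw [C.smul_Vset] at hc₁ hc₂ hne
    rw [C.smul_Vset] at hne
    have hm₁ := C.max_smul g₁ h
    have hm₂ := C.max_smul g₂ h
    obtain ⟨a', ha', hne₁⟩ : ∃ a' ∈ Vset p G (g₁ • a) (g₁ • x), a' ≠ c := by
      by_cases e : g₁ • a = c
      · exact ⟨g₁ • x, Or.inr (mem_cls_self hm₁.1.1), fun e' => hm₁.1.1 (e'.trans e.symm)⟩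
      · exact ⟨_, Set.mem_insert _ _, e⟩
    obtain ⟨y', hy', hne₂⟩ : ∃ y' ∈ Vset p G (g₂ • a) (g₂ • x), y' ≠ c := by
      by_cases e : g₂ • a = c
      · exact ⟨g₂ • x, Or.inr (mem_cls_self hm₂.1.1), fun e' => hm₂.1.1 (e'.trans e.symm)⟩
      · exact ⟨_, Set.mem_insert _ _, e⟩
    obtain ⟨hac, hV₁⟩ := C.Vset_pair hP hm₁ ha' hc₁ hne₁.symm
    obtain ⟨hcy, hV₂⟩ := C.Vset_pair hP hm₂ hc₂ hy' hne₂
    exact C.no_two hP hac hcy (by rw [hV₁, hV₂]; exact hne.symm)
  have := C.prim
  rcases this.isTrivialBlock_of_isBlock hblock with hs | hu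
  · exact absurd (hs (Or.inr (mem_cls_self h.1.1)) (Set.mem_insert _ _)) h.1.1
  · exact hu

end Closed

end Ctx

end CfsgLib.SylowRatio
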