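import Cfsg.Agent.SylowRatio.Labels

/-!
# Facts on nice suborbits
-/

set_option linter.unusedSectionVars false

namespace CfsgLib.SylowRatio

open MulAction
open scoped Pointwise

universe u

variable {p : ℕ} [hp : Fact p.Prime] {G : Type u} [Group G] [Finite G] {α : Type u} [MulAction G α]
  [Finite α]

theorem not_dvd_orbit {X : Subgroup G} {P : Sylow p G} (hP : (P : Subgroup G) ≤ X) {γ : Type*}
    [MulAction G γ] [Finite γ] {u : γ} (h : u ∈ (Fixed (P : Subgroup G) : Set γ)) :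
    ¬ p ∣ (orbit X u).ncard := by
  rw [← MulAction.index_stabilizer]
  intro hd
  have hle : ((P.subtype hP : Sylow p X) : Subgroup X) ≤ stabilizer X u := fun q hq => h q.1 hq
  exact (P.subtype hP).not_dvd_index (hd.trans (Subgroup.index_dvd_of_le hle))

theorem tuple_contra {γ : Type u} [MulAction G γ] [Finite γ] {X : Subgroup G} {s : Set γ}
    (hs : Inv X s) (ht : TupleTrans X s p) {P : Sylow p G} (hP : (P : Subgroup G) ≤ X)
    (hf : p ≤ (s ∩ Fixed (P : Subgroup G)).ncard) : False := by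
  classical
  have := Fintype.ofFinite γ
  have h1 : Fintype.card (Fin p) ≤ Fintype.card ↥(s ∩ Fixed (P : Subgroup G)) := by
    rw [Fintype.card_fin, ← Nat.card_eq_fintype_card, Nat.card_coe_set_eq]; exact hf
  obtain ⟨w⟩ := Function.Embedding.nonempty_of_card_le h1
  let u : Fin p → γ := fun i => (w i).1
  have hu : Function.Injective u := Subtype.val_injective.comp w.injective
  have hufix : u ∈ (Fixed (P : Subgroup G) : Set (Fin p → γ)) := fun q hq =>
    funext fun i => (w i).2.2 q hq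
  refine not_dvd_orbit hP hufix ?_
  have hcard : (orbit X u).ncard = Nat.card (Fin p ↪ s) := by
    rw [← Nat.card_coe_set_eq]
    refine Nat.card_congr (Equiv.ofBijective
      (fun v => ⟨fun i => ⟨v.1 i, ?_⟩, fun i j hij => ?_⟩) ⟨fun v v' hv => ?_, fun e => ?_⟩)
    · obtain ⟨g, hg⟩ := v.2
      rw [← hg]; exact hs g.1 g.2 _ (w i).2.1
    · obtain ⟨g, hg⟩ := v.2
      have hij' := congrArg Subtype.val hij
      simp only [← hg] at hij'
      exact hu (MulAction.injective (β := γ) g.1 hij')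
    · exact Subtype.ext (funext fun i => congrArg Subtype.val (DFunLike.congr_fun hv i))
    · obtain ⟨g, hg, hgv⟩ := ht u (fun i => (e i).1) hu (Subtype.val_injective.comp e.injective)
        (fun i => (w i).2.1) (fun i => (e i).2)
      exact ⟨⟨fun i => (e i).1, ⟨⟨g, hg⟩, funext hgv⟩⟩, Function.Embedding.ext fun i => rfl⟩
  rw [hcard, Nat.card_eq_fintype_card, Fintype.card_embedding_eq, Fintype.card_fin]
  exact (Nat.dvd_factorial hp.out.pos le_rfl).trans (Nat.factorial_dvd_descFactorial _ _)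

theorem Fx_smul {a x : α} (g : G) (h : Fx p G a x) : Fx p G (g • a) (g • x) := by
  obtain ⟨P, hP⟩ := h
  exact ⟨g • P, by rw [coe_smul_sylow, L_smul]; exact cj_mono g hP⟩

namespace Ctx

variable (C : Ctx p G α)
include C

theorem EA_Lam_smul (g : G) (a x : α) :
    EA p G (g • a) (Lam p G (g • a) (g • x) : Set (Lab G)) = EA p G a (Lam p G a x : Set (Lab G)) := by
  rw [← smul_Lam]
  exact C.EA_smul g a (inv_orbit _ _)

theorem nice_smul (g : G) {a x : α} (h : Nice p G a x) : Nice p G (g • a) (g • x) :=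
  ⟨fun he => h.1 (MulAction.injective g he), Fx_smul g h.2.1, by rw [C.EA_Lam_smul]; exact h.2.2⟩

theorem cls_inv (a x : α) : Inv (K p G a) (cls p G a x) := by
  rintro g hg y ⟨hy, hy'⟩
  refine ⟨fun h => hy (MulAction.injective g (h.trans (K_le a hg).symm)), ?_⟩
  rw [lab_equi hg]
  exact inv_orbit _ _ g hg _ hy'

theorem cls_spec {a x y : α} (h : Nice p G a x) (hy : y ∈ cls p G a x) :
    Nice p G a y ∧ (Lam p G a y : Set (Lab G)) = Lam p G a x := by
  have hL := Lam_eq_of_mem hy.2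
  refine ⟨⟨hy.1, ?_, by rw [hL]; exact h.2.2⟩, hL⟩
  obtain ⟨⟨g, hg⟩, hgy⟩ := hy.2
  obtain ⟨P, hP⟩ := h.2.1
  refine ⟨g • P, ?_⟩
  rw [coe_smul_sylow, show (L p G a y : Subgroup G) = cj g (L p G a x) from
    (congrArg Lab.val hgy).symm]
  exact cj_mono g hP

theorem orbit_subset_cls {a x : α} (hx : x ≠ a) : orbit (K p G a) x ⊆ cls p G a x :=
  (C.cls_inv a x).orbit_subset (mem_cls_self hx)

theorem nice_orbit {a x z : α} (h : Nice p G a x) (hz : z ∈ orbit (K p G a) x) : Nice p G a z :=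
  (C.cls_spec h (C.orbit_subset_cls h.1 hz)).1

theorem Lam_counts {a x : α} (hx : x ≠ a) (hF : Fx p G a x) {P : Sylow p G}
    (hP : (P : Subgroup G) ≤ K p G a) :
    ((Lam p G a x : Set (Lab G)) ∩ Fixed (P : Subgroup G)).Nonempty ∧
      EA p G a (Lam p G a x : Set (Lab G)) = ((p : ℤ) - 1) * (Lam p G a x : Set (Lab G)).ncard
        - (2 * (p : ℤ) - 1) * (((Lam p G a x : Set (Lab G)) ∩ Fixed (P : Subgroup G)).ncard : ℤ) ∧
      ((Lam p G a x : Set (Lab G)) ∩ Fixed (P : Subgroup G)).ncard + p ≤ (Lam p G a x : Set (Lab G)).ncard := by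
  obtain ⟨Q, hQ⟩ := hF
  have hEA := C.EA_eq a (inv_orbit (K p G a) (lab p G a x : Lab G)) hP
  have hne : ((Lam p G a x : Set (Lab G)) ∩ Fixed (P : Subgroup G)).Nonempty := by
    rw [← Set.ncard_pos]
    unfold Lam
    rw [← ncard_fixed_congr (hQ.trans (L_le_K a x)) hP (inv_orbit _ _), Set.ncard_pos]
    exact ⟨_, mem_orbit_self _, C.lab_fixed (hQ.trans (L_le_K a x)) (hQ.trans (L_le_right a x))⟩
  refine ⟨hne, hEA, ?_⟩
  obtain ⟨d, hd⟩ := (Nat.modEq_iff_dvd' (ncard_fixed_le (P : Subgroup G) (Lam p G a x : Set (Lab G)))).1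
    (ncard_fixed_modEq (p := p) P.isPGroup' ((inv_orbit _ _).mono hP)).symm
  rcases Nat.eq_zero_or_pos d with rfl | hd0
  · exfalso
    have h0 := C.EA_Lam_nonneg hx ⟨Q, hQ⟩
    have he : ((Lam p G a x : Set (Lab G)) ∩ Fixed (P : Subgroup G)).ncard
        = (Lam p G a x : Set (Lab G)).ncard := by
      have := ncard_fixed_le (P : Subgroup G) (Lam p G a x : Set (Lab G))
      omega
    rw [Lam, hEA] at h0
    unfold E at h0
    rw [show (orbit (K p G a) (lab p G a x : Lab G) ∩ Fixed (P : Subgroup G)).ncard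
      = (orbit (K p G a) (lab p G a x : Lab G)).ncard from he] at h0
    have hpos : (1 : ℤ) ≤ ((orbit (K p G a) (lab p G a x : Lab G)).ncard : ℤ) := by
      exact_mod_cast (Set.ncard_pos).2 ⟨_, mem_orbit_self _⟩
    nlinarith [C.cast_three_le]
  · have := Nat.le_mul_of_pos_right p hd0
    have := ncard_fixed_le (P : Subgroup G) (Lam p G a x : Set (Lab G))
    omega

theorem Lam_syls {a x : α} (hx : x ≠ a) (hF : Fx p G a x) {P : Sylow p G}
    (hP : (P : Subgroup G) ≤ K p G a) :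
    ((Lam p G a x : Set (Lab G)) ∩ Fixed (P : Subgroup G)).ncard * (Syls p (K p G a)).ncard
      = (Lam p G a x : Set (Lab G)).ncard * (Syls p (L p G a x)).ncard := by
  rw [show Syls p (L p G a x) = Syls p (K p G a ⊓ stabilizer G (lab p G a x : Lab G)) from ?_]
  · exact syls_orbit _ P hP
  obtain ⟨-, hpg⟩ := C.lab_main hx hF
  ext Q
  constructor
  · intro hQ
    exact le_trans hQ (hpg ▸ pgen_le _)
  · intro hQ
    rw [← hpg]
    exact le_pgen Q.isPGroup' hQ

theorem ratio_symm {a x : α} (hx : x ≠ a) {P : Sylow p G} (hP : (P : Subgroup G) ≤ L p G a x) :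
    ((Lam p G a x : Set (Lab G)) ∩ Fixed (P : Subgroup G)).ncard * (Lam p G x a : Set (Lab G)).ncard
      = ((Lam p G x a : Set (Lab G)) ∩ Fixed (P : Subgroup G)).ncard
        * (Lam p G a x : Set (Lab G)).ncard := by
  have h1 := C.Lam_syls hx ⟨P, hP⟩ (hP.trans (L_le_K a x))
  have h2 := C.Lam_syls hx.symm ⟨P, by rw [L_comm x a]; exact hP⟩ (hP.trans (L_le_K' a x))
  rw [← L_comm a x, ← C.card_Syls_K a x] at h2
  have hS : 0 < (Syls p (K p G a)).ncard := (Set.ncard_pos).2 ⟨_, C.syl_le a⟩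
  refine Nat.eq_of_mul_eq_mul_right hS ?_
  linear_combination (Lam p G x a : Set (Lab G)).ncard * h1 - (Lam p G a x : Set (Lab G)).ncard * h2

theorem EA_ratio {a x : α} (hx : x ≠ a) (hF : Fx p G a x) :
    EA p G a (Lam p G a x : Set (Lab G)) * (Lam p G x a : Set (Lab G)).ncard
      = EA p G x (Lam p G x a : Set (Lab G)) * (Lam p G a x : Set (Lab G)).ncard := by
  obtain ⟨P, hP⟩ := hF
  obtain ⟨-, e1, -⟩ := C.Lam_counts hx ⟨P, hP⟩ (hP.trans (L_le_K a x))
  obtain ⟨-, e2, -⟩ := C.Lam_counts hx.symm ⟨P, by rw [L_comm x a]; exact hP⟩ (hP.trans (L_le_K' a x))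
  rw [e1, e2]
  have h : ((((Lam p G a x : Set (Lab G)) ∩ Fixed (P : Subgroup G)).ncard : ℕ) : ℤ)
      * (Lam p G x a : Set (Lab G)).ncard
      = (((Lam p G x a : Set (Lab G)) ∩ Fixed (P : Subgroup G)).ncard : ℤ)
        * (Lam p G a x : Set (Lab G)).ncard := by exact_mod_cast C.ratio_symm hx hP
  linear_combination -(2 * (p : ℤ) - 1) * h

/-- the orbits other than a bad one have excess zero -/
theorem other_of_not_nice {a x y : α} (hx : x ≠ a) (h : ¬ Nice p G a x) (hy : y ≠ a)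
    (hyx : y ∉ orbit (K p G a) x) :
    EA p G a (orbit (K p G a) y) = 0 ∧ Nice p G a y ∧ EA p G a (Lam p G a y : Set (Lab G)) = 0 := by
  have hsum := C.EA_two_orbits hx hy hyx
  rw [(C.not_nice hx h).1] at hsum
  have hnn : 0 ≤ EA p G a (orbit (K p G a) y) :=
    C.EA_nonneg (inv_orbit _ _) fun ha => C.orbit_subset_compl hy ha rfl
  have h0 : EA p G a (orbit (K p G a) y) = 0 := by linarith
  have hp3 := C.cast_three_le
  have hn : Nice p G a y := by
    by_contra hn
    rw [(C.not_nice hy hn).1] at h0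
    nlinarith
  refine ⟨h0, hn, ?_⟩
  obtain ⟨c, hc, -, hE⟩ := C.EA_orbit_eq hy hn.2.1
  rw [hE] at h0
  rcases mul_eq_zero.1 h0 with h' | h'
  · omega
  · exact h'

theorem nice_symm {a x : α} (h : Nice p G a x) : Nice p G x a := by
  have hF : Fx p G x a := by obtain ⟨P, hP⟩ := h.2.1; exact ⟨P, by rw [L_comm x a]; exact hP⟩
  by_contra hn
  have h0 : EA p G a (Lam p G a x : Set (Lab G)) = 0 := by
    have := C.prim.toIsPretransitive
    obtain ⟨g, hg⟩ := MulAction.exists_smul_eq G x a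
    have hn' : ¬ Nice p G a (g • a) := fun h' => hn (by
      have := C.nice_smul g⁻¹ h'
      rwa [show g⁻¹ • a = x by rw [inv_smul_eq_iff, hg], inv_smul_smul] at this)
    have hga : g • a ≠ a := fun he => h.1 (MulAction.injective g (hg.trans he.symm))
    refine (C.other_of_not_nice hga hn' h.1 fun hx => hn' ?_).2.2
    exact C.nice_orbit h (by rw [orbit_eq_iff.2 hx]; exact mem_orbit_self _)
  obtain ⟨-, hc⟩ := C.not_nice h.1.symm hn
  have hr := C.EA_ratio h.1 h.2.1
  rw [h0, (hc hF).2, zero_mul] at hr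
  have hpos : (1 : ℤ) ≤ ((Lam p G a x : Set (Lab G)).ncard : ℤ) := by
    exact_mod_cast (Set.ncard_pos).2 ⟨_, lab_mem_Lam a x⟩
  nlinarith [C.cast_three_le, mul_pos (show (0 : ℤ) < p by linarith [C.cast_three_le])
    (show (0 : ℤ) < (p : ℤ) - 1 by linarith [C.cast_three_le])]

/-- a two-point label is maximal among proper subgroups generated by `p`-elements -/
theorem maximal {a x : α} (h : Nice p G a x) {Y : Subgroup G} (hY : pgen p Y = Y)
    (hL : L p G a x ≤ Y) (hK : Y ≤ K p G a) : Y = L p G a x ∨ Y = K p G a := by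
  obtain ⟨-, hpg⟩ := C.lab_main h.1 h.2.1
  obtain ⟨k, -, -, -, -, htr⟩ := C.nice_spec h
  set N := K p G a ⊓ stabilizer G (lab p G a x : Lab G) with hN
  by_cases hYN : Y ≤ N
  · refine Or.inl (le_antisymm ?_ hL)
    rw [← hY, ← hpg]
    exact pgen_mono hYN
  right
  obtain ⟨g, hg, hgb⟩ : ∃ g ∈ Y, g • (lab p G a x : Lab G) ≠ lab p G a x := by
    by_contra hh
    push Not at hh
    exact hYN fun g hg => ⟨hK hg, hh g hg⟩
  have horb : orbit Y (lab p G a x : Lab G) = (Lam p G a x : Set (Lab G)) := by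
    refine Set.Subset.antisymm ?_ fun c hc => ?_
    · rintro _ ⟨y, rfl⟩
      exact ⟨⟨y.1, hK y.2⟩, rfl⟩
    · by_cases hcb : c = lab p G a x
      · rw [hcb]; exact mem_orbit_self _
      obtain ⟨l, hl, hlc⟩ := htr _ (show g • (lab p G a x : Lab G) ∈ Lam p G a x from ⟨⟨g, hK hg⟩, rfl⟩)
        c hc hgb hcb
      exact ⟨⟨l * g, Y.mul_mem (hL hl) hg⟩, by change (l * g) • _ = c; rw [mul_smul, hlc]⟩
  obtain ⟨P, hP⟩ := h.2.1
  have h1 := syls_orbit (p := p) (X := Y) (lab p G a x : Lab G) P (hP.trans hL)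
  have h2 := syls_orbit (p := p) (X := K p G a) (lab p G a x : Lab G) P (hP.trans (L_le_K a x))
  have hsub : Syls p (Y ⊓ stabilizer G (lab p G a x : Lab G)) = Syls p N := by
    ext Q
    refine ⟨fun hQ => le_trans hQ (inf_le_inf_right _ hK), fun hQ => ?_⟩
    have hQL : (Q : Subgroup G) ≤ L p G a x := hpg ▸ le_pgen Q.isPGroup' hQ
    exact le_inf (hQL.trans hL) (le_trans hQ inf_le_right)
  rw [horb, hsub] at h1
  have hpos : 0 < ((Lam p G a x : Set (Lab G)) ∩ Fixed (P : Subgroup G)).ncard :=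
    (Set.ncard_pos).2 (C.Lam_counts h.1 h.2.1 (hP.trans (L_le_K a x))).1
  have heq : (Syls p (K p G a)).ncard = (Syls p Y).ncard :=
    Nat.eq_of_mul_eq_mul_left hpos (h2.trans h1.symm)
  have hS : Syls p Y = Syls p (K p G a) :=
    Set.eq_of_subset_of_ncard_le (fun Q hQ => le_trans hQ hK) heq.le
  refine le_antisymm hK ?_
  have := pgen_le_of_syls (hP.trans (L_le_K a x)) (Y := Y) hS.symm.subset
  rwa [K, pgen_idem] at this

theorem lab_eq_of_le {a x z : α} (h : Nice p G a x) (hz : z ≠ a) (hle : L p G a x ≤ L p G a z) :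
    (lab p G a z : Lab G) = lab p G a x := by
  rcases C.maximal h (pgen_idem _) hle (L_le_K a z) with e | e
  · exact Lab.ext e
  · exact absurd e (C.L_ne_K hz)

theorem lab_eq_of_fixed {a x z : α} (h : Nice p G a x) (hz : z ≠ a)
    (hle : L p G a x ≤ stabilizer G z) : (lab p G a z : Lab G) = lab p G a x :=
  C.lab_eq_of_le h hz (le_L (pgen_idem _) (L_le_left a x) hle)

theorem lab_eq_of_fixed_lab {a x z : α} (h : Nice p G a x) (hz : z ≠ a) (hF : Fx p G a z)
    (hle : (lab p G a z : Lab G) ∈ (Fixed (L p G a x) : Set (Lab G))) :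
    (lab p G a z : Lab G) = lab p G a x := by
  refine C.lab_eq_of_le h hz ?_
  have h1 : L p G a x ≤ K p G a ⊓ stabilizer G (lab p G a z : Lab G) := le_inf (L_le_K a x) hle
  have h2 := pgen_mono (p := p) h1
  rwa [(C.lab_main hz hF).2, L, pgen_idem] at h2

theorem fixed_diff {a x : α} (h : Nice p G a x) :
    (Fixed (L p G a x) : Set α) \ {a} = {z ∈ cls p G a x | (lab p G a z : Lab G) = lab p G a x} := by
  ext z
  constructor
  · rintro ⟨hz, hza⟩
    have e := C.lab_eq_of_fixed h hza hz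
    exact ⟨⟨hza, e ▸ lab_mem_Lam a x⟩, e⟩
  · rintro ⟨⟨hza, -⟩, e⟩
    refine ⟨?_, hza⟩
    rw [mem_Fixed, ← show L p G a z = L p G a x from congrArg Lab.val e]
    exact L_le_right a z

theorem Sz_smul (g : G) (a x : α) : Sz p G (g • a) (g • x) = Sz p G a x := by
  unfold Sz
  rw [L_smul, ← Set.ncard_image_of_injective ((Fixed (L p G a x) : Set α) \ {a}) (MulAction.injective g)]
  congr 1
  ext z
  constructor
  · rintro ⟨hz, hza⟩
    refine ⟨g⁻¹ • z, ⟨?_, fun he => hza ?_⟩, smul_inv_smul g z⟩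
    · rw [← Fixed_cj g, smul_inv_smul]; exact hz
    · rw [Set.mem_singleton_iff] at he ⊢; rw [← he, smul_inv_smul]
  · rintro ⟨w, ⟨hw, hwa⟩, rfl⟩
    exact ⟨(Fixed_cj g _).2 hw, fun he => hwa (MulAction.injective g he)⟩

theorem Sz_comm {a x : α} (hx : x ≠ a) : Sz p G x a = Sz p G a x := by
  have ha : a ∈ (Fixed (L p G a x) : Set α) := L_le_left a x
  have hx' : x ∈ (Fixed (L p G a x) : Set α) := L_le_right a x
  rw [Sz, Sz, L_comm x a, Set.ncard_sdiff_singleton_of_mem ha, Set.ncard_sdiff_singleton_of_mem hx']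

theorem Sz_pos {a x : α} (hx : x ≠ a) : 0 < Sz p G a x :=
  (Set.ncard_pos).2 ⟨x, L_le_right a x, hx⟩

theorem Sz_lab {a x y : α} (h : y ∈ cls p G a x) : Sz p G a y = Sz p G a x := by
  obtain ⟨⟨g, hg⟩, hgy⟩ := h.2
  rw [← C.Sz_smul g a x, show g • a = a from K_le a hg]
  unfold Sz
  rw [show L p G a y = L p G a (g • x) from congrArg Lab.val
    (hgy.symm.trans (lab_equi hg x).symm)]

theorem cls_counts {a x : α} (h : Nice p G a x) {P : Sylow p G} (hP : (P : Subgroup G) ≤ K p G a) :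
    (cls p G a x).ncard = (Lam p G a x : Set (Lab G)).ncard * Sz p G a x ∧
      (cls p G a x ∩ Fixed (P : Subgroup G)).ncard
        = ((Lam p G a x : Set (Lab G)) ∩ Fixed (P : Subgroup G)).ncard * Sz p G a x ∧
      EA p G a (cls p G a x) = Sz p G a x * EA p G a (Lam p G a x : Set (Lab G)) := by
  have hfib : ∀ b ∈ (Lam p G a x : Set (Lab G)),
      {z ∈ cls p G a x | (lab p G a z : Lab G) = b}.ncard = Sz p G a x := by
    rintro _ ⟨⟨g, hg⟩, rfl⟩
    have hgx : g • x ∈ cls p G a x := C.orbit_subset_cls h.1 ⟨⟨g, hg⟩, rfl⟩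
    rw [← C.Sz_lab hgx, Sz, C.fixed_diff (C.cls_spec h hgx).1, cls_eq_of_mem hgx]
    congr 1
    ext z
    simp only [Set.mem_ofPred_eq]
    rw [lab_equi hg x]
    exact Iff.rfl
  have hfull : ∀ Q : Sylow p G, (Q : Subgroup G) ≤ K p G a → ∀ z ∈ cls p G a x,
      z ∈ (Fixed (Q : Subgroup G) : Set α) ↔ (lab p G a z : Lab G) ∈ (Fixed (Q : Subgroup G) : Set (Lab G)) :=
    fun Q hQ z hz => ⟨C.lab_fixed hQ, C.fixed_of_lab hz.1 (C.cls_spec h hz).1.2.1 hQ⟩
  obtain ⟨h1, h2, -⟩ := E_full (p := p) (P : Subgroup G) (cls p G a x) (lab p G a)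
    (Lam p G a x : Set (Lab G)) (fun z hz => hz.2) hfib (hfull P hP)
  obtain ⟨-, -, h3⟩ := E_full (p := p) (syl p G a : Subgroup G) (cls p G a x) (lab p G a)
    (Lam p G a x : Set (Lab G)) (fun z hz => hz.2) hfib (hfull _ (C.syl_le a))
  exact ⟨h1, h2, h3⟩

/-- exact suborbits have `2p - 1` labels -/
theorem exact_small {a x : α} (h : Nice p G a x) (h0 : EA p G a (Lam p G a x : Set (Lab G)) = 0)
    {P : Sylow p G} (hP : (P : Subgroup G) ≤ K p G a) :
    (Lam p G a x : Set (Lab G)).ncard + 1 = 2 * p ∧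
      ((Lam p G a x : Set (Lab G)) ∩ Fixed (P : Subgroup G)).ncard + 1 = p := by
  obtain ⟨k, -, -, hk, htt, -⟩ := C.nice_spec h
  have hp3 := C.cast_three_le
  have hkp : k = p := by
    rw [h0] at hk
    rcases mul_eq_zero.1 hk.symm with e | e <;> omega
  rw [hkp] at htt
  obtain ⟨hne, hE, -⟩ := C.Lam_counts h.1 h.2.1 hP
  rw [h0] at hE
  set r := (Lam p G a x : Set (Lab G)).ncard
  set f := ((Lam p G a x : Set (Lab G)) ∩ Fixed (P : Subgroup G)).ncard
  have hlt : f < p := by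
    by_contra hle
    exact tuple_contra (inv_orbit _ _) htt hP (not_lt.1 hle)
  have hf0 : 0 < f := (Set.ncard_pos).2 hne
  have hdvd : ((p : ℤ) - 1) ∣ (f : ℤ) := ⟨(r : ℤ) - 2 * f, by linear_combination hE⟩
  obtain ⟨t, ht⟩ := hdvd
  have hf1 : (f : ℤ) = (p : ℤ) - 1 := by
    have htpos : 1 ≤ t := by nlinarith
    have hfle : (f : ℤ) ≤ (p : ℤ) - 1 := by omega
    nlinarith
  have hr : (r : ℤ) = 2 * (p : ℤ) - 1 := by
    have : ((p : ℤ) - 1) * ((r : ℤ) - (2 * (p : ℤ) - 1)) = 0 := by rw [hf1] at hE; linarith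
    rcases mul_eq_zero.1 this with e | e <;> linarith
  constructor <;> omega

/-- three-point stabilisers for labels forming a triply transitive set -/
theorem fix_two {a x y : α} (h : Nice p G a x)
    (h3 : EA p G a (Lam p G a x : Set (Lab G)) ≤ p * ((p : ℤ) - 3)) (hy : y ∈ cls p G a x)
    (hxy : (lab p G a y : Lab G) ≠ lab p G a x) :
    (∃ Q : Sylow p G, (Q : Subgroup G) ≤ pgen p (stabilizer G a ⊓ stabilizer G x ⊓ stabilizer G y)) ∧
      ∀ z ∈ cls p G a x, pgen p (stabilizer G a ⊓ stabilizer G x ⊓ stabilizer G y) ≤ stabilizer G z →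
        (lab p G a z : Lab G) = lab p G a x ∨ (lab p G a z : Lab G) = lab p G a y := by
  classical
  obtain ⟨k, -, hkp, hk, htt, -⟩ := C.nice_spec h
  have hp3 := C.cast_three_le
  have hk3 : 3 ≤ k := by
    rw [hk] at h3
    have := le_of_mul_le_mul_left h3 (by linarith)
    omega
  obtain ⟨hne, hE, hrf⟩ := C.Lam_counts h.1 h.2.1 (C.syl_le a)
  set P := syl p G a
  set Λ : Set (Lab G) := (Lam p G a x : Set (Lab G))
  have hf2 : 1 < (Λ ∩ Fixed (P : Subgroup G)).ncard := by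
    have e : ((Λ ∩ Fixed (P : Subgroup G)).ncard : ℤ) + p ≤ (Λ.ncard : ℤ) := by exact_mod_cast hrf
    have : (2 : ℤ) ≤ ((Λ ∩ Fixed (P : Subgroup G)).ncard : ℤ) := by nlinarith
    exact_mod_cast this
  have hkΛ : k ≤ Λ.ncard := by omega
  set b : Lab G := lab p G a x
  set b' : Lab G := lab p G a y
  have hb : b ∈ Λ := lab_mem_Lam a x
  have hb' : b' ∈ Λ := hy.2
  obtain ⟨c₁, hc₁, c₂, hc₂, hc12⟩ := (Set.one_lt_ncard).1 hf2
  obtain ⟨g, hg, hgc⟩ := htt.of_le (show 2 ≤ k by omega) hkΛ ![c₁, c₂] ![b, b']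
    (by intro i j hij; fin_cases i <;> fin_cases j <;> simp_all)
    (by intro i j hij; fin_cases i <;> fin_cases j <;> simp_all)
    (by intro i; fin_cases i; exacts [hc₁.1, hc₂.1]) (by intro i; fin_cases i; exacts [hb, hb'])
  set Q : Sylow p G := g • P with hQdef
  have hQK : (Q : Subgroup G) ≤ K p G a := by
    rw [hQdef, coe_smul_sylow]
    exact (cj_mono g (C.syl_le a)).trans (cj_eq_self hg).le
  have hfixxy : ∀ R : Sylow p G, (R : Subgroup G) ≤ K p G a →
      b ∈ (Fixed (R : Subgroup G) : Set (Lab G)) → b' ∈ (Fixed (R : Subgroup G) : Set (Lab G)) →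
      (R : Subgroup G) ≤ pgen p (stabilizer G a ⊓ stabilizer G x ⊓ stabilizer G y) := fun R hR h1 h2 =>
    le_pgen R.isPGroup' (le_inf (le_inf (hR.trans (K_le a)) (C.fixed_of_lab h.1 h.2.1 hR h1))
      (C.fixed_of_lab hy.1 (C.cls_spec h hy).1.2.1 hR h2))
  have hQb : b ∈ (Fixed (Q : Subgroup G) : Set (Lab G)) := by
    rw [hQdef, coe_smul_sylow, show b = g • c₁ from (hgc 0).symm]
    exact (Fixed_cj g _).2 hc₁.2
  have hQb' : b' ∈ (Fixed (Q : Subgroup G) : Set (Lab G)) := by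
    rw [hQdef, coe_smul_sylow, show b' = g • c₂ from (hgc 1).symm]
    exact (Fixed_cj g _).2 hc₂.2
  refine ⟨⟨Q, hfixxy Q hQK hQb hQb'⟩, fun z hz hzf => ?_⟩
  set L3 := pgen p (stabilizer G a ⊓ stabilizer G x ⊓ stabilizer G y) with hL3def
  set M := K p G a ⊓ stabilizer G b ⊓ stabilizer G b' with hMdef
  have hL3K : L3 ≤ K p G a := pgen_mono (inf_le_left.trans inf_le_left)
  have hL3x : L3 ≤ stabilizer G x := (pgen_le _).trans (inf_le_left.trans inf_le_right)
  have hL3y : L3 ≤ stabilizer G y := (pgen_le _).trans inf_le_right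
  have hL3M : L3 ≤ M :=
    le_inf (le_inf hL3K (C.lab_fixed hL3K hL3x)) (C.lab_fixed hL3K hL3y)
  have hL3 : L3 = pgen p M := by
    refine le_antisymm ?_ (pgen_le_of_syls ((hfixxy Q hQK hQb hQb').trans hL3M) fun R hR => ?_)
    · have h' := pgen_mono (p := p) hL3M
      rwa [hL3def, pgen_idem, ← hL3def] at h'
    · obtain ⟨⟨h1, h2⟩, h3⟩ := (le_inf_iff.trans (and_congr_left' le_inf_iff)).1
        (show (R : Subgroup G) ≤ M from hR)
      exact hfixxy R h1 h2 h3
  by_contra hcon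
  push Not at hcon
  have hzL : (lab p G a z : Lab G) ∈ (Fixed L3 : Set (Lab G)) := C.lab_fixed hL3K hzf
  have hall : ∀ d ∈ Λ, d ∈ (Fixed L3 : Set (Lab G)) := by
    intro d hd
    by_cases hdb : d = b
    · rw [hdb]; exact C.lab_fixed hL3K hL3x
    by_cases hdb' : d = b'
    · rw [hdb']; exact C.lab_fixed hL3K hL3y
    have hne3 : ∀ c : Lab G, c ≠ b → c ≠ b' → Function.Injective ![b, b', c] := by
      intro c h1 h2 i j hij
      fin_cases i <;> fin_cases j <;> simp_all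
    obtain ⟨m, hm, hmd⟩ := htt.of_le hk3 hkΛ ![b, b', lab p G a z] ![b, b', d]
      (hne3 _ hcon.1 hcon.2) (hne3 _ hdb hdb')
      (by intro i; fin_cases i; exacts [hb, hb', hz.2]) (by intro i; fin_cases i; exacts [hb, hb', hd])
    have hmM : m ∈ M := ⟨⟨hm, hmd 0⟩, hmd 1⟩
    have hmL : cj m L3 = L3 := by rw [hL3, ← pgen_cj, cj_eq_self hmM]
    rw [← hmL, show d = m • (lab p G a z : Lab G) from (hmd 2).symm]
    exact (Fixed_cj m _).2 hzL
  have hrfQ : (Λ ∩ Fixed (Q : Subgroup G)).ncard + p ≤ Λ.ncard := (C.Lam_counts h.1 h.2.1 hQK).2.2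
  have : Λ ∩ Fixed (Q : Subgroup G) = Λ :=
    Set.inter_eq_left.2 fun d hd q hq => hall d hd q (hfixxy Q hQK hQb hQb' hq)
  rw [this] at hrfQ
  have := hp.out.pos
  omega

end Ctx

end CfsgLib.SylowRatio
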