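import Cfsg.Agent.SylowRatio.Orbit

/-!
# Suborbits and their labels

In a primitive group let `K a` be the subgroup generated by the `p`-elements fixing `a`.  The label
of a point `x ≠ a` is the subgroup `L a x` generated by the `p`-elements fixing `a` and `x`.
-/

set_option linter.unusedSectionVars false

namespace CfsgLib.SylowRatio

open MulAction
open scoped Pointwise

universe u

variable (p : ℕ) [hp : Fact p.Prime] (G : Type u) [Group G] [Finite G] {α : Type u} [MulAction G α]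
  [Finite α]

/-- `p`-part of a point stabiliser -/
def K (a : α) : Subgroup G := pgen p (stabilizer G a)

/-- `p`-part of a two-point stabiliser -/
def L (a x : α) : Subgroup G := pgen p (stabilizer G a ⊓ stabilizer G x)

/-- the label of `x` seen from `a` -/
def lab (a x : α) : Lab G := ⟨L p G a x⟩

/-- the labels of the orbit of `x` -/
def Lam (a x : α) : Set (Lab G) := orbit (K p G a : Subgroup G) (lab p G a x : Lab G)

/-- the points whose label is conjugate to the one of `x` -/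
def cls (a x : α) : Set α := {y | y ≠ a ∧ (lab p G a y : Lab G) ∈ (Lam p G a x : Set (Lab G))}

/-- some Sylow subgroup fixes both points -/
def Fx (a x : α) : Prop := ∃ P : Sylow p G, (P : Subgroup G) ≤ L p G a x

/-- a chosen Sylow subgroup fixing `a` -/
noncomputable def syl (a : α) : Sylow p G :=
  Classical.epsilon fun P : Sylow p G => (P : Subgroup G) ≤ K p G a

/-- excess of a set seen from `a` -/
noncomputable def EA {β : Type*} [MulAction G β] (a : α) (s : Set β) : ℤ :=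
  E p (syl p G a : Subgroup G) s

/-- number of further points fixed by a two-point stabiliser -/
noncomputable def Sz (a x : α) : ℕ := (Fixed (L p G a x : Subgroup G) \ ({a} : Set α)).ncard

variable {p} {G}

theorem L_comm (a x : α) : (L p G a x : Subgroup G) = L p G x a := by rw [L, L, inf_comm]

theorem K_smul (g : G) (a : α) : K p G (g • a) = cj g (K p G a) := by rw [K, K, stab_smul, pgen_cj]

theorem L_smul (g : G) (a x : α) : L p G (g • a) (g • x) = cj g (L p G a x) := by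
  rw [L, L, stab_smul, stab_smul, ← cj_inf, pgen_cj]

theorem lab_smul (g : G) (a x : α) : (lab p G (g • a) (g • x) : Lab G) = g • lab p G a x :=
  Lab.ext (L_smul g a x)

theorem K_le (a : α) : (K p G a : Subgroup G) ≤ stabilizer G a := pgen_le _

theorem L_le_left (a x : α) : (L p G a x : Subgroup G) ≤ stabilizer G a :=
  (pgen_le _).trans inf_le_left

theorem L_le_right (a x : α) : (L p G a x : Subgroup G) ≤ stabilizer G x :=
  (pgen_le _).trans inf_le_right

theorem L_le_K (a x : α) : (L p G a x : Subgroup G) ≤ K p G a := pgen_mono inf_le_left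

theorem L_le_K' (a x : α) : (L p G a x : Subgroup G) ≤ K p G x := pgen_mono inf_le_right

theorem le_L {Q : Subgroup G} (hQ : pgen p Q = Q) {a x : α} (ha : Q ≤ stabilizer G a)
    (hx : Q ≤ stabilizer G x) : Q ≤ L p G a x := by
  rw [← hQ]; exact pgen_mono (le_inf ha hx)

theorem sylow_le_L {P : Sylow p G} {a x : α} (ha : (P : Subgroup G) ≤ stabilizer G a)
    (hx : (P : Subgroup G) ≤ stabilizer G x) : (P : Subgroup G) ≤ L p G a x :=
  le_pgen P.isPGroup' (le_inf ha hx)

theorem lab_equi {a : α} {g : G} (hg : g ∈ (K p G a : Subgroup G)) (z : α) :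
    (lab p G a (g • z) : Lab G) = g • lab p G a z := by
  conv_lhs => rw [← show g • a = a from K_le a hg]
  exact lab_smul g a z

theorem Lam_eq_of_mem {a x y : α} (h : (lab p G a y : Lab G) ∈ (Lam p G a x : Set (Lab G))) :
    (Lam p G a y : Set (Lab G)) = Lam p G a x := orbit_eq_iff.2 h

theorem lab_mem_Lam (a x : α) : (lab p G a x : Lab G) ∈ (Lam p G a x : Set (Lab G)) := mem_orbit_self _

theorem cls_eq_of_mem {a x y : α} (h : y ∈ (cls p G a x)) :
    (cls p G a y) = cls p G a x := by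
  unfold cls; rw [Lam_eq_of_mem h.2]

theorem mem_cls_self {a x : α} (h : x ≠ a) : x ∈ cls p G a x := ⟨h, lab_mem_Lam a x⟩

theorem smul_Lam (g : G) (a x : α) :
    g • (Lam p G a x : Set (Lab G)) = Lam p G (g • a) (g • x) := by
  ext L'
  simp only [Lam, lab_smul]
  constructor
  · rintro ⟨_, ⟨⟨k, hk⟩, rfl⟩, rfl⟩
    refine ⟨⟨g * k * g⁻¹, ?_⟩, ?_⟩
    · rw [K_smul, mem_cj]; simp [mul_assoc, hk]
    · change (g * k * g⁻¹) • g • lab p G a x = g • k • lab p G a x
      simp [mul_smul]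
  · rintro ⟨⟨k, hk⟩, rfl⟩
    rw [K_smul, mem_cj] at hk
    refine ⟨(g⁻¹ * k * g) • lab p G a x, ⟨⟨_, hk⟩, rfl⟩, ?_⟩
    change g • (g⁻¹ * k * g) • lab p G a x = k • g • lab p G a x
    simp [mul_smul]

theorem smul_cls (g : G) (a x : α) : g • cls p G a x = cls p G (g • a) (g • x) := by
  ext y
  rw [Set.mem_smul_set_iff_inv_smul_mem]
  obtain ⟨z, rfl⟩ : ∃ z, g • z = y := ⟨g⁻¹ • y, smul_inv_smul g y⟩
  rw [inv_smul_smul]
  simp only [cls, Set.mem_ofPred_eq, lab_smul, ← smul_Lam, Set.smul_mem_smul_set_iff, ne_eq,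
    smul_left_cancel_iff]

/-- The standing hypotheses on the action. -/
structure Ctx (p : ℕ) [Fact p.Prime] (G : Type u) [Group G] (α : Type u) [MulAction G α] : Prop where
  hyp : Hyp p G
  odd : p ≠ 2
  prim : IsPreprimitive G α
  nontriv : Nontrivial α
  exists_fix : ∃ P : Sylow p G, ∃ a : α, (P : Subgroup G) ≤ stabilizer G a
  bound : ∀ (P : Sylow p G) (a : α), (P : Subgroup G) ≤ stabilizer G a →
    E p (P : Subgroup G) (Set.univ : Set α) ≤ p * ((p : ℤ) - 2)

/-- a suborbit of small excess -/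
def Nice (p : ℕ) [Fact p.Prime] (G : Type u) [Group G] [Finite G] {α : Type u} [MulAction G α] (a x : α) :
    Prop :=
  x ≠ a ∧ Fx p G a x ∧ EA p G a (Lam p G a x : Set (Lab G)) ≤ p * ((p : ℤ) - 2)

namespace Ctx

variable (C : Ctx p G α)
include C

theorem three_le : 3 ≤ p := by
  have := hp.out.two_le
  have := C.odd
  omega

theorem cast_three_le : (3 : ℤ) ≤ p := by exact_mod_cast C.three_le

theorem syl_le (a : α) : ((syl p G a : Sylow p G) : Subgroup G) ≤ K p G a := by
  obtain ⟨P, b, hb⟩ := C.exists_fix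
  have := C.prim.toIsPretransitive
  obtain ⟨g, rfl⟩ := MulAction.exists_smul_eq G b a
  refine Classical.epsilon_spec (p := fun Q : Sylow p G => (Q : Subgroup G) ≤ K p G (g • b)) ⟨g • P, ?_⟩
  rw [K_smul, coe_smul_sylow]
  exact cj_mono g (le_pgen P.isPGroup' hb)

theorem EA_eq {β : Type*} [MulAction G β] (a : α) {s : Set β} (hs : Inv (K p G a) s) {P : Sylow p G}
    (hP : (P : Subgroup G) ≤ K p G a) : EA p G a s = E p (P : Subgroup G) s :=
  E_congr (C.syl_le a) hP hs

theorem EA_smul {β : Type*} [MulAction G β] (g : G) (a : α) {s : Set β} (hs : Inv (K p G a) s) :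
    EA p G (g • a) (g • s) = EA p G a s := by
  have hs' : Inv (K p G (g • a)) (g • s) := by
    intro k hk y hy
    rw [K_smul, mem_cj] at hk
    rw [Set.mem_smul_set_iff_inv_smul_mem] at hy ⊢
    have := hs _ hk _ hy
    simpa [mul_smul] using this
  rw [C.EA_eq (g • a) hs' (P := g • syl p G a) (by rw [coe_smul_sylow, K_smul]; exact cj_mono g (C.syl_le a)),
    coe_smul_sylow, E_smul]
  rfl

theorem stab_ne_top (a : α) : stabilizer G a ≠ ⊤ := by
  have := C.nontriv
  have := C.prim.toIsPretransitive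
  intro h
  obtain ⟨b, hb⟩ := exists_ne a
  obtain ⟨g, hg⟩ := MulAction.exists_smul_eq G a b
  exact hb (hg.symm.trans (mem_stabilizer_iff.1 (h ▸ Subgroup.mem_top g)))

theorem K_ne_top (a : α) : (K p G a : Subgroup G) ≠ ⊤ := fun h =>
  C.stab_ne_top a (top_le_iff.1 (h ▸ K_le a))

theorem L_ne_top (a x : α) : (L p G a x : Subgroup G) ≠ ⊤ := fun h =>
  C.stab_ne_top a (top_le_iff.1 (h ▸ L_le_left a x))

theorem card_Syls_K (a b : α) : (Syls p (K p G a : Subgroup G)).ncard = (Syls p (K p G b : Subgroup G)).ncard := by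
  have := C.prim.toIsPretransitive
  obtain ⟨g, rfl⟩ := MulAction.exists_smul_eq G a b
  rw [K_smul, ← Syls_cj, Set.ncard_image_of_injective _ (MulAction.injective g)]

/-- `K a` fixes only `a`. -/
theorem eq_of_K_le {a y : α} (h : (K p G a : Subgroup G) ≤ stabilizer G y) : y = a := by
  have := C.prim.toIsPretransitive
  have := C.nontriv
  by_contra hya
  have hle : (K p G a : Subgroup G) ≤ K p G y := by
    have := pgen_mono (p := p) h
    rwa [K, pgen_idem] at this
  have hS : Syls p (K p G a : Subgroup G) = Syls p (K p G y : Subgroup G) :=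
    Set.eq_of_subset_of_ncard_le (fun Q hQ => le_trans hQ hle) (C.card_Syls_K y a).le
  have hKy : (K p G y : Subgroup G) = K p G a := by
    refine le_antisymm ?_ hle
    have := pgen_le_of_syls (C.syl_le y) (Y := (K p G a : Subgroup G)) hS.symm.subset
    rwa [K, pgen_idem] at this
  let N : Subgroup G := stabilizer G (⟨K p G a⟩ : Lab G)
  have hN : stabilizer G a ≤ N := fun g hg => by
    apply Lab.ext
    rw [Lab.smul_val, ← K_smul, mem_stabilizer_iff.1 hg]
  obtain ⟨g, hg⟩ := MulAction.exists_smul_eq G a y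
  have hgN : g ∈ N := by
    apply Lab.ext
    rw [Lab.smul_val, ← K_smul, hg, hKy]
  have hcoatom : IsCoatom (stabilizer G a) :=
    (isCoatom_stabilizer_iff_preprimitive G a).2 C.prim
  have hNtop : N = ⊤ := by
    refine hcoatom.2 N (lt_of_le_of_ne hN fun h => hya ?_)
    rw [← hg]
    exact mem_stabilizer_iff.1 (h ▸ hgN)
  refine C.K_ne_top a (eq_of_normalised C.hyp.gen (C.syl_le a) le_top fun g _ => ?_)
  exact congrArg Lab.val (mem_stabilizer_iff.1 (hNtop ▸ Subgroup.mem_top g : g ∈ N))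

theorem not_fixed_K {a y : α} (h : y ≠ a) : y ∉ (Fixed (K p G a : Subgroup G) : Set α) :=
  fun hf => h (C.eq_of_K_le hf)

theorem L_ne_K {a x : α} (h : x ≠ a) : (L p G a x : Subgroup G) ≠ K p G a :=
  fun he => h (C.eq_of_K_le (he ▸ L_le_right a x))

theorem inv_compl (a : α) : Inv (K p G a : Subgroup G) ({a}ᶜ : Set α) := by
  intro g hg x hx h
  exact hx (MulAction.injective g (h.trans (K_le a hg).symm))

theorem EA_nonneg {a : α} {s : Set α} (hs : Inv (K p G a : Subgroup G) s) (ha : a ∉ s) :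
    0 ≤ EA p G a s :=
  set_nonneg C.hyp (pgen_idem _) (C.K_ne_top a) (C.syl_le a) hs
    fun _ hx => C.not_fixed_K fun h => ha (h ▸ hx)

theorem EA_compl (a : α) : EA p G a ({a}ᶜ : Set α)
    = E p (syl p G a : Subgroup G) (Set.univ : Set α) + p := by
  have h := E_diff (p := p) (syl p G a : Subgroup G) (Set.subset_univ ({a} : Set α))
  rw [E_singleton (show a ∈ (Fixed (syl p G a : Subgroup G) : Set α) from
    (C.syl_le a).trans (K_le a))] at h
  rw [EA, Set.compl_eq_univ_sdiff, h]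
  ring

theorem EA_compl_le (a : α) : EA p G a ({a}ᶜ : Set α) ≤ p * ((p : ℤ) - 1) := by
  rw [C.EA_compl]
  nlinarith [C.bound _ a ((C.syl_le a).trans (K_le a))]

theorem EA_mono {a : α} {s t : Set α} (hs : Inv (K p G a : Subgroup G) s) (ht : Inv (K p G a : Subgroup G) t)
    (hst : s ⊆ t) (ha : a ∉ t) : EA p G a s ≤ EA p G a t := by
  have := C.EA_nonneg (ht.diff hs) (fun h => ha h.1)
  have h := E_diff (p := p) (syl p G a : Subgroup G) hst
  unfold EA at this ⊢
  linarith

theorem orbit_subset_compl {a x : α} (h : x ≠ a) : orbit (K p G a : Subgroup G) x ⊆ ({a}ᶜ : Set α) :=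
  (C.inv_compl a).orbit_subset h

theorem EA_orbit_le {a x : α} (h : x ≠ a) :
    EA p G a (orbit (K p G a : Subgroup G) x) ≤ p * ((p : ℤ) - 1) :=
  (C.EA_mono (inv_orbit _ _) (C.inv_compl a) (C.orbit_subset_compl h) (fun h => h rfl)).trans
    (C.EA_compl_le a)

theorem EA_two_orbits {a x y : α} (hx : x ≠ a) (hy : y ≠ a) (hxy : y ∉ orbit (K p G a : Subgroup G) x) :
    EA p G a (orbit (K p G a : Subgroup G) x) + EA p G a (orbit (K p G a : Subgroup G) y)
      ≤ p * ((p : ℤ) - 1) := by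
  have hd : Disjoint (orbit (K p G a : Subgroup G) x) (orbit (K p G a : Subgroup G) y) := by
    rw [Set.disjoint_left]
    intro z hzx hzy
    exact hxy (orbit_eq_iff.1 ((orbit_eq_iff.2 hzy).symm.trans (orbit_eq_iff.2 hzx)))
  refine le_trans ?_ (C.EA_compl_le a)
  have h := C.EA_mono (a := a) (s := orbit (K p G a : Subgroup G) x ∪ orbit (K p G a : Subgroup G) y)
    (fun g hg z hz => hz.imp (inv_orbit _ x g hg z) (inv_orbit _ y g hg z))
    (C.inv_compl a) (Set.union_subset (C.orbit_subset_compl hx) (C.orbit_subset_compl hy)) (fun h => h rfl)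
  rwa [EA, E_union _ hd] at h

theorem Fx_of_mem {a x z : α} (h : Fx p G a x) (hz : z ∈ orbit (K p G a : Subgroup G) x) :
    Fx p G a z := by
  obtain ⟨P, hP⟩ := h
  obtain ⟨⟨g, hg⟩, rfl⟩ := hz
  refine ⟨g • P, ?_⟩
  rw [coe_smul_sylow]
  have h := cj_mono g hP
  rw [← L_smul, show g • a = a from K_le a hg] at h
  exact h

/-- the stabiliser of a label is maximal in `K a` and its `p`-part is the label -/
theorem lab_main {a x : α} (hx : x ≠ a) (hF : Fx p G a x) :
    (∀ Y : Subgroup G, K p G a ⊓ stabilizer G (lab p G a x : Lab G) ≤ Y → Y ≤ K p G a →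
        Y = K p G a ⊓ stabilizer G (lab p G a x : Lab G) ∨ Y = K p G a) ∧
      pgen p (K p G a ⊓ stabilizer G (lab p G a x : Lab G)) = L p G a x := by
  classical
  obtain ⟨P, hP⟩ := hF
  set K₀ : Subgroup G := K p G a with hK₀
  have hne : K₀ ⊓ stabilizer G x ≠ K₀ := fun h => hx (C.eq_of_K_le (inf_eq_left.1 h))
  obtain ⟨M, hxM, hMmax⟩ := Finite.exists_le_maximal
    (p := fun Y : Subgroup G => Y ≤ K₀ ∧ Y ≠ K₀) (a := K₀ ⊓ stabilizer G x) ⟨inf_le_left, hne⟩
  obtain ⟨hMK, hMne⟩ := hMmax.1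
  have hPM : (P : Subgroup G) ≤ M :=
    hP.trans ((le_inf (L_le_K a x) (L_le_right a x)).trans hxM)
  let φ : α → Lab G := fun z =>
    if h : ∃ g ∈ K₀, g • x = z then h.choose • (⟨M⟩ : Lab G) else ⟨⊥⟩
  have hφx : ∀ g ∈ K₀, φ (g • x) = g • (⟨M⟩ : Lab G) := by
    intro g hg
    have h : ∃ g' ∈ K₀, g' • x = g • x := ⟨g, hg, rfl⟩
    simp only [φ, dif_pos h]
    obtain ⟨hc, hcx⟩ := h.choose_spec
    rw [← inv_smul_eq_iff, smul_smul]
    refine Lab.ext (cj_eq_self (hxM ⟨K₀.mul_mem (K₀.inv_mem hg) hc, ?_⟩))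
    change (g⁻¹ * h.choose) • x = x
    rw [mul_smul, hcx, inv_smul_smul]
  have hφ : ∀ g ∈ K₀, ∀ z ∈ orbit K₀ x, φ (g • z) = g • φ z := by
    rintro g hg _ ⟨k, rfl⟩
    rw [show g • k • x = (g * k.1) • x from (mul_smul g k.1 x).symm, hφx _ (K₀.mul_mem hg k.2),
      show φ (k • x) = _ from hφx k.1 k.2, mul_smul]
  have hφ1 : φ x = ⟨M⟩ := by simpa using hφx 1 K₀.one_mem
  have hMfix : (⟨M⟩ : Lab G) ∉ (Fixed K₀ : Set (Lab G)) := fun h =>
    hMne (eq_of_normalised (pgen_idem _) hPM hMK fun g hg => congrArg Lab.val (h g hg))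
  have hfull : ∀ Q : Sylow p G, (Q : Subgroup G) ≤ K₀ → φ x ∈ (Fixed (Q : Subgroup G) : Set (Lab G)) →
      x ∈ (Fixed (Q : Subgroup G) : Set α) := by
    intro Q hQ hQf
    have hne' : (orbit K₀ x ∩ Fixed (Q : Subgroup G)).Nonempty := by
      rw [← Set.ncard_pos, ← ncard_fixed_congr (hP.trans (L_le_K a x)) hQ (inv_orbit K₀ x), Set.ncard_pos]
      exact ⟨x, mem_orbit_self x, hP.trans (L_le_right a x)⟩
    obtain ⟨c, g, hg0, hgc, hmod, hcard, hfix, hfl⟩ := orbit_map_counts hφ hQ hne'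
    refine hfl ?_ x (mem_orbit_self x) hQf
    by_contra hne2
    have hEo : 0 ≤ E p (Q : Subgroup G) (orbit K₀ (φ x)) :=
      orbit_nonneg C.hyp (pgen_idem _) (C.K_ne_top a) hQ (hφ1.symm ▸ hMfix)
    have hEO : E p (Q : Subgroup G) (orbit K₀ x) ≤ p * ((p : ℤ) - 1) := by
      rw [← C.EA_eq a (inv_orbit K₀ x) hQ]; exact C.EA_orbit_le hx
    have hgap : g + p ≤ c := by
      obtain ⟨d, hd⟩ := (Nat.modEq_iff_dvd' hgc).1 hmod.symm
      rcases Nat.eq_zero_or_pos d with rfl | hd0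
      · omega
      · have := Nat.le_mul_of_pos_right p hd0
        omega
    have hf1 : 1 ≤ (orbit K₀ (φ x) ∩ Fixed (Q : Subgroup G)).ncard :=
      (Set.ncard_pos).2 ⟨φ x, mem_orbit_self _, hQf⟩
    unfold E at hEo hEO
    rw [hcard, hfix] at hEO
    push_cast at hEO
    have h1 : (p : ℤ) ≤ (c : ℤ) - g := by
      have : ((g + p : ℕ) : ℤ) ≤ c := by exact_mod_cast hgap
      push_cast at this; linarith
    have h2 : (1 : ℤ) ≤ ((orbit K₀ (φ x) ∩ Fixed (Q : Subgroup G)).ncard : ℤ) := by exact_mod_cast hf1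
    have hp3 := C.cast_three_le
    set f := ((orbit K₀ (φ x) ∩ Fixed (Q : Subgroup G)).ncard : ℤ)
    have h3 : 0 ≤ (((p : ℤ) - 1) * ((orbit K₀ (φ x)).ncard : ℤ) - (2 * (p : ℤ) - 1) * f) * (c : ℤ) :=
      mul_nonneg hEo (Int.natCast_nonneg _)
    nlinarith [mul_le_mul h2 h1 (by linarith) (by linarith)]
  have hpM : pgen p M = L p G a x := by
    refine le_antisymm (pgen_le_of_syls hPM fun Q hQ => ?_) ((Subgroup.closure_le _).2 ?_)
    · refine sylow_le_L ((le_trans hQ hMK).trans (K_le a)) (hfull Q (le_trans hQ hMK) ?_)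
      rw [hφ1]
      exact fun q hq => Lab.ext (cj_eq_self (hQ hq))
    · rintro g ⟨hg, k, hk⟩
      exact mem_pgen (hxM ⟨mem_pgen hg.1 hk, hg.2⟩) hk
  have hMN : M ≤ K₀ ⊓ stabilizer G (lab p G a x : Lab G) := fun g hg =>
    ⟨hMK hg, Lab.ext (show cj g (L p G a x) = L p G a x by rw [← hpM, ← pgen_cj, cj_eq_self hg])⟩
  have hN : K₀ ⊓ stabilizer G (lab p G a x : Lab G) = M := by
    refine le_antisymm (hMmax.2 ⟨inf_le_left, fun h => ?_⟩ hMN) hMN
    refine C.L_ne_K hx (eq_of_normalised (pgen_idem _) hP (L_le_K a x) fun g hg => ?_)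
    have hg' : g ∈ K₀ ⊓ stabilizer G (lab p G a x : Lab G) := h.symm ▸ hg
    exact congrArg Lab.val (mem_stabilizer_iff.1 hg'.2)
  refine ⟨fun Y h1 h2 => ?_, by rw [hN, hpM]⟩
  rw [hN] at h1 ⊢
  by_cases hY : Y = K₀
  · exact Or.inr hY
  · exact Or.inl (le_antisymm (hMmax.2 ⟨h2, hY⟩ h1) h1)

/-- a Sylow subgroup fixing a label fixes the points carrying it -/
theorem fixed_of_lab {a z : α} (hz : z ≠ a) (hF : Fx p G a z) {Q : Sylow p G}
    (hQ : (Q : Subgroup G) ≤ K p G a) (h : (lab p G a z : Lab G) ∈ (Fixed (Q : Subgroup G) : Set (Lab G))) :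
    z ∈ (Fixed (Q : Subgroup G) : Set α) := by
  have h' : (Q : Subgroup G) ≤ stabilizer G (lab p G a z : Lab G) := h
  have := le_pgen (p := p) Q.isPGroup' (le_inf hQ h')
  rw [(C.lab_main hz hF).2] at this
  exact this.trans (L_le_right a z)

theorem lab_fixed {a z : α} {Q : Subgroup G} (hQ : Q ≤ K p G a) (h : z ∈ (Fixed Q : Set α)) :
    (lab p G a z : Lab G) ∈ (Fixed Q : Set (Lab G)) := fun q hq => by
  rw [← lab_equi (hQ hq) z, h q hq]

theorem EA_Lam_nonneg {a x : α} (hx : x ≠ a) (hF : Fx p G a x) :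
    0 ≤ EA p G a (Lam p G a x : Set (Lab G)) := by
  obtain ⟨P, hP⟩ := hF
  refine orbit_nonneg C.hyp (pgen_idem _) (C.K_ne_top a) (C.syl_le a) fun h => ?_
  exact C.L_ne_K hx (eq_of_normalised (pgen_idem _) hP (L_le_K a x) fun g hg => congrArg Lab.val (h g hg))

theorem EA_orbit_eq {a x : α} (hx : x ≠ a) (hF : Fx p G a x) :
    ∃ c : ℕ, 0 < c ∧ (orbit (K p G a : Subgroup G) x).ncard = (Lam p G a x : Set (Lab G)).ncard * c ∧
      EA p G a (orbit (K p G a : Subgroup G) x) = c * EA p G a (Lam p G a x : Set (Lab G)) := by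
  have hequi : ∀ g ∈ (K p G a : Subgroup G), ∀ z ∈ orbit (K p G a : Subgroup G) x,
      (lab p G a (g • z) : Lab G) = g • lab p G a z := fun g hg z _ => lab_equi hg z
  obtain ⟨h1, -, h3⟩ := E_full (p := p) (syl p G a : Subgroup G) (orbit (K p G a : Subgroup G) x)
    (lab p G a) (Lam p G a x : Set (Lab G)) (map_orbit hequi).1 (fun b hb => ncard_fibre hequi hb)
    (fun z hz => ⟨C.lab_fixed (C.syl_le a), C.fixed_of_lab
      (fun h => C.orbit_subset_compl hx hz h) (C.Fx_of_mem hF hz) (C.syl_le a)⟩)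
  exact ⟨_, (Set.ncard_pos).2 (show ({z ∈ orbit (K p G a : Subgroup G) x | (lab p G a z : Lab G) = lab p G a x}).Nonempty from ⟨x, mem_orbit_self x, rfl⟩), h1, h3⟩

theorem Lam_le {a x : α} (hx : x ≠ a) (hF : Fx p G a x) :
    EA p G a (Lam p G a x : Set (Lab G)) ≤ p * ((p : ℤ) - 1) := by
  obtain ⟨c, hc, -, hE⟩ := C.EA_orbit_eq hx hF
  have h0 := C.EA_Lam_nonneg hx hF
  have h := C.EA_orbit_le hx
  have : (1 : ℤ) ≤ c := by exact_mod_cast hc
  rw [hE] at h
  nlinarith

theorem not_nice {a x : α} (hx : x ≠ a) (h : ¬ Nice p G a x) :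
    EA p G a (orbit (K p G a : Subgroup G) x) = p * ((p : ℤ) - 1) ∧
      (Fx p G a x → (orbit (K p G a : Subgroup G) x).ncard = (Lam p G a x : Set (Lab G)).ncard ∧
        EA p G a (Lam p G a x : Set (Lab G)) = p * ((p : ℤ) - 1)) := by
  have hle := C.EA_orbit_le hx
  have hP := C.syl_le a
  by_cases hF : Fx p G a x
  · obtain ⟨c, hc, hcard, hE⟩ := C.EA_orbit_eq hx hF
    have hgt : p * ((p : ℤ) - 2) < EA p G a (Lam p G a x : Set (Lab G)) := by
      by_contra hle'; exact h ⟨hx, hF, le_of_not_gt hle'⟩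
    obtain ⟨w, hw⟩ := exists_E_eq (p := p) (syl p G a).isPGroup'
      ((inv_orbit (K p G a : Subgroup G) (lab p G a x : Lab G)).mono hP)
    rw [EA, Lam, hw] at hgt
    have hw' : (p : ℤ) - 1 ≤ w := by
      have : (p : ℤ) - 2 < w := lt_of_mul_lt_mul_left hgt (Int.natCast_nonneg p)
      omega
    have hL : EA p G a (Lam p G a x : Set (Lab G)) = p * w := hw
    have hp3 := C.cast_three_le
    have hc1 : c = 1 := by
      by_contra hc1
      have : (2 : ℤ) ≤ c := by exact_mod_cast show 2 ≤ c by omega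
      rw [hE, hL] at hle
      have hw1 : (p : ℤ) * ((p : ℤ) - 1) ≤ p * w := mul_le_mul_of_nonneg_left hw' (by linarith)
      nlinarith [mul_le_mul this hw1 (by nlinarith) (by linarith)]
    subst hc1
    rw [Nat.cast_one, one_mul] at hE
    have hmax := C.Lam_le hx hF
    have hw1 : (p : ℤ) * ((p : ℤ) - 1) ≤ p * w := mul_le_mul_of_nonneg_left hw' (by linarith)
    exact ⟨by linarith, fun _ => ⟨by rw [hcard, mul_one], by linarith⟩⟩
  · refine ⟨le_antisymm hle ?_, fun h' => absurd h' hF⟩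
    have hno : orbit (K p G a : Subgroup G) x ∩ Fixed ((syl p G a : Sylow p G) : Subgroup G) = ∅ := by
      by_contra hne
      obtain ⟨z, hz, hzf⟩ := Set.nonempty_iff_ne_empty.2 hne
      refine hF (C.Fx_of_mem ⟨syl p G a, sylow_le_L (hP.trans (K_le a)) hzf⟩ ?_)
      rw [orbit_eq_iff.2 hz]; exact mem_orbit_self x
    have hmod := ncard_fixed_modEq (p := p) (syl p G a).isPGroup'
      ((inv_orbit (K p G a : Subgroup G) x).mono hP)
    rw [hno, Set.ncard_empty] at hmod
    have hpos : 0 < (orbit (K p G a : Subgroup G) x).ncard := (Set.ncard_pos).2 ⟨x, mem_orbit_self x⟩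
    have := Nat.le_of_dvd hpos (Nat.modEq_zero_iff_dvd.1 hmod)
    rw [EA, E_of_noFixed hno]
    have h' : (p : ℤ) ≤ ((orbit (K p G a : Subgroup G) x).ncard : ℤ) := by exact_mod_cast this
    nlinarith [C.cast_three_le]

/-- properties of a nice suborbit -/
theorem nice_spec {a x : α} (h : Nice p G a x) : ∃ k : ℕ, 2 ≤ k ∧ k ≤ p ∧
    EA p G a (Lam p G a x : Set (Lab G)) = p * ((p : ℤ) - k) ∧
    TupleTrans (K p G a : Subgroup G) (Lam p G a x : Set (Lab G)) k ∧
    ∀ c ∈ (Lam p G a x : Set (Lab G)), ∀ d ∈ (Lam p G a x : Set (Lab G)), c ≠ lab p G a x → d ≠ lab p G a x →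
      ∃ g ∈ L p G a x, g • c = d := by
  obtain ⟨hx, hF, hle⟩ := h
  have h0 := C.EA_Lam_nonneg hx hF
  obtain ⟨w, hw⟩ := exists_E_eq (p := p) (syl p G a).isPGroup'
    ((inv_orbit (K p G a : Subgroup G) (lab p G a x : Lab G)).mono (C.syl_le a))
  have hp0 : (0 : ℤ) < p := by exact_mod_cast hp.out.pos
  have hL : EA p G a (Lam p G a x : Set (Lab G)) = p * w := hw
  rw [hL] at h0 hle
  have hw0 : 0 ≤ w := nonneg_of_mul_nonneg_right (by linarith) hp0
  have hw2 : w ≤ (p : ℤ) - 2 := le_of_mul_le_mul_left hle hp0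
  obtain ⟨hmax, hpg⟩ := C.lab_main hx hF
  obtain ⟨w', rfl⟩ : ∃ w' : ℕ, w = w' := ⟨w.toNat, (Int.toNat_of_nonneg hw0).symm⟩
  have hw2' : w' + 2 ≤ p := by omega
  refine ⟨p - w', by omega, by omega, ?_, ?_⟩
  · rw [hL, Nat.cast_sub (by omega)]; ring
  obtain ⟨P, hP⟩ := hF
  obtain ⟨ht, hl⟩ := orbit_primitive (α := Lab G) C.hyp C.odd (X := (K p G a : Subgroup G)) (pgen_idem _) (C.K_ne_top a) (C.syl_le a)
    (x := (lab p G a x : Lab G))
    (fun h => C.L_ne_K hx (eq_of_normalised (pgen_idem _) hP (L_le_K a x)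
      fun g hg => congrArg Lab.val (h g hg)))
    (by
      rw [← Set.ncard_pos, ← ncard_fixed_congr (hP.trans (L_le_K a x)) (C.syl_le a) (inv_orbit _ _),
        Set.ncard_pos]
      exact ⟨_, mem_orbit_self _, C.lab_fixed (hP.trans (L_le_K a x)) (hP.trans (L_le_right a x))⟩)
    hmax (k := p - w') (by omega)
    (by rw [show E p ((syl p G a : Sylow p G) : Subgroup G) (orbit (K p G a : Subgroup G)
        (lab p G a x : Lab G)) = EA p G a (Lam p G a x : Set (Lab G)) from rfl, hL,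
        Nat.cast_sub (by omega)]; ring)
  refine ⟨ht, fun c hc d hd hcb hdb => ?_⟩
  obtain ⟨g, hg, hgc⟩ := hl _ (mem_orbit_self _) c hc d hd hcb hdb
  exact ⟨g, hpg ▸ hg, hgc⟩

end Ctx

end CfsgLib.SylowRatio
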