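import Cfsg.Agent.SylowRatio.Count

/-!
# A non-nice suborbit does not receive pieces
-/

set_option linter.unusedSectionVars false

namespace CfsgLib.SylowRatio

open MulAction
open scoped Pointwise

universe u

variable {p : ℕ} [hp : Fact p.Prime] {G : Type u} [Group G] [Finite G] {α : Type u} [MulAction G α]
  [Finite α]

theorem choose_two_le {r a : ℕ} (h1 : 2 ≤ a) (h2 : a + 2 ≤ r) : r.choose 2 ≤ r.choose a := by
  have aux : ∀ b, 2 ≤ b → 2 * b ≤ r → r.choose 2 ≤ r.choose b := by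
    intro b hb
    induction b, hb using Nat.le_induction with
    | base => intro _; exact le_rfl
    | succ b hb ih => intro h; exact (ih (by omega)).trans (Nat.choose_le_succ_of_lt_half_left (by omega))
  rcases Nat.le_total (2 * a) r with h | h
  · exact aux a h1 h
  · rw [← Nat.choose_symm (show a ≤ r by omega)]
    exact aux _ (by omega) (by omega)

/-- The points of the class of `x` joined to `c`. -/
def Adj (p : ℕ) [Fact p.Prime] (G : Type u) [Group G] [Finite G] {α : Type u} [MulAction G α] (a z c : α) :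
    Prop :=
  c ∈ cls p G z a ∧ (lab p G z c : Lab G) ≠ lab p G z a

/-- all pieces of the class of `x` go to non-nice suborbits -/
def AllBad (p : ℕ) [Fact p.Prime] (G : Type u) [Group G] [Finite G] {α : Type u} [MulAction G α] (a x : α) :
    Prop :=
  ∀ x' ∈ cls p G a x, ∀ z ∈ cls p G a x, (lab p G a z : Lab G) ≠ lab p G a x' → ¬ Nice p G x' z

namespace Ctx

variable (C : Ctx p G α)
include C

theorem lab_ne_symm {a x y : α} (h : Nice p G a x) (hy : y ≠ a)
    (hxy : (lab p G a y : Lab G) ≠ lab p G a x) : (lab p G x y : Lab G) ≠ lab p G x a := by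
  intro e
  refine hxy (C.lab_eq_of_fixed h hy ?_)
  rw [L_comm a x, ← show L p G x y = L p G x a from congrArg Lab.val e]
  exact L_le_right x y

section Exact

variable (hall : ∀ b y : α, Nice p G b y → EA p G b (Lam p G b y : Set (Lab G)) = 0)
include hall

theorem max_of_nice {a x : α} (h : Nice p G a x) : Max p G a x :=
  ⟨h, fun b y hy => by rw [hall a x h, hall b y hy]⟩

/-- a proper subgroup fixing no label is `p`-fold transitive on them -/
theorem tuple_trans {a x : α} (h : Nice p G a x) {Y : Subgroup G} (hY : pgen p Y = Y) (hYK : Y ≤ K p G a)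
    {P : Sylow p G} (hP : (P : Subgroup G) ≤ Y)
    (hno : ∀ d ∈ (Lam p G a x : Set (Lab G)), d ∉ (Fixed Y : Set (Lab G))) :
    TupleTrans Y (Lam p G a x : Set (Lab G)) p := by
  set Λ : Set (Lab G) := (Lam p G a x : Set (Lab G))
  have hPK := hP.trans hYK
  have hYtop : Y ≠ ⊤ := fun e => C.K_ne_top a (top_le_iff.1 (e ▸ hYK))
  obtain ⟨hr, hf⟩ : Λ.ncard + 1 = 2 * p ∧ (Λ ∩ Fixed (P : Subgroup G)).ncard + 1 = p :=
    C.exact_small h (hall a x h) hPK
  obtain ⟨hne, hE, -⟩ := C.Lam_counts h.1 h.2.1 hPK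
  obtain ⟨d₀, hd₀, hd₀f⟩ := hne
  have hEΛ : E p (P : Subgroup G) Λ = 0 := (C.EA_eq a (inv_orbit _ _) hPK).symm.trans (hall a x h)
  have hsub : orbit Y d₀ ⊆ Λ := ((inv_orbit (K p G a) (lab p G a x : Lab G)).mono hYK).orbit_subset hd₀
  have hEo : E p (P : Subgroup G) (orbit Y d₀) = 0 := by
    have h1 := set_nonneg C.hyp hY hYtop hP (s := orbit Y d₀) (inv_orbit Y d₀) (fun z hz => hno z (hsub hz))
    have h2 := set_nonneg C.hyp hY hYtop hP (s := Λ \ orbit Y d₀)
      (((inv_orbit (K p G a) (lab p G a x : Lab G)).mono hYK).diff (inv_orbit Y d₀)) (fun z hz => hno z hz.1)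
    rw [E_diff (p := p) (P : Subgroup G) hsub] at hEΛ
    linarith
  have horb : orbit Y d₀ = Λ := by
    refine Set.eq_of_subset_of_ncard_le hsub ?_
    have hfle : (orbit Y d₀ ∩ Fixed (P : Subgroup G)).ncard ≤ (Λ ∩ Fixed (P : Subgroup G)).ncard :=
      Set.ncard_le_ncard (Set.inter_subset_inter_left _ hsub)
    have hfpos : 0 < (orbit Y d₀ ∩ Fixed (P : Subgroup G)).ncard :=
      (Set.ncard_pos).2 ⟨d₀, mem_orbit_self _, hd₀f⟩
    unfold E at hEo
    set f₀ := (orbit Y d₀ ∩ Fixed (P : Subgroup G)).ncard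
    set r₀ := (orbit Y d₀).ncard
    have hp3 := C.cast_three_le
    have hdvd : ((p : ℤ) - 1) ∣ (f₀ : ℤ) := ⟨(r₀ : ℤ) - 2 * f₀, by linear_combination -hEo⟩
    have hle : (p : ℤ) - 1 ≤ f₀ := Int.le_of_dvd (by exact_mod_cast hfpos) hdvd
    have hge : (f₀ : ℤ) ≤ (p : ℤ) - 1 := by
      have : (((Λ ∩ Fixed (P : Subgroup G)).ncard + 1 : ℕ) : ℤ) = p := by rw [hf]
      push_cast at this
      have : (f₀ : ℤ) ≤ ((Λ ∩ Fixed (P : Subgroup G)).ncard : ℤ) := by exact_mod_cast hfle
      linarith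
    have hr₀ : (r₀ : ℤ) = 2 * (p : ℤ) - 1 := by
      have hf₀ : (f₀ : ℤ) = (p : ℤ) - 1 := le_antisymm hge hle
      have : ((p : ℤ) - 1) * ((r₀ : ℤ) - (2 * (p : ℤ) - 1)) = 0 := by rw [hf₀] at hEo; linarith
      rcases mul_eq_zero.1 this with e | e <;> linarith
    omega
  have hmax : ∀ M : Subgroup G, Y ⊓ stabilizer G d₀ ≤ M → M ≤ Y → M = Y ⊓ stabilizer G d₀ ∨ M = Y := by
    classical
    intro M hM1 hM2
    by_cases hMY : M = Y
    · exact Or.inr hMY
    left
    let φ : Lab G → Lab G := fun z =>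
      if h : ∃ g ∈ Y, g • d₀ = z then h.choose • (⟨M⟩ : Lab G) else ⟨⊥⟩
    have hφ0 : ∀ g ∈ Y, φ (g • d₀) = g • (⟨M⟩ : Lab G) := by
      intro g hg
      have h : ∃ g' ∈ Y, g' • d₀ = g • d₀ := ⟨g, hg, rfl⟩
      simp only [φ, dif_pos h]
      obtain ⟨hc, hcx⟩ := h.choose_spec
      rw [← inv_smul_eq_iff, smul_smul]
      refine Lab.ext (cj_eq_self (hM1 ⟨Y.mul_mem (Y.inv_mem hg) hc, ?_⟩))
      change (g⁻¹ * h.choose) • d₀ = d₀
      rw [mul_smul, hcx, inv_smul_smul]
    have hφ : ∀ g ∈ Y, ∀ z ∈ orbit Y d₀, φ (g • z) = g • φ z := by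
      rintro g hg _ ⟨k, rfl⟩
      rw [show g • k • d₀ = (g * k.1) • d₀ from (mul_smul g k.1 d₀).symm, hφ0 _ (Y.mul_mem hg k.2),
        show φ (k • d₀) = _ from hφ0 k.1 k.2, mul_smul]
    have hφ1 : φ d₀ = ⟨M⟩ := by simpa using hφ0 1 Y.one_mem
    have hPM : (P : Subgroup G) ≤ M := (le_inf hP hd₀f).trans hM1
    have hMfix : (⟨M⟩ : Lab G) ∉ (Fixed Y : Set (Lab G)) := fun hfx =>
      hMY (eq_of_normalised hY hPM hM2 fun g hg => congrArg Lab.val (hfx g hg))
    obtain ⟨c, g, hg0, hgc, -, hcard, hfix, -⟩ := orbit_map_counts hφ hP ⟨d₀, mem_orbit_self _, hd₀f⟩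
    have hEq := orbit_nonneg C.hyp hY hYtop hP (x := φ d₀) (hφ1.symm ▸ hMfix)
    unfold E at hEq hEo
    rw [hcard, hfix] at hEo
    set r' := (orbit Y (φ d₀)).ncard
    set f' := (orbit Y (φ d₀) ∩ Fixed (P : Subgroup G)).ncard
    have hr' : r' * c + 1 = 2 * p := by rw [← hr, ← horb]; exact congrArg (· + 1) hcard.symm
    have hf' : f' * g + 1 = p := by rw [← hf, ← horb]; exact congrArg (· + 1) hfix.symm
    have hp3 := C.cast_three_le
    have hf'0 : 0 < f' := by
      rcases Nat.eq_zero_or_pos f' with e | e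
      · rw [e, zero_mul] at hf'; have := hp.out.two_le; omega
      · exact e
    have hgc' : (g : ℤ) = c := by
      have e1 : (g : ℤ) ≤ c := by exact_mod_cast hgc
      have e2 : (1 : ℤ) ≤ f' := by exact_mod_cast hf'0
      push_cast at hEo
      have e3 := mul_le_mul_of_nonneg_right (sub_nonneg.1 hEq) (Int.natCast_nonneg c)
      have e4 : (2 * (p : ℤ) - 1) * f' * c ≤ (2 * (p : ℤ) - 1) * f' * g := by linear_combination e3 + hEo
      exact le_antisymm e1 (le_of_mul_le_mul_left e4 (by nlinarith))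
    have hgc'' : g = c := by exact_mod_cast hgc'
    subst hgc''
    have hc1 : g = 1 := by
      have h1 : g ∣ 2 * p - 1 := Dvd.intro_left r' (by omega)
      have h2 : g ∣ p - 1 := Dvd.intro_left f' (by omega)
      have h3 : g ∣ (2 * p - 1) - 2 * (p - 1) := Nat.dvd_sub h1 (dvd_mul_of_dvd_right h2 2)
      have : (2 * p - 1) - 2 * (p - 1) = 1 := by have := hp.out.two_le; omega
      rw [this] at h3
      exact Nat.dvd_one.1 h3
    subst hc1
    have hinj : Set.InjOn φ (orbit Y d₀) := by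
      refine Set.injOn_of_ncard_image_eq ?_ (Set.toFinite _)
      rw [show φ '' orbit Y d₀ = orbit Y (φ d₀) from ?_, hcard, mul_one]
      obtain ⟨h1, h2⟩ := map_orbit hφ
      exact Set.Subset.antisymm (by rintro _ ⟨z, hz, rfl⟩; exact h1 z hz) (fun b hb => h2 b hb)
    refine le_antisymm (fun m hm => ⟨hM2 hm, ?_⟩) hM1
    refine hinj ⟨⟨m, hM2 hm⟩, rfl⟩ (mem_orbit_self _) ?_
    change φ (m • d₀) = φ d₀
    rw [hφ0 m (hM2 hm), hφ1]
    exact Lab.ext (cj_eq_self hm)
  have := (orbit_primitive C.hyp C.odd hY hYtop hP (x := d₀) (hno d₀ hd₀) ⟨d₀, mem_orbit_self _, hd₀f⟩ hmax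
    hp.out.two_le (by rw [hEo]; ring)).1
  rwa [horb] at this

/-- a non-nice suborbit does not fix labels -/
theorem bad_no_label {a x w : α} (h : Nice p G a x) (hw : w ≠ a) (hbad : ¬ Nice p G a w)
    (hF : Fx p G a w) : ∀ d ∈ (Lam p G a x : Set (Lab G)), d ∉ (Fixed (L p G a w) : Set (Lab G)) := by
  intro d hd hfd
  refine C.no_relation h hw (fun z d => d ∈ (Fixed (L p G a z) : Set (Lab G))) ?_
    (fun _ _ _ _ hR => hR) ?_ ⟨d, hd, hfd⟩ ?_
  · intro g hg z d hR
    rw [show L p G a (g • z) = cj g (L p G a z) by rw [← L_smul, show g • a = a from K_le a hg]]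
    exact (Fixed_cj g _).2 hR
  · intro z hz _ hfix
    have hza : z ≠ a := fun e => C.orbit_subset_compl hw hz e
    have hn : Nice p G a z := (C.cls_spec h ⟨hza, by rw [C.lab_eq_of_fixed h hza hfix]; exact lab_mem_Lam a x⟩).1
    exact hbad (C.nice_orbit hn (by rw [orbit_eq_iff.2 hz]; exact mem_orbit_self _))
  · obtain ⟨P, hP⟩ := hF
    obtain ⟨-, hf⟩ := C.exact_small h (hall a x h) (hP.trans (L_le_K a w))
    refine le_trans (Nat.add_le_add_right (Set.ncard_le_ncard ?_) 1) hf.le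
    exact fun e he => ⟨he.1, fun q hq => he.2 q (hP hq)⟩

theorem syls_count {a x y : α} (h : Nice p G a x) (hy : y ∈ cls p G a x)
    (hxy : (lab p G a y : Lab G) ≠ lab p G a x) {Y : Subgroup G} (hYK : Y ≤ K p G a)
    (ht : TupleTrans Y (Lam p G a x : Set (Lab G)) p) {P : Sylow p G}
    (hP : (P : Subgroup G) ≤ Y ⊓ stabilizer G (lab p G a x : Lab G) ⊓ stabilizer G (lab p G a y : Lab G)) :
    (((Lam p G a x : Set (Lab G)) ∩ Fixed (P : Subgroup G)).ncard - 1)
        * ((Lam p G a x : Set (Lab G)) ∩ Fixed (P : Subgroup G)).ncard * (Syls p Y).ncard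
      = ((Lam p G a x : Set (Lab G)).ncard - 1) * (Lam p G a x : Set (Lab G)).ncard
        * (Syls p (Y ⊓ stabilizer G (lab p G a x : Lab G) ⊓ stabilizer G (lab p G a y : Lab G))).ncard := by
  set Λ : Set (Lab G) := (Lam p G a x : Set (Lab G))
  set b : Lab G := lab p G a x
  set b' : Lab G := lab p G a y
  have hr : Λ.ncard + 1 = 2 * p :=
    (C.exact_small h (hall a x h) ((hP.trans inf_le_left).trans (inf_le_left.trans hYK))).1
  have hp2 := hp.out.two_le
  have hb : b ∈ Λ := lab_mem_Lam a x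
  have horb1 : orbit Y b = Λ := by
    refine Set.Subset.antisymm ?_ fun c hc => ?_
    · exact ((inv_orbit (K p G a) b).mono hYK).orbit_subset hb
    · obtain ⟨g, hg, hgc⟩ := ht.of_le (show 1 ≤ p by omega) (by omega) ![b] ![c]
        (Function.injective_of_subsingleton _) (Function.injective_of_subsingleton _)
        (by intro i; fin_cases i; exact hb) (by intro i; fin_cases i; exact hc)
      exact ⟨⟨g, hg⟩, hgc 0⟩
  have horb2 : orbit (Y ⊓ stabilizer G b : Subgroup G) b' = Λ \ {b} := by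
    refine Set.Subset.antisymm ?_ fun c hc => ?_
    · rintro _ ⟨⟨g, hg⟩, rfl⟩
      refine ⟨inv_orbit _ _ g (hYK hg.1) _ hy.2, fun e => hxy ?_⟩
      exact MulAction.injective g ((Set.mem_singleton_iff.1 e).trans (mem_stabilizer_iff.1 hg.2).symm)
    · obtain ⟨g, hg, hgc⟩ := ht.of_le (show 2 ≤ p by omega) (by omega) ![b, b'] ![b, c]
        (by intro i j hij; fin_cases i <;> fin_cases j <;> simp_all [Ne.symm hxy])
        (by
          have hcb : c ≠ b := fun e => hc.2 e
          intro i j hij; fin_cases i <;> fin_cases j <;> simp_all [Ne.symm hcb])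
        (by intro i; fin_cases i; exacts [hb, hy.2]) (by intro i; fin_cases i; exacts [hb, hc.1])
      exact ⟨⟨g, hg, hgc 0⟩, hgc 1⟩
  have hPb : (P : Subgroup G) ≤ Y ⊓ stabilizer G b := hP.trans inf_le_left
  have s1 := syls_orbit (p := p) (X := Y) b P (hPb.trans inf_le_left)
  have s2 := syls_orbit (p := p) (X := Y ⊓ stabilizer G b) b' P hPb
  rw [horb1] at s1
  rw [horb2] at s2
  have e2 : ((Λ \ {b}) ∩ Fixed (P : Subgroup G)).ncard = (Λ ∩ Fixed (P : Subgroup G)).ncard - 1 := by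
    rw [show (Λ \ {b}) ∩ Fixed (P : Subgroup G) = (Λ ∩ Fixed (P : Subgroup G)) \ {b} from by
      ext; simp; tauto]
    exact Set.ncard_sdiff_singleton_of_mem ⟨hb, fun q hq => (hPb hq).2⟩
  rw [e2, Set.ncard_sdiff_singleton_of_mem hb] at s2
  calc _ = ((Λ ∩ Fixed (P : Subgroup G)).ncard - 1) * ((Λ ∩ Fixed (P : Subgroup G)).ncard * (Syls p Y).ncard) := by
        ring
    _ = ((Λ ∩ Fixed (P : Subgroup G)).ncard - 1) * (Λ.ncard * (Syls p (Y ⊓ stabilizer G b)).ncard) := by rw [s1]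
    _ = Λ.ncard * (((Λ ∩ Fixed (P : Subgroup G)).ncard - 1) * (Syls p (Y ⊓ stabilizer G b)).ncard) := by ring
    _ = Λ.ncard * ((Λ.ncard - 1) * (Syls p (Y ⊓ stabilizer G b ⊓ stabilizer G b')).ncard) := by rw [s2]
    _ = _ := by ring

/-- three-point stabilisers in an exact class fix nothing outside the class -/
theorem fix_L3 {a x y w : α} (h : Nice p G a x) (hy : y ∈ cls p G a x)
    (hxy : (lab p G a y : Lab G) ≠ lab p G a x) (hw : w ≠ a)
    (hfix : pgen p (stabilizer G a ⊓ stabilizer G x ⊓ stabilizer G y) ≤ stabilizer G w) :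
    w ∈ cls p G a x := by
  by_contra hwc
  have h0 := hall a x h
  have hp3 := C.cast_three_le
  obtain ⟨⟨Q, hQ⟩, -⟩ := C.fix_two h (by rw [h0]; nlinarith) hy hxy
  set L3 := pgen p (stabilizer G a ⊓ stabilizer G x ⊓ stabilizer G y)
  have hL3Y : L3 ≤ L p G a w :=
    le_L (pgen_idem _) ((pgen_le _).trans (inf_le_left.trans inf_le_left)) hfix
  have hF : Fx p G a w := ⟨Q, hQ.trans hL3Y⟩
  have hno : ∀ d ∈ (Lam p G a x : Set (Lab G)), d ∉ (Fixed (L p G a w) : Set (Lab G)) := by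
    intro d hd hfd
    by_cases hnw : Nice p G a w
    · obtain ⟨⟨g, hg⟩, rfl⟩ := hd
      have hgx := C.orbit_subset_cls h.1 (show g • x ∈ orbit (K p G a) x from ⟨⟨g, hg⟩, rfl⟩)
      have e := C.lab_eq_of_fixed_lab hnw hgx.1 (C.cls_spec h hgx).1.2.1 (z := g • x)
        (by rw [lab_equi hg]; exact hfd)
      exact hwc ⟨hw, by rw [← e]; exact hgx.2⟩
    · exact C.bad_no_label hall h hw hnw hF d hd hfd
  have ht := C.tuple_trans hall h (C.L_gen a w) (L_le_K a w) (hQ.trans hL3Y) hno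
  obtain ⟨k, -, -, hk, htK, -⟩ := C.nice_spec h
  have hkp : k = p := by
    rw [h0] at hk
    rcases mul_eq_zero.1 hk.symm with e | e <;> omega
  rw [hkp] at htK
  set b : Lab G := lab p G a x
  set b' : Lab G := lab p G a y
  have hL3K : L3 ≤ K p G a := pgen_mono (inf_le_left.trans inf_le_left)
  have hL3b : L3 ≤ stabilizer G b := C.lab_fixed hL3K ((pgen_le _).trans (inf_le_left.trans inf_le_right))
  have hL3b' : L3 ≤ stabilizer G b' := C.lab_fixed hL3K ((pgen_le _).trans inf_le_right)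
  have hQY : (Q : Subgroup G) ≤ L p G a w ⊓ stabilizer G b ⊓ stabilizer G b' :=
    le_inf (le_inf (hQ.trans hL3Y) (hQ.trans hL3b)) (hQ.trans hL3b')
  have hQK : (Q : Subgroup G) ≤ K p G a ⊓ stabilizer G b ⊓ stabilizer G b' :=
    hQY.trans (inf_le_inf_right _ (inf_le_inf_right _ (L_le_K a w)))
  have s1 := C.syls_count hall h hy hxy (L_le_K a w) ht hQY
  have s2 := C.syls_count hall h hy hxy le_rfl htK hQK
  have hsame : Syls p (L p G a w ⊓ stabilizer G b ⊓ stabilizer G b')
      = Syls p (K p G a ⊓ stabilizer G b ⊓ stabilizer G b') := by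
    ext R
    refine ⟨fun hR => le_trans hR (inf_le_inf_right _ (inf_le_inf_right _ (L_le_K a w))), fun hR => ?_⟩
    obtain ⟨⟨h1, h2⟩, h3⟩ := (le_inf_iff.trans (and_congr_left' le_inf_iff)).1
      (show (R : Subgroup G) ≤ K p G a ⊓ stabilizer G b ⊓ stabilizer G b' from hR)
    have hR3 : (R : Subgroup G) ≤ L3 := le_pgen R.isPGroup' (le_inf (le_inf (h1.trans (K_le a))
      (C.fixed_of_lab h.1 h.2.1 h1 h2)) (C.fixed_of_lab hy.1 (C.cls_spec h hy).1.2.1 h1 h3))
    exact le_inf (le_inf (hR3.trans hL3Y) h2) h3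
  rw [hsame, ← s2] at s1
  obtain ⟨-, hf⟩ := C.exact_small h h0 (hQK.trans (inf_le_left.trans inf_le_left))
  have hpos : 0 < (((Lam p G a x : Set (Lab G)) ∩ Fixed (Q : Subgroup G)).ncard - 1)
      * ((Lam p G a x : Set (Lab G)) ∩ Fixed (Q : Subgroup G)).ncard := by
    have := C.three_le
    exact Nat.mul_pos (by omega) (by omega)
  have hS : Syls p (L p G a w) = Syls p (K p G a) :=
    Set.eq_of_subset_of_ncard_le (fun R hR => le_trans hR (L_le_K a w))
      (Nat.eq_of_mul_eq_mul_left hpos s1).ge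
  refine C.L_ne_K hw (le_antisymm (L_le_K a w) ?_)
  have := pgen_le_of_syls (hQK.trans (inf_le_left.trans inf_le_left)) (Y := L p G a w) hS.symm.subset
  rwa [K, pgen_idem] at this

theorem Sz_one_of_land {a x z : α} (h : Nice p G a x) (hz : z ∈ cls p G a x)
    (hxz : (lab p G a z : Lab G) ≠ lab p G a x) (hl : z ∈ cls p G x a) : Sz p G a x = 1 := by
  have hxa := C.nice_symm h
  have hzx := (C.cls_spec hxa hl).1
  have hsub : (Fixed (L p G x z) : Set α) \ {x} ⊆ {z} := by
    rintro t ⟨ht, htx : t ≠ x⟩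
    rw [Set.mem_singleton_iff]
    by_contra htz
    have h3 : pgen p (stabilizer G a ⊓ stabilizer G x ⊓ stabilizer G z) ≤ stabilizer G t :=
      (pgen_mono (inf_le_inf_right _ inf_le_right)).trans ht
    have hfix1 := C.lab_eq_of_fixed hzx htx ht
    by_cases hta : t = a
    · subst hta
      exact C.lab_ne_symm h hz.1 hxz hfix1.symm
    have htc := C.fix_L3 hall h hz hxz hta h3
    rcases (C.fix_two h (by rw [hall a x h]; nlinarith [C.cast_three_le]) hz hxz).2 t htc h3 with e | e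
    · have ht' : L p G x a ≤ stabilizer G t := by
        rw [L_comm x a, ← show L p G a t = L p G a x from congrArg Lab.val e]
        exact L_le_right a t
      exact C.lab_ne_symm h hz.1 hxz (hfix1.symm.trans (C.lab_eq_of_fixed hxa htx ht'))
    · have ht' : L p G z a ≤ stabilizer G t := by
        rw [L_comm z a, ← show L p G a t = L p G a z from congrArg Lab.val e]
        exact L_le_right a t
      have hza := C.nice_symm (C.cls_spec h hz).1
      have hzt : (lab p G z t : Lab G) = lab p G z a := C.lab_eq_of_fixed hza htz ht'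
      have hzt' : (lab p G z t : Lab G) = lab p G z x := by
        refine C.lab_eq_of_fixed (C.nice_symm hzx) htz ?_
        rw [L_comm z x]; exact ht
      have heq : L p G z a = L p G x z := by
        rw [L_comm x z]; exact congrArg Lab.val (hzt.symm.trans hzt')
      refine C.lab_ne_symm h hz.1 hxz (C.lab_eq_of_fixed hzx h.1.symm ?_).symm
      rw [← heq]
      exact L_le_right z a
  have h1 : Sz p G x z ≤ 1 := by
    have := Set.ncard_le_ncard hsub
    rwa [Set.ncard_singleton] at this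
  rw [C.Sz_lab hl, C.Sz_comm h.1] at h1
  have := C.Sz_pos h.1
  omega

theorem allBad_of_bad {a x y : α} (h : Nice p G a x) (hy : y ∈ cls p G a x)
    (hxy : (lab p G a y : Lab G) ≠ lab p G a x) (hbad : ¬ Nice p G x y) : AllBad p G a x := by
  intro x' hx' z hz hne hnice
  have hx'n := (C.cls_spec h hx').1
  have hcls := cls_eq_of_mem hx'
  have hzc : z ∈ cls p G a x' := by rw [hcls]; exact hz
  have hzx' : z ≠ x' := fun e => hne (e ▸ rfl)
  have hl : z ∈ cls p G x' a := ⟨hzx', by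
    rcases C.piece_or_bad (C.max_of_nice hall hx'n) hzc hne with e | e
    · exact e
    · exact absurd hnice e.1⟩
  have hS : Sz p G a x = 1 := by
    rw [← C.Sz_lab hx']; exact C.Sz_one_of_land hall hx'n hzc hne hl
  -- so the class is a single orbit, mapped injectively to its labels
  obtain ⟨c, hc, hcard, -⟩ := C.EA_orbit_eq h.1 h.2.1
  obtain ⟨hclsc, -, -⟩ := C.cls_counts h (C.syl_le a)
  rw [hS, mul_one] at hclsc
  have horb : orbit (K p G a) x = cls p G a x := by
    refine Set.eq_of_subset_of_ncard_le (C.orbit_subset_cls h.1) ?_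
    rw [hclsc, hcard]
    exact Nat.le_mul_of_pos_right _ hc
  have hinj : ∀ u ∈ cls p G a x, ∀ v ∈ cls p G a x, (lab p G a u : Lab G) = lab p G a v → u = v := by
    intro u hu v hv e
    have hSu : Sz p G a u = 1 := (C.Sz_lab hu).trans hS
    obtain ⟨w, hw⟩ := Set.ncard_eq_one.1 hSu
    have m1 : u ∈ (Fixed (L p G a u) : Set α) \ {a} := ⟨L_le_right a u, hu.1⟩
    have m2 : v ∈ (Fixed (L p G a u) : Set α) \ {a} := by
      refine ⟨?_, hv.1⟩
      rw [mem_Fixed, show L p G a u = L p G a v from congrArg Lab.val e]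
      exact L_le_right a v
    rw [hw] at m1 m2
    exact (Set.mem_singleton_iff.1 m1).trans (Set.mem_singleton_iff.1 m2).symm
  obtain ⟨⟨g, hg⟩, hgx⟩ : x' ∈ orbit (K p G a) x := horb ▸ hx'
  replace hgx : g • x = x' := hgx
  have hga : g⁻¹ • a = a := K_le a ((K p G a).inv_mem hg)
  have hgx' : g⁻¹ • x' = x := by rw [← hgx, inv_smul_smul]
  set z₀ := g⁻¹ • z
  have hz₀ : z₀ ∈ cls p G a x := C.cls_inv a x _ ((K p G a).inv_mem hg) z hz
  have hz₀l : z₀ ∈ cls p G x a := by
    have : g⁻¹ • z ∈ g⁻¹ • cls p G x' a := Set.smul_mem_smul_set hl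
    rwa [smul_cls, hga, hgx'] at this
  have hz₀n : (lab p G a z₀ : Lab G) ≠ lab p G a x := by
    intro e
    have e' : g • (lab p G a z₀ : Lab G) = g • lab p G a x := congrArg _ e
    rw [← lab_equi hg, ← lab_equi hg, smul_inv_smul, hgx] at e'
    exact hne e'
  obtain ⟨k, -, -, -, -, htr⟩ := C.nice_spec h
  obtain ⟨l, hl', hly⟩ := htr _ hy.2 _ hz₀.2 hxy hz₀n
  have hyl : l • y = z₀ := by
    refine hinj _ (C.cls_inv a x l (L_le_K a x hl') y hy) _ hz₀ ?_
    rw [lab_equi (L_le_K a x hl')]; exact hly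
  have hy' : y = l⁻¹ • z₀ := by rw [← hyl, inv_smul_smul]
  refine hbad (C.cls_spec (C.nice_symm h) ?_).1
  rw [hy']
  have : l⁻¹ • z₀ ∈ l⁻¹ • cls p G x a := Set.smul_mem_smul_set hz₀l
  rwa [smul_cls, show l⁻¹ • a = a from L_le_left a x ((L p G a x).inv_mem hl'),
    show l⁻¹ • x = x from L_le_right a x ((L p G a x).inv_mem hl')] at this

theorem allBad_symm {a x : α} (h : Nice p G a x) (hb : AllBad p G a x) : AllBad p G x a := by
  have hxa := C.nice_symm h
  obtain ⟨-, -, hrf⟩ := C.Lam_counts hxa.1 hxa.2.1 (C.syl_le x)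
  obtain ⟨d, hd, hdb⟩ := Set.exists_ne_of_one_lt_ncard
    (show 1 < (Lam p G x a : Set (Lab G)).ncard by have := C.three_le; omega) (lab p G x a)
  obtain ⟨⟨g, hg⟩, rfl⟩ := hd
  have hy : g • a ∈ cls p G x a := C.orbit_subset_cls hxa.1 ⟨⟨g, hg⟩, rfl⟩
  have hne : (lab p G x (g • a) : Lab G) ≠ lab p G x a := by rw [lab_equi hg]; exact hdb
  refine C.allBad_of_bad hall hxa hy hne fun hn => ?_
  rcases C.piece_or_bad (C.max_of_nice hall hxa) hy hne with e | e
  · have hya : g • a ≠ a := fun e' => hne (by rw [e'])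
    refine hb x (mem_cls_self h.1) (g • a) ⟨hya, e⟩ ?_ (C.cls_spec hxa hy).1
    exact fun e' => hne (C.lab_eq_of_fixed hxa hy.1 (by
      rw [L_comm x a, ← show L p G a (g • a) = L p G a x from congrArg Lab.val e']
      exact L_le_right a _))
  · exact e.1 hn

end Exact

end Ctx

end CfsgLib.SylowRatio
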