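import Cfsg.Agent.SylowRatio.Basic

/-!
# Orbits of proper subgroups generated by `p`-elements
-/

set_option linter.unusedSectionVars false

namespace CfsgLib.SylowRatio

open MulAction
open scoped Pointwise

universe u

variable {p : ℕ} [hp : Fact p.Prime] {G : Type u} [Group G]

/-- the inductive statement -/
def Good (p : ℕ) [Fact p.Prime] (G : Type u) [Group G] (β : Type u) [MulAction G β] : Prop :=
  IsPretransitive G β → Nontrivial β → ∀ P : Sylow p G, (Fixed (P : Subgroup G) : Set β).Nonempty →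
    0 ≤ E p (P : Subgroup G) (Set.univ : Set β) ∧
      (p ≠ 2 → IsPreprimitive G β → ∀ k : ℕ, 2 ≤ k →
        E p (P : Subgroup G) (Set.univ : Set β) = p * ((p : ℤ) - k) →
        IsMultiplyPretransitive G β k ∧
          ∀ b c d : β, c ≠ b → d ≠ b → ∃ g ∈ pgen p (stabilizer G b), g • c = d)

/-- standing hypotheses: the group is generated by `p`-elements and all smaller ones are good -/
structure Hyp (p : ℕ) [Fact p.Prime] (G : Type u) [Group G] : Prop where
  gen : pgen p (⊤ : Subgroup G) = ⊤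
  ih : ∀ X : Subgroup G, pgen p X = X → X ≠ ⊤ → ∀ (β : Type u) [MulAction X β] [Finite β], Good p X β

variable [Finite G]

theorem pgen_le_of_syls {X Y : Subgroup G} {P : Sylow p G} (hP : (P : Subgroup G) ≤ X)
    (h : Syls p X ⊆ Syls p Y) : pgen p X ≤ Y := by
  refine (Subgroup.closure_le _).2 ?_
  rintro g ⟨hg, k, hk⟩
  have hz : IsPGroup p (Subgroup.zpowers (⟨g, hg⟩ : X)) :=
    IsPGroup.of_card (n := k) (by rw [Nat.card_zpowers, Subgroup.orderOf_mk, hk])
  obtain ⟨R, hR⟩ := hz.exists_le_sylow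
  obtain ⟨x, hx⟩ := MulAction.exists_smul_eq X (P.subtype hP) R
  rw [Sylow.smul_subtype] at hx
  have hgR := hR (Subgroup.mem_zpowers _)
  rw [← hx] at hgR
  exact h (Sylow.smul_le hP x) hgR

theorem eq_of_normalised {X M : Subgroup G} (hX : pgen p X = X) {P : Sylow p G}
    (hP : (P : Subgroup G) ≤ M) (hM : M ≤ X) (hn : ∀ g ∈ X, cj g M = M) : M = X := by
  refine le_antisymm hM ?_
  rw [← hX]
  refine pgen_le_of_syls (hP.trans hM) fun Q hQ => ?_
  obtain ⟨x, hx, hxPQ⟩ := exists_cj_sylow (hP.trans hM) hQ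
  change (Q : Subgroup G) ≤ M
  rw [← hxPQ, ← hn x hx]
  exact cj_mono x hP

theorem pgen_top_of_eq {X : Subgroup G} (hX : pgen p X = X) : pgen p (⊤ : Subgroup X) = ⊤ := by
  refine Subgroup.map_injective X.subtype_injective ?_
  rw [← MonoidHom.range_eq_map, Subgroup.range_subtype, pgen, MonoidHom.map_closure]
  refine Eq.trans ?_ hX
  unfold pgen
  congr 1
  ext g
  constructor
  · rintro ⟨a, ⟨-, k, hk⟩, rfl⟩
    exact ⟨a.2, k, by rw [Subgroup.coe_subtype, Subgroup.orderOf_coe, hk]⟩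
  · rintro ⟨hg, k, hk⟩
    exact ⟨⟨g, hg⟩, ⟨Subgroup.mem_top _, k, by rw [Subgroup.orderOf_mk, hk]⟩, rfl⟩

variable {α : Type u} [MulAction G α] [Finite α]

theorem E_orbit_eq {X : Subgroup G} {P : Sylow p G} (hP : (P : Subgroup G) ≤ X) (x : α) :
    E p ((P.subtype hP : Sylow p X) : Subgroup X) (Set.univ : Set (orbit X x))
      = E p (P : Subgroup G) (orbit X x) := by
  unfold E
  rw [Set.ncard_univ, Nat.card_coe_set_eq, Set.univ_inter, ← Set.ncard_image_of_injective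
    (Fixed ((P.subtype hP : Sylow p X) : Subgroup X) : Set (orbit X x)) Subtype.val_injective]
  congr 4
  ext z
  constructor
  · rintro ⟨w, hw, rfl⟩
    refine ⟨w.2, fun q hq => ?_⟩
    exact congrArg Subtype.val (hw ⟨q, hP hq⟩ hq)
  · rintro ⟨hz, hzf⟩
    exact ⟨⟨z, hz⟩, fun q hq => Subtype.ext (hzf q.1 hq), rfl⟩

/-- transitivity on tuples inside a set -/
def TupleTrans (X : Subgroup G) (s : Set α) (k : ℕ) : Prop :=
  ∀ u v : Fin k → α, Function.Injective u → Function.Injective v → (∀ i, u i ∈ s) → (∀ i, v i ∈ s) →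
    ∃ g ∈ X, ∀ i, g • u i = v i

theorem TupleTrans.of_le {X : Subgroup G} {s : Set α} {k m : ℕ} (h : TupleTrans X s k) (hm : m ≤ k)
    (hk : k ≤ s.ncard) : TupleTrans X s m := by
  obtain ⟨l, rfl⟩ := Nat.exists_eq_add_of_le hm
  have hext : ∀ u : Fin m → α, Function.Injective u → (∀ i, u i ∈ s) → ∃ u' : Fin (m + l) → α,
      Function.Injective u' ∧ (∀ i, u' i ∈ s) ∧ ∀ i : Fin m, u' (i.castAdd l) = u i := by
    intro u hu hus
    classical
    have hc : l ≤ (s \ Set.range u).ncard := by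
      have h1 : (Set.range u).ncard = m := by
        rw [← Nat.card_coe_set_eq, Nat.card_range_of_injective hu, Nat.card_fin]
      have h2 := Set.le_ncard_sdiff (Set.range u) s (Set.toFinite _)
      omega
    have := Fintype.ofFinite ↥(s \ Set.range u)
    obtain ⟨w⟩ : Nonempty (Fin l ↪ ↥(s \ Set.range u)) :=
      Function.Embedding.nonempty_of_card_le (by
        rwa [Fintype.card_fin, ← Nat.card_eq_fintype_card, Nat.card_coe_set_eq])
    refine ⟨Fin.append u (fun i => (w i).1), Fin.append_injective_iff.2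
      ⟨hu, Subtype.val_injective.comp w.injective, fun i j h => (w j).2.2 ⟨i, h⟩⟩, ?_, fun i => by simp⟩
    intro i
    induction i using Fin.addCases with
    | left i => simpa using hus i
    | right i => simpa using (w i).2.1
  intro u v hu hv hus hvs
  obtain ⟨u', hu', hus', hue⟩ := hext u hu hus
  obtain ⟨v', hv', hvs', hve⟩ := hext v hv hvs
  obtain ⟨g, hg, hgv⟩ := h u' v' hu' hv' hus' hvs'
  exact ⟨g, hg, fun i => by rw [← hue, ← hve]; exact hgv _⟩

theorem orbit_nonneg (H : Hyp p G) {X : Subgroup G} (hX : pgen p X = X) (hXt : X ≠ ⊤) {P : Sylow p G}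
    (hP : (P : Subgroup G) ≤ X) {x : α} (hx : x ∉ (Fixed X : Set α)) :
    0 ≤ E p (P : Subgroup G) (orbit X x) := by
  by_cases hf : (orbit X x ∩ Fixed (P : Subgroup G)).Nonempty
  · obtain ⟨z, hz, hzf⟩ := hf
    have hnt : Nontrivial (orbit X x) := by
      obtain ⟨g, hg, hgx⟩ : ∃ g ∈ X, g • x ≠ x := by
        simpa [Fixed] using hx
      exact ⟨⟨x, mem_orbit_self x⟩, ⟨g • x, mem_orbit x (⟨g, hg⟩ : X)⟩, fun h => hgx (congrArg Subtype.val h).symm⟩
    rw [← E_orbit_eq hP x]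
    exact (H.ih X hX hXt (orbit X x) inferInstance hnt (P.subtype hP)
      ⟨⟨z, hz⟩, fun q hq => Subtype.ext (hzf q.1 hq)⟩).1
  · rw [E_of_noFixed (Set.not_nonempty_iff_eq_empty.1 hf)]
    have : (1 : ℤ) ≤ p := by exact_mod_cast hp.out.one_le
    exact mul_nonneg (by linarith) (Int.natCast_nonneg _)

theorem set_nonneg (H : Hyp p G) {X : Subgroup G} (hX : pgen p X = X) (hXt : X ≠ ⊤) {P : Sylow p G}
    (hP : (P : Subgroup G) ≤ X) {s : Set α} (hs : Inv X s) (hfix : ∀ x ∈ s, x ∉ (Fixed X : Set α)) :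
    0 ≤ E p (P : Subgroup G) s := by
  induction h : s.ncard using Nat.strong_induction_on generalizing s with
  | _ n ih =>
    subst h
    rcases s.eq_empty_or_nonempty with rfl | ⟨x, hx⟩
    · simp
    rw [E_diff _ (hs.orbit_subset hx)]
    refine add_nonneg (orbit_nonneg H hX hXt hP (hfix x hx)) (ih _ ?_ (hs.diff (inv_orbit X x))
      (fun y hy => hfix y hy.1) rfl)
    exact Set.ncard_lt_ncard ⟨Set.sdiff_subset, fun h => (h hx).2 (mem_orbit_self x)⟩

theorem orbit_primitive (H : Hyp p G) (hp2 : p ≠ 2) {X : Subgroup G} (hX : pgen p X = X) (hXt : X ≠ ⊤)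
    {P : Sylow p G} (hP : (P : Subgroup G) ≤ X) {x : α} (hx : x ∉ (Fixed X : Set α))
    (hf : (orbit X x ∩ Fixed (P : Subgroup G)).Nonempty)
    (hmax : ∀ Y : Subgroup G, X ⊓ stabilizer G x ≤ Y → Y ≤ X → Y = X ⊓ stabilizer G x ∨ Y = X)
    {k : ℕ} (hk : 2 ≤ k) (hE : E p (P : Subgroup G) (orbit X x) = p * ((p : ℤ) - k)) :
    TupleTrans X (orbit X x) k ∧ ∀ b ∈ orbit X x, ∀ c ∈ orbit X x, ∀ d ∈ orbit X x, c ≠ b → d ≠ b →
      ∃ g ∈ pgen p (X ⊓ stabilizer G b), g • c = d := by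
  obtain ⟨g, hg, hgx⟩ : ∃ g ∈ X, g • x ≠ x := by simpa [Fixed] using hx
  have hnt : Nontrivial (orbit X x) :=
    ⟨⟨x, mem_orbit_self x⟩, ⟨g • x, mem_orbit x (⟨g, hg⟩ : X)⟩, fun h => hgx (congrArg Subtype.val h).symm⟩
  obtain ⟨z, hz, hzf⟩ := hf
  have hstab : ∀ y : orbit X x, (stabilizer X y).map X.subtype = X ⊓ stabilizer G (y : α) := by
    intro y
    ext a
    constructor
    · rintro ⟨b, hb, rfl⟩
      exact ⟨b.2, congrArg Subtype.val (hb : b • y = y)⟩
    · rintro ⟨ha, hay⟩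
      exact ⟨⟨a, ha⟩, Subtype.ext hay, rfl⟩
  have hprim : IsPreprimitive X (orbit X x) := by
    rw [← isCoatom_stabilizer_iff_preprimitive X (⟨x, mem_orbit_self x⟩ : orbit X x)]
    refine ⟨fun h => ?_, fun Y hY => ?_⟩
    · have hg' : (⟨g, hg⟩ : X) ∈ stabilizer X (⟨x, mem_orbit_self x⟩ : orbit X x) := h ▸ Subgroup.mem_top _
      exact hgx (congrArg Subtype.val hg')
    · have hle := Subgroup.map_mono (f := X.subtype) hY.le
      rw [hstab] at hle
      rcases hmax _ hle (Subgroup.map_subtype_le Y) with h | h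
      · exfalso
        rw [← hstab ⟨x, mem_orbit_self x⟩] at h
        exact hY.ne (Subgroup.map_injective X.subtype_injective h).symm
      · refine Subgroup.map_injective X.subtype_injective ?_
        rw [h, ← MonoidHom.range_eq_map, Subgroup.range_subtype]
  obtain ⟨hk', hL⟩ := (H.ih X hX hXt (orbit X x) inferInstance hnt (P.subtype hP)
      ⟨⟨z, hz⟩, fun q hq => Subtype.ext (hzf q.1 hq)⟩).2 hp2 hprim k hk (by rw [E_orbit_eq hP x]; exact hE)
  constructor
  · intro u v hu hv hus hvs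
    obtain ⟨a, ha⟩ := hk'.exists_smul_eq
      ⟨fun i => ⟨u i, hus i⟩, fun i j h => hu (congrArg Subtype.val h)⟩
      ⟨fun i => ⟨v i, hvs i⟩, fun i j h => hv (congrArg Subtype.val h)⟩
    exact ⟨a.1, a.2, fun i => congrArg Subtype.val (DFunLike.congr_fun ha i)⟩
  · intro b hb c hc d hd hcb hdb
    obtain ⟨a, ha, had⟩ := hL ⟨b, hb⟩ ⟨c, hc⟩ ⟨d, hd⟩ (fun h => hcb (congrArg Subtype.val h))
      (fun h => hdb (congrArg Subtype.val h))
    refine ⟨a.1, ?_, congrArg Subtype.val had⟩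
    have hle : (pgen p (stabilizer X (⟨b, hb⟩ : orbit X x))).map X.subtype
        ≤ pgen p (X ⊓ stabilizer G b) := by
      rw [← hstab ⟨b, hb⟩, pgen, MonoidHom.map_closure]
      refine Subgroup.closure_mono ?_
      rintro _ ⟨y, ⟨hy, k, hk⟩, rfl⟩
      exact ⟨⟨y, hy, rfl⟩, k, by rw [Subgroup.coe_subtype, Subgroup.orderOf_coe, hk]⟩
    exact hle ⟨a, ha, rfl⟩

/-- `E` over fibres all whose points are fixed when their image is. -/
theorem E_full {β : Type*} [MulAction G β] [Finite β] (P : Subgroup G) (s : Set α) (φ : α → β)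
    (o : Set β) (hmap : ∀ z ∈ s, φ z ∈ o) {c : ℕ} (hc : ∀ b ∈ o, {z ∈ s | φ z = b}.ncard = c)
    (hfull : ∀ z ∈ s, z ∈ (Fixed P : Set α) ↔ φ z ∈ (Fixed P : Set β)) :
    s.ncard = o.ncard * c ∧ (s ∩ Fixed P).ncard = (o ∩ Fixed P).ncard * c ∧ E p P s = c * E p P o := by
  have h1 := ncard_eq_mul_of_fibres s o φ hmap hc
  have h2 : (s ∩ Fixed P).ncard = (o ∩ Fixed P).ncard * c := by
    refine ncard_eq_mul_of_fibres _ _ φ
      (fun z hz => Set.mem_inter (hmap z hz.1) ((hfull z hz.1).1 hz.2)) fun b hb => ?_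
    rw [← hc b hb.1]
    congr 1
    ext z
    simp only [Set.mem_ofPred_eq, Set.mem_inter_iff]
    exact ⟨fun h => ⟨h.1.1, h.2⟩, fun h => ⟨⟨h.1, (hfull z h.1).2 (h.2 ▸ hb.2)⟩, h.2⟩⟩
  refine ⟨h1, h2, ?_⟩
  unfold E
  rw [h1, h2]
  push_cast; ring

end CfsgLib.SylowRatio
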