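import Cfsg.Agent.SylowRatio.Facts

/-!
# Where the pieces of a suborbit go
-/

set_option linter.unusedSectionVars false

namespace CfsgLib.SylowRatio

open MulAction
open scoped Pointwise

universe u

variable {p : ℕ} [hp : Fact p.Prime] {G : Type u} [Group G] [Finite G] {α : Type u} [MulAction G α]
  [Finite α]

/-- a suborbit whose labels have maximal excess -/
def Max (p : ℕ) [Fact p.Prime] (G : Type u) [Group G] [Finite G] {α : Type u} [MulAction G α] (a x : α) :
    Prop :=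
  Nice p G a x ∧ ∀ b y : α, Nice p G b y →
    EA p G b (Lam p G b y : Set (Lab G)) ≤ EA p G a (Lam p G a x : Set (Lab G))

/-- the labels seen from `x` of the points in the class of `x` are in the class of `a` -/
def Piece (p : ℕ) [Fact p.Prime] (G : Type u) [Group G] [Finite G] {α : Type u} [MulAction G α] (a x : α) :
    Prop :=
  ∀ y ∈ cls p G a x, (lab p G a y : Lab G) ≠ lab p G a x →
    (lab p G x y : Lab G) ∈ (Lam p G x a : Set (Lab G))

/-- the closed set spanned by a maximal suborbit -/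
def Vset (p : ℕ) [Fact p.Prime] (G : Type u) [Group G] [Finite G] {α : Type u} [MulAction G α] (a x : α) :
    Set α :=
  insert a (cls p G a x)

namespace Ctx

variable (C : Ctx p G α)
include C

theorem max_smul (g : G) {a x : α} (h : Max p G a x) : Max p G (g • a) (g • x) :=
  ⟨C.nice_smul g h.1, fun b y hby => by rw [C.EA_Lam_smul]; exact h.2 b y hby⟩

theorem max_cls {a x y : α} (h : Max p G a x) (hy : y ∈ cls p G a x) : Max p G a y := by
  obtain ⟨hn, hL⟩ := C.cls_spec h.1 hy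
  exact ⟨hn, fun b z hz => by rw [hL]; exact h.2 b z hz⟩

/-- an orbit of a two-point label on the class of one of the points -/
theorem L_orbit_counts {a x y : α} (h : Nice p G a x) (hy : y ∈ cls p G a x)
    (hxy : (lab p G a y : Lab G) ≠ lab p G a x) {P : Sylow p G} (hP : (P : Subgroup G) ≤ L p G a x) :
    ∃ c : ℕ, 0 < c ∧ c = {z ∈ orbit (L p G a x) y | (lab p G a z : Lab G) = lab p G a y}.ncard ∧
      (∀ z ∈ orbit (L p G a x) y, z ∈ cls p G a x ∧ (lab p G a z : Lab G) ≠ lab p G a x) ∧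
      (orbit (L p G a x) y).ncard + c = (Lam p G a x : Set (Lab G)).ncard * c ∧
      (orbit (L p G a x) y ∩ Fixed (P : Subgroup G)).ncard + c
        = ((Lam p G a x : Set (Lab G)) ∩ Fixed (P : Subgroup G)).ncard * c ∧
      E p (P : Subgroup G) (orbit (L p G a x) y)
        = c * (EA p G a (Lam p G a x : Set (Lab G)) + p) := by
  obtain ⟨k, -, -, -, -, htr⟩ := C.nice_spec h
  set b : Lab G := lab p G a x
  set Λ : Set (Lab G) := (Lam p G a x : Set (Lab G))
  set Z := orbit (L p G a x) y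
  have hequi : ∀ g ∈ (L p G a x : Subgroup G), ∀ z ∈ Z, (lab p G a (g • z) : Lab G) = g • lab p G a z :=
    fun g hg z _ => lab_equi (L_le_K a x hg) z
  have hbfix : b ∈ (Fixed (L p G a x) : Set (Lab G)) := C.lab_fixed (L_le_K a x) (L_le_right a x)
  have hZ : ∀ z ∈ Z, z ∈ cls p G a x ∧ (lab p G a z : Lab G) ≠ b := by
    rintro _ ⟨⟨g, hg⟩, rfl⟩
    refine ⟨C.cls_inv a x g (L_le_K a x hg) y hy, fun he => hxy ?_⟩
    change (lab p G a (g • y) : Lab G) = b at he
    rw [hequi g hg y (mem_orbit_self y)] at he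
    exact MulAction.injective g (he.trans (hbfix g hg).symm)
  have himg : orbit (L p G a x) (lab p G a y : Lab G) = Λ \ {b} := by
    refine Set.Subset.antisymm ?_ fun c hc => ?_
    · rintro _ ⟨⟨g, hg⟩, rfl⟩
      refine ⟨inv_orbit _ _ g (L_le_K a x hg) _ hy.2, fun he => hxy ?_⟩
      exact MulAction.injective g ((Set.mem_singleton_iff.1 he).trans (hbfix g hg).symm)
    · obtain ⟨l, hl, hlc⟩ := htr _ hy.2 c hc.1 hxy (fun he => hc.2 he)
      exact ⟨⟨l, hl⟩, hlc⟩
  have hPK : (P : Subgroup G) ≤ K p G a := hP.trans (L_le_K a x)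
  obtain ⟨h1, h2, h3⟩ := E_full (p := p) (P : Subgroup G) Z (lab p G a) (Λ \ {b})
    (fun z hz => ⟨(hZ z hz).1.2, fun he => (hZ z hz).2 he⟩)
    (fun c hc => ncard_fibre (X := (L p G a x : Subgroup G)) hequi (himg.symm ▸ hc))
    (fun z hz => ⟨C.lab_fixed hPK, C.fixed_of_lab (hZ z hz).1.1 (C.cls_spec h (hZ z hz).1).1.2.1 hPK⟩)
  have hbΛ : b ∈ Λ := lab_mem_Lam a x
  have hbP : b ∈ (Fixed (P : Subgroup G) : Set (Lab G)) := fun q hq => hbfix q (hP hq)
  have e1 : (Λ \ {b}).ncard + 1 = Λ.ncard := Set.ncard_sdiff_singleton_add_one hbΛ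
  have e2 : ((Λ \ {b}) ∩ Fixed (P : Subgroup G)).ncard + 1 = (Λ ∩ Fixed (P : Subgroup G)).ncard := by
    rw [show (Λ \ {b}) ∩ Fixed (P : Subgroup G) = (Λ ∩ Fixed (P : Subgroup G)) \ {b} from by
      ext; simp; tauto]
    exact Set.ncard_sdiff_singleton_add_one ⟨hbΛ, hbP⟩
  refine ⟨_, (Set.ncard_pos).2 (show ({z ∈ Z | (lab p G a z : Lab G) = lab p G a y}).Nonempty from ⟨y, mem_orbit_self y, rfl⟩), rfl, hZ, ?_, ?_, ?_⟩
  · rw [h1, ← e1]; ring
  · rw [h2, ← e2]; ring
  · have e3 := E_diff (p := p) (P : Subgroup G) (Set.singleton_subset_iff.2 hbΛ)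
    rw [E_singleton hbP] at e3
    rw [h3, show EA p G a Λ = E p (P : Subgroup G) Λ from C.EA_eq a (inv_orbit _ _) hPK, e3]
    ring

/-- a piece either returns to the class of the first point, or the excess is zero -/
theorem piece_or_bad {a x y : α} (h : Max p G a x) (hy : y ∈ cls p G a x)
    (hxy : (lab p G a y : Lab G) ≠ lab p G a x) :
    (lab p G x y : Lab G) ∈ (Lam p G x a : Set (Lab G)) ∨
      (¬ Nice p G x y ∧ EA p G a (Lam p G a x : Set (Lab G)) = 0) := by
  by_cases hin : (lab p G x y : Lab G) ∈ (Lam p G x a : Set (Lab G))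
  · exact Or.inl hin
  right
  have hx := h.1.1
  have hyx : y ≠ x := fun e => hxy (e ▸ rfl)
  have hxa := C.nice_symm h.1
  have hnotorb : a ∉ orbit (K p G x) y := fun ha => hin (by
    have hy' : y ∈ cls p G x a := C.orbit_subset_cls hx.symm (by rw [orbit_eq_iff.2 ha]; exact mem_orbit_self _)
    exact hy'.2)
  have hzero : EA p G x (Lam p G x a : Set (Lab G)) = 0 → EA p G a (Lam p G a x : Set (Lab G)) = 0 := by
    intro h0
    have hr := C.EA_ratio hx h.1.2.1
    rw [h0, zero_mul] at hr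
    rcases mul_eq_zero.1 hr with e | e
    · exact e
    · have := (Set.ncard_pos).2 ⟨_, lab_mem_Lam (p := p) (G := G) x a⟩
      omega
  by_cases hny : Nice p G x y
  swap
  · exact ⟨hny, hzero (C.other_of_not_nice hyx hny hx.symm hnotorb).2.2⟩
  exfalso
  obtain ⟨P, hP⟩ := h.1.2.1
  obtain ⟨c₁, hc₁, hc₁def, hZ, -, -, hEZ⟩ := C.L_orbit_counts h.1 hy hxy hP
  set Lx : Subgroup G := L p G a x with hLx
  set Z := orbit Lx y
  set O := orbit (K p G x) y
  have hLK : Lx ≤ K p G x := L_le_K' a x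
  have hPK : (P : Subgroup G) ≤ K p G x := hP.trans hLK
  have hLgen : pgen p Lx = Lx := pgen_idem _
  have hLtop : Lx ≠ ⊤ := C.L_ne_top a x
  have hZO : Z ⊆ O := by
    rintro _ ⟨⟨g, hg⟩, rfl⟩; exact ⟨⟨g, hLK hg⟩, rfl⟩
  have hOn : ∀ z ∈ O, Nice p G x z ∧ (Lam p G x z : Set (Lab G)) = Lam p G x y := fun z hz =>
    C.cls_spec hny (C.orbit_subset_cls hyx hz)
  have hnofix : ∀ z ∈ O, (lab p G x z : Lab G) ∉ (Fixed Lx : Set (Lab G)) := by
    intro z hz hf
    obtain ⟨hn, hL⟩ := hOn z hz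
    rw [hLx, L_comm a x] at hf
    have e := C.lab_eq_of_fixed_lab hxa hn.1 hn.2.1 hf
    refine hin ?_
    have h1 : (lab p G x y : Lab G) ∈ (Lam p G x z : Set (Lab G)) := hL ▸ lab_mem_Lam x y
    rwa [Lam_eq_of_mem (e ▸ lab_mem_Lam x a : (lab p G x z : Lab G) ∈ Lam p G x a)] at h1
  have hle : E p (P : Subgroup G) Z ≤ EA p G x O := by
    rw [C.EA_eq x (inv_orbit _ _) hPK, E_diff (P : Subgroup G) hZO]
    have := set_nonneg C.hyp hLgen hLtop hP (s := O \ Z)
      (((inv_orbit _ y).mono hLK).diff (inv_orbit Lx y))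
      (fun z hz hf => hnofix z hz.1 (C.lab_fixed hLK hf))
    linarith
  rw [hEZ] at hle
  obtain ⟨k, hk2, hkp, hk, -, -⟩ := C.nice_spec h.1
  have hp3 := C.cast_three_le
  have hc1' : (1 : ℤ) ≤ c₁ := by exact_mod_cast hc₁
  have hO : EA p G x O ≤ p * ((p : ℤ) - 1) := C.EA_orbit_le hyx
  rcases Nat.lt_or_ge k 3 with hk3 | hk3
  · obtain rfl : k = 2 := by omega
    have hpos : (0 : ℤ) < p * ((p : ℤ) - (2 : ℕ)) := by push_cast; nlinarith
    have hsum := C.EA_two_orbits hyx hx.symm hnotorb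
    have hOa : 0 ≤ EA p G x (orbit (K p G x) a) :=
      C.EA_nonneg (inv_orbit _ _) fun ha => C.orbit_subset_compl hx.symm ha rfl
    rw [hk] at hle
    push_cast at hle
    have h0 : EA p G x (orbit (K p G x) a) = 0 := by
      nlinarith [mul_le_mul hc1' (le_refl ((p : ℤ) * ((p : ℤ) - 1))) (by nlinarith) (by linarith)]
    obtain ⟨c, hc, -, hE⟩ := C.EA_orbit_eq hx.symm hxa.2.1
    rw [hE] at h0
    rcases mul_eq_zero.1 h0 with e | e
    · omega
    · rw [hzero e] at hk; linarith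
  have h3 : EA p G a (Lam p G a x : Set (Lab G)) ≤ p * ((p : ℤ) - 3) := by
    rw [hk]
    exact mul_le_mul_of_nonneg_left (by have : (3 : ℤ) ≤ k := (by exact_mod_cast hk3); linarith) (by linarith)
  -- the same orbit seen from `x`
  have hequi : ∀ g ∈ Lx, ∀ z ∈ Z, (lab p G x (g • z) : Lab G) = g • lab p G x z :=
    fun g hg z _ => lab_equi (hLK hg) z
  obtain ⟨hmap, -⟩ := map_orbit hequi
  obtain ⟨-, -, hEx⟩ := E_full (p := p) (P : Subgroup G) Z (lab p G x)
    (orbit Lx (lab p G x y : Lab G)) hmap (fun c hc => ncard_fibre (X := Lx) hequi hc)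
    (fun z hz => ⟨C.lab_fixed hPK, C.fixed_of_lab (hOn z (hZO hz)).1.1 (hOn z (hZO hz)).1.2.1 hPK⟩)
  set c₂ := {z ∈ Z | (lab p G x z : Lab G) = lab p G x y}.ncard
  have hc21 : c₂ ≤ c₁ := by
    rw [hc₁def]
    refine Set.ncard_le_ncard fun z hz => ⟨hz.1, ?_⟩
    obtain ⟨hzc, hzb⟩ := hZ z hz.1
    have hfz : pgen p (stabilizer G a ⊓ stabilizer G x ⊓ stabilizer G y) ≤ stabilizer G z := by
      refine le_trans ?_ (L_le_right (p := p) (G := G) x z)
      rw [show L p G x z = L p G x y from congrArg Lab.val hz.2]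
      exact pgen_mono (inf_le_inf_right _ inf_le_right)
    exact ((C.fix_two h.1 h3 hy hxy).2 z hzc hfz).resolve_left hzb
  have hoΛ : orbit Lx (lab p G x y : Lab G) ⊆ (Lam p G x y : Set (Lab G)) := by
    rintro _ ⟨⟨g, hg⟩, rfl⟩; exact ⟨⟨g, hLK hg⟩, rfl⟩
  have hnofix' : ∀ d ∈ (Lam p G x y : Set (Lab G)), d ∉ (Fixed Lx : Set (Lab G)) := by
    rintro _ ⟨⟨g, hg⟩, rfl⟩ hf
    exact hnofix (g • y) ⟨⟨g, hg⟩, rfl⟩ (by rw [lab_equi hg]; exact hf)
  have hle2 : E p (P : Subgroup G) (orbit Lx (lab p G x y : Lab G))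
      ≤ EA p G a (Lam p G a x : Set (Lab G)) := by
    refine le_trans ?_ (h.2 x y hny)
    rw [show EA p G x (Lam p G x y : Set (Lab G)) = E p (P : Subgroup G) (Lam p G x y : Set (Lab G)) from
      C.EA_eq x (inv_orbit _ _) hPK, E_diff (P : Subgroup G) hoΛ]
    have := set_nonneg C.hyp hLgen hLtop hP (s := (Lam p G x y : Set (Lab G)) \ orbit Lx (lab p G x y))
      (((inv_orbit _ _).mono hLK).diff (inv_orbit Lx _)) (fun d hd => hnofix' d hd.1)
    linarith
  rw [hEx] at hEZ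
  have h0 := C.EA_Lam_nonneg hx h.1.2.1
  have hc21' : (c₂ : ℤ) ≤ c₁ := by exact_mod_cast hc21
  nlinarith [mul_le_mul_of_nonneg_left hle2 (Int.natCast_nonneg c₂), mul_le_mul_of_nonneg_right hc21' h0,
    mul_le_mul_of_nonneg_right hc1' (show (0 : ℤ) ≤ p by linarith)]

/-- a piece returning makes the two classes alike -/
theorem symm_of_land {a x y : α} (h : Nice p G a x) (hy : y ∈ cls p G a x)
    (hxy : (lab p G a y : Lab G) ≠ lab p G a x) (hl : (lab p G x y : Lab G) ∈ (Lam p G x a : Set (Lab G))) :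
    (Lam p G x a : Set (Lab G)).ncard = (Lam p G a x : Set (Lab G)).ncard ∧
      EA p G x (Lam p G x a : Set (Lab G)) = EA p G a (Lam p G a x : Set (Lab G)) := by
  have hxa := C.nice_symm h
  obtain ⟨P, hP⟩ := h.2.1
  have hyx : y ≠ x := fun e => hxy (e ▸ rfl)
  have hxy' : (lab p G x y : Lab G) ≠ lab p G x a := by
    intro e
    refine hxy (C.lab_eq_of_fixed h hy.1 ?_)
    rw [L_comm a x, ← show L p G x y = L p G x a from congrArg Lab.val e]
    exact L_le_right x y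
  have hP' : (P : Subgroup G) ≤ L p G x a := by rwa [L_comm x a]
  obtain ⟨c₁, hc₁, -, -, hn1, hf1, -⟩ := C.L_orbit_counts h hy hxy hP
  obtain ⟨c₂, hc₂, -, -, hn2, hf2, -⟩ := C.L_orbit_counts hxa (y := y) ⟨hyx, hl⟩ hxy' hP'
  have horb : orbit (L p G x a) y = orbit (L p G a x) y := by rw [L_comm]
  rw [horb] at hn2 hf2
  obtain ⟨-, eA, hrf⟩ := C.Lam_counts h.1 h.2.1 (hP.trans (L_le_K a x))
  obtain ⟨-, eX, -⟩ := C.Lam_counts hxa.1 hxa.2.1 (hP.trans (L_le_K' a x))
  have hrat := C.ratio_symm h.1 hP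
  set r := (Lam p G a x : Set (Lab G)).ncard
  set r' := (Lam p G x a : Set (Lab G)).ncard
  set f := ((Lam p G a x : Set (Lab G)) ∩ Fixed (P : Subgroup G)).ncard
  set f' := ((Lam p G x a : Set (Lab G)) ∩ Fixed (P : Subgroup G)).ncard
  have key : (c₁ : ℤ) * c₂ * (((r : ℤ) - 1) * ((f' : ℤ) - 1) - ((f : ℤ) - 1) * ((r' : ℤ) - 1)) = 0 := by
    have i1 : ((orbit (L p G a x) y).ncard : ℤ) = ((r : ℤ) - 1) * c₁ := by
      have : (((orbit (L p G a x) y).ncard + c₁ : ℕ) : ℤ) = ((r * c₁ : ℕ) : ℤ) := by rw [hn1]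
      push_cast at this; linarith
    have i2 : ((orbit (L p G a x) y).ncard : ℤ) = ((r' : ℤ) - 1) * c₂ := by
      have : (((orbit (L p G a x) y).ncard + c₂ : ℕ) : ℤ) = ((r' * c₂ : ℕ) : ℤ) := by rw [hn2]
      push_cast at this; linarith
    have i3 : ((orbit (L p G a x) y ∩ Fixed (P : Subgroup G)).ncard : ℤ) = ((f : ℤ) - 1) * c₁ := by
      have : (((orbit (L p G a x) y ∩ Fixed (P : Subgroup G)).ncard + c₁ : ℕ) : ℤ) = ((f * c₁ : ℕ) : ℤ) := by
        rw [hf1]
      push_cast at this; linarith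
    have i4 : ((orbit (L p G a x) y ∩ Fixed (P : Subgroup G)).ncard : ℤ) = ((f' : ℤ) - 1) * c₂ := by
      have : (((orbit (L p G a x) y ∩ Fixed (P : Subgroup G)).ncard + c₂ : ℕ) : ℤ) = ((f' * c₂ : ℕ) : ℤ) := by
        rw [hf2]
      push_cast at this; linarith
    linear_combination ((f' : ℤ) - 1) * c₂ * (i2.symm.trans i1).symm - ((r' : ℤ) - 1) * c₂ * (i3.symm.trans i4)
  have hne : (c₁ : ℤ) * c₂ ≠ 0 := mul_ne_zero (by exact_mod_cast hc₁.ne') (by exact_mod_cast hc₂.ne')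
  have key' := (mul_eq_zero.1 key).resolve_left hne
  have hrat' : (f : ℤ) * r' = f' * r := by exact_mod_cast hrat
  have hpos : (0 : ℤ) < (r : ℤ) - f := by
    have : ((f + p : ℕ) : ℤ) ≤ r := by exact_mod_cast hrf
    push_cast at this; linarith [C.cast_three_le]
  have hrr : (r' : ℤ) = r := by
    have e : ((r : ℤ) - f) * ((r' : ℤ) - r) = 0 := by
      linear_combination ((r : ℤ)) * key' + ((r : ℤ) - 1) * hrat' + 0 * hrat'
    linarith [(mul_eq_zero.1 e).resolve_left hpos.ne']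
  refine ⟨by exact_mod_cast hrr, ?_⟩
  rw [eA, eX]
  have hff : (f' : ℤ) = f := by
    have hr0 : (r : ℤ) ≠ 0 := by
      have : (0 : ℤ) < r := by linarith [Int.natCast_nonneg f]
      exact this.ne'
    rw [hrr] at hrat'
    exact (mul_right_cancel₀ hr0 hrat').symm
  rw [hrr, hff]

section Closed

variable (hP : ∀ a x : α, Max p G a x → Piece p G a x)
include hP

theorem exists_other {a x : α} (h : Nice p G a x) :
    ∃ y ∈ cls p G a x, (lab p G a y : Lab G) ≠ lab p G a x := by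
  obtain ⟨-, -, hrf⟩ := C.Lam_counts h.1 h.2.1 (C.syl_le a)
  obtain ⟨d, hd, hdb⟩ := Set.exists_ne_of_one_lt_ncard
    (show 1 < (Lam p G a x : Set (Lab G)).ncard by have := C.three_le; omega) (lab p G a x)
  obtain ⟨⟨g, hg⟩, rfl⟩ := hd
  exact ⟨g • x, C.orbit_subset_cls h.1 ⟨⟨g, hg⟩, rfl⟩, by rw [lab_equi hg]; exact hdb⟩

theorem max_symm {a x : α} (h : Max p G a x) : Max p G x a := by
  obtain ⟨y, hy, hxy⟩ := C.exists_other hP h.1
  obtain ⟨-, hE⟩ := C.symm_of_land h.1 hy hxy (hP a x h y hy hxy)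
  exact ⟨C.nice_symm h.1, fun b z hz => hE ▸ h.2 b z hz⟩

theorem Vset_swap {a x : α} (h : Max p G a x) : Vset p G a x = Vset p G x a := by
  have hxa := C.nice_symm h.1
  have hx := h.1.1
  refine Set.eq_of_subset_of_ncard_le ?_ ?_
  · rintro y (rfl | hy)
    · exact Or.inr (mem_cls_self hx.symm)
    by_cases hyx : y = x
    · exact Or.inl hyx
    refine Or.inr ⟨hyx, ?_⟩
    by_cases hl : (lab p G a y : Lab G) = lab p G a x
    · have hfix : L p G x a ≤ stabilizer G y := by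
        rw [L_comm x a, ← show L p G a y = L p G a x from congrArg Lab.val hl]
        exact L_le_right a y
      rw [C.lab_eq_of_fixed hxa hyx hfix]
      exact lab_mem_Lam x a
    · exact hP a x h y hy hl
  · obtain ⟨y, hy, hxy⟩ := C.exists_other hP h.1
    obtain ⟨hr, -⟩ := C.symm_of_land h.1 hy hxy (hP a x h y hy hxy)
    unfold Vset
    rw [Set.ncard_insert_of_notMem (show x ∉ cls p G x a from fun hh => hh.1 rfl),
      Set.ncard_insert_of_notMem (show a ∉ cls p G a x from fun hh => hh.1 rfl),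
      (C.cls_counts hxa (C.syl_le x)).1, (C.cls_counts h.1 (C.syl_le a)).1, hr, C.Sz_comm hx]

theorem Vset_pair {a x c d : α} (h : Max p G a x) (hc : c ∈ Vset p G a x) (hd : d ∈ Vset p G a x)
    (hcd : d ≠ c) : Max p G c d ∧ Vset p G c d = Vset p G a x := by
  have base : ∀ {a x d : α}, Max p G a x → d ∈ Vset p G a x → d ≠ a →
      Max p G a d ∧ Vset p G a d = Vset p G a x := by
    intro a x d h hd hda
    have hd' : d ∈ cls p G a x := hd.resolve_left hda
    exact ⟨C.max_cls h hd', by unfold Vset; rw [cls_eq_of_mem hd']⟩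
  by_cases hca : c = a
  · subst hca; exact base h hd hcd
  obtain ⟨hac, hV⟩ := base h hc hca
  have hca' := C.max_symm hP hac
  have hV' : Vset p G c a = Vset p G a x := by rw [← C.Vset_swap hP hac, hV]
  obtain ⟨h1, h2⟩ := base hca' (hV'.symm ▸ hd) hcd
  exact ⟨h1, h2.trans hV'⟩

end Closed

end Ctx

end CfsgLib.SylowRatio
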