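import Cfsg.Agent.SylowRatio.Transversal

/-!
# A single class of suborbits
-/

set_option linter.unusedSectionVars false

namespace CfsgLib.SylowRatio

open MulAction
open scoped Pointwise

universe u

variable {p : ℕ} [hp : Fact p.Prime] {G : Type u} [Group G] [Finite G] {α : Type u} [MulAction G α]
  [Finite α]

/-- `y` is in the orbit of `x` seen from `a` exactly when `a` is in the orbit of `y` seen from `x` -/
def Eps (p : ℕ) [Fact p.Prime] (G : Type u) [Group G] [Finite G] {α : Type u} [MulAction G α] (a x : α) :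
    Prop :=
  ∃ y, y ≠ a ∧ (lab p G a y : Lab G) ≠ lab p G a x ∧
    (y ∈ orbit (K p G a) x ↔ a ∈ orbit (K p G x) y)

theorem orbit_smul (g : G) (a x : α) : g • orbit (K p G a) x = orbit (K p G (g • a)) (g • x) := by
  ext y
  rw [Set.mem_smul_set_iff_inv_smul_mem]
  constructor
  · rintro ⟨⟨k, hk⟩, hky⟩
    change k • x = g⁻¹ • y at hky
    refine ⟨⟨g * k * g⁻¹, by rw [K_smul, mem_cj]; simp [mul_assoc, hk]⟩, ?_⟩
    change (g * k * g⁻¹) • g • x = y
    rw [← mul_smul, inv_mul_cancel_right, mul_smul, hky, smul_inv_smul]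
  · rintro ⟨⟨k, hk⟩, rfl⟩
    rw [K_smul, mem_cj] at hk
    refine ⟨⟨_, hk⟩, ?_⟩
    change (g⁻¹ * k * g) • x = g⁻¹ • k • g • x
    simp [mul_smul]

theorem smul_mem_orbit_iff (g : G) (a x y : α) :
    g • y ∈ orbit (K p G (g • a)) (g • x) ↔ y ∈ orbit (K p G a) x := by
  rw [← orbit_smul, Set.smul_mem_smul_set_iff]

namespace Ctx

variable (C : Ctx p G α)
include C

/-- if all classes are one, two different labels leave a point pair fixing nothing else -/
theorem Sz_one_of_univ {a x : α} (h : Max p G a x) (hV : Vset p G a x = Set.univ)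
    (h3 : EA p G a (Lam p G a x : Set (Lab G)) ≤ p * ((p : ℤ) - 3)) : Sz p G a x = 1 := by
  have hP : ∀ a x : α, Max p G a x → Piece p G a x := fun a x h => C.piece h
  obtain ⟨y, hy, hxy⟩ := C.exists_other hP h.1
  have hxa := C.nice_symm h.1
  have hVx : Vset p G x a = Set.univ := by rw [← C.Vset_swap hP h, hV]
  have hyl : y ∈ cls p G x a := (hVx ▸ Set.mem_univ y : y ∈ Vset p G x a).resolve_left
    fun e => hxy (e ▸ rfl)
  have hyx := (C.cls_spec hxa hyl).1
  have hsub : (Fixed (L p G x y) : Set α) \ {x} ⊆ {y} := by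
    rintro t ⟨ht, htx : t ≠ x⟩
    rw [Set.mem_singleton_iff]
    by_contra hty
    have hf3 : pgen p (stabilizer G a ⊓ stabilizer G x ⊓ stabilizer G y) ≤ stabilizer G t :=
      (pgen_mono (inf_le_inf_right _ inf_le_right)).trans ht
    have hfix1 := C.lab_eq_of_fixed hyx htx ht
    by_cases hta : t = a
    · subst hta
      exact C.lab_ne_symm h.1 hy.1 hxy hfix1.symm
    have htc : t ∈ cls p G a x := (hV ▸ Set.mem_univ t : t ∈ Vset p G a x).resolve_left hta
    rcases (C.fix_two h.1 h3 hy hxy).2 t htc hf3 with e | e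
    · have ht' : L p G x a ≤ stabilizer G t := by
        rw [L_comm x a, ← show L p G a t = L p G a x from congrArg Lab.val e]
        exact L_le_right a t
      exact C.lab_ne_symm h.1 hy.1 hxy (hfix1.symm.trans (C.lab_eq_of_fixed hxa htx ht'))
    · have ht' : L p G y a ≤ stabilizer G t := by
        rw [L_comm y a, ← show L p G a t = L p G a y from congrArg Lab.val e]
        exact L_le_right a t
      have hya := C.nice_symm (C.cls_spec h.1 hy).1
      have h1 : (lab p G y t : Lab G) = lab p G y a := C.lab_eq_of_fixed hya hty ht'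
      have h2 : (lab p G y t : Lab G) = lab p G y x := by
        refine C.lab_eq_of_fixed (C.nice_symm hyx) hty ?_
        rw [L_comm y x]; exact ht
      have heq : L p G y a = L p G x y := by
        rw [L_comm x y]; exact congrArg Lab.val (h1.symm.trans h2)
      refine C.lab_ne_symm h.1 hy.1 hxy (C.lab_eq_of_fixed hyx h.1.1.symm ?_).symm
      rw [← heq]
      exact L_le_right y a
  have h1 : Sz p G x y ≤ 1 := by
    have := Set.ncard_le_ncard hsub
    rwa [Set.ncard_singleton] at this
  rw [C.Sz_lab hyl, C.Sz_comm h.1.1] at h1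
  have := C.Sz_pos h.1.1
  omega

section Halves

/-- With a single class of two points per label and two orbits there is a contradiction. -/
theorem halves_false {a x : α} (h : Max p G a x) (hV : Vset p G a x = Set.univ)
    (hS : Sz p G a x = 2) (hnot : ∃ y, y ≠ a ∧ y ∉ orbit (K p G a) x) : False := by
  classical
  have hP : ∀ a x : α, Max p G a x → Piece p G a x := fun a x h => C.piece h
  have := C.prim.toIsPretransitive
  -- everything transports to every pair
  have hpair : ∀ c d : α, d ≠ c → Max p G c d ∧ Vset p G c d = Set.univ := fun c d hcd => by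
    rw [← hV]; exact C.Vset_pair hP h (hV ▸ Set.mem_univ c) (hV ▸ Set.mem_univ d) hcd
  have hcls : ∀ c d : α, d ≠ c → cls p G c d = {c}ᶜ := fun c d hcd => by
    have := (hpair c d hcd).2
    refine Set.Subset.antisymm (fun z hz => hz.1) fun z hz => ?_
    exact (this ▸ Set.mem_univ z : z ∈ Vset p G c d).resolve_left hz
  obtain ⟨r, hr⟩ : ∃ r, (Lam p G a x : Set (Lab G)).ncard = r := ⟨_, rfl⟩
  have hn : Nat.card α = 2 * r + 1 := by
    rw [← Set.ncard_univ, ← hV, Vset, Set.ncard_insert_of_notMem (fun hh => hh.1 rfl),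
      (C.cls_counts h.1 (C.syl_le a)).1, hS, hr]
    ring
  have hlamr : ∀ c d : α, d ≠ c → (Lam p G c d : Set (Lab G)).ncard * Sz p G c d = 2 * r := fun c d hcd => by
    have h1 := (C.cls_counts (hpair c d hcd).1.1 (C.syl_le c)).1
    rw [hcls c d hcd, Set.ncard_compl, Set.ncard_singleton, hn] at h1
    omega
  have hr4 : 4 ≤ r := by
    obtain ⟨hne, -, hrf⟩ := C.Lam_counts h.1.1 h.1.2.1 (C.syl_le a)
    have := C.three_le
    have := (Set.ncard_pos).2 hne
    omega
  have hSall : ∀ c d : α, d ≠ c → Sz p G c d = 2 := by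
    intro c d hcd
    obtain ⟨g, rfl⟩ := MulAction.exists_smul_eq G a c
    obtain ⟨d, rfl⟩ : ∃ e, g • e = d := ⟨g⁻¹ • d, smul_inv_smul g d⟩
    rw [C.Sz_smul]
    have hda : d ≠ a := fun e => hcd (e ▸ rfl)
    rw [← hS]
    exact C.Sz_lab ((hcls a x h.1.1).symm ▸ hda)
  have hlam : ∀ c d : α, d ≠ c → (Lam p G c d : Set (Lab G)).ncard = r := fun c d hcd => by
    have := hlamr c d hcd
    rw [hSall c d hcd] at this
    omega
  -- every orbit meets every label once
  have horb : ∀ c d : α, d ≠ c → (orbit (K p G c) d).ncard = r ∧ ∃ e, e ≠ c ∧ e ∉ orbit (K p G c) d := by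
    have base : ∀ d : α, d ≠ a → (orbit (K p G a) d).ncard = r := by
      intro d hd
      obtain ⟨c₁, hc₁, hn₁, -⟩ := C.EA_orbit_eq hd (hpair a d hd).1.1.2.1
      obtain ⟨e, he, hed⟩ : ∃ e, e ≠ a ∧ e ∉ orbit (K p G a) d := by
        by_contra hall'
        push Not at hall'
        obtain ⟨y, hy, hyx⟩ := hnot
        refine hyx ?_
        rw [orbit_eq_iff.2 (hall' x h.1.1)]
        exact hall' y hy
      have hsub : orbit (K p G a) d ⊂ ({a}ᶜ : Set α) :=
        ⟨C.orbit_subset_compl hd, fun hh => hed (hh he)⟩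
      have := Set.ncard_lt_ncard hsub
      rw [Set.ncard_compl, Set.ncard_singleton, hn] at this
      rw [hlam a d hd] at hn₁
      have : c₁ = 1 := by
        by_contra hne
        have : r * 2 ≤ r * c₁ := Nat.mul_le_mul_left r (by omega)
        omega
      rw [hn₁, this, mul_one]
    intro c d hcd
    obtain ⟨g, rfl⟩ := MulAction.exists_smul_eq G a c
    obtain ⟨d, rfl⟩ : ∃ e, g • e = d := ⟨g⁻¹ • d, smul_inv_smul g d⟩
    have hd : d ≠ a := fun e => hcd (e ▸ rfl)
    have hc : (orbit (K p G (g • a)) (g • d)).ncard = r := by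
      rw [← orbit_smul, Set.ncard_smul_set]; exact base d hd
    refine ⟨hc, ?_⟩
    by_contra hall'
    push Not at hall'
    have : ({g • a}ᶜ : Set α).ncard ≤ r := hc ▸ Set.ncard_le_ncard fun z hz => hall' z hz
    rw [Set.ncard_compl, Set.ncard_singleton, hn] at this
    omega
  have hinj : ∀ c d : α, d ≠ c → ∀ u ∈ orbit (K p G c) d, ∀ v ∈ orbit (K p G c) d,
      (lab p G c u : Lab G) = lab p G c v → u = v := by
    intro c d hcd
    have hequi : ∀ g ∈ K p G c, ∀ z ∈ orbit (K p G c) d, (lab p G c (g • z) : Lab G) = g • lab p G c z :=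
      fun g hg z _ => lab_equi hg z
    obtain ⟨h1, h2⟩ := map_orbit hequi
    have : Set.InjOn (lab p G c : α → Lab G) (orbit (K p G c) d) := by
      refine Set.injOn_of_ncard_image_eq ?_ (Set.toFinite _)
      rw [show (lab p G c : α → Lab G) '' orbit (K p G c) d = (Lam p G c d : Set (Lab G)) from
        Set.Subset.antisymm (by rintro _ ⟨z, hz, rfl⟩; exact h1 z hz) (fun b hb => h2 b hb),
        hlam c d hcd, (horb c d hcd).1]
    exact fun u hu v hv e => this hu hv e
  have hsplit : ∀ c d e : α, d ≠ c → e ≠ c → e ∉ orbit (K p G c) d →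
      ∀ z, z ≠ c → z ∉ orbit (K p G c) d → z ∈ orbit (K p G c) e := by
    intro c d e hd he hed z hz hzd
    by_contra hze
    have hdisj : Disjoint (orbit (K p G c) d) (orbit (K p G c) e) := by
      rw [Set.disjoint_left]
      intro w hw hw'
      exact hed (orbit_eq_iff.1 ((orbit_eq_iff.2 hw').symm.trans (orbit_eq_iff.2 hw)))
    have hsub : orbit (K p G c) d ∪ orbit (K p G c) e ⊂ ({c}ᶜ : Set α) :=
      ⟨Set.union_subset (C.orbit_subset_compl hd) (C.orbit_subset_compl he),
        fun hh => (hh hz).elim hzd hze⟩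
    have := Set.ncard_lt_ncard hsub
    rw [Set.ncard_union_eq hdisj, (horb c d hd).1, (horb c e he).1, Set.ncard_compl, Set.ncard_singleton,
      hn] at this
    omega
  -- the relation defining `Eps` does not depend on the witness
  have hmove : ∀ c d u v : α, d ≠ c → u ≠ c → v ∈ orbit (K p G c) u →
      (lab p G c u : Lab G) ≠ lab p G c d → (lab p G c v : Lab G) ≠ lab p G c d →
      ∃ l ∈ L p G c d, l • u = v := by
    intro c d u v hd hu hv hu' hv'
    obtain ⟨k, -, -, -, -, htr⟩ := C.nice_spec (hpair c d hd).1.1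
    have hmem : ∀ z, z ≠ c → (lab p G c z : Lab G) ∈ (Lam p G c d : Set (Lab G)) := fun z hz =>
      ((hcls c d hd).symm ▸ hz : z ∈ cls p G c d).2
    obtain ⟨l, hl, hlu⟩ := htr _ (hmem u hu) _ (hmem v (C.orbit_subset_compl hu hv)) hu' hv'
    refine ⟨l, hl, hinj c u hu _ (inv_orbit _ _ l (L_le_K c d hl) u (mem_orbit_self u)) _ hv ?_⟩
    rw [lab_equi (L_le_K c d hl)]
    exact hlu
  have hXmove : ∀ c d u v : α, d ≠ c → u ≠ c → v ∈ orbit (K p G c) u →
      (lab p G c u : Lab G) ≠ lab p G c d → (lab p G c v : Lab G) ≠ lab p G c d →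
      orbit (K p G d) u = orbit (K p G d) v := by
    intro c d u v hd hu hv hu' hv'
    obtain ⟨l, hl, rfl⟩ := hmove c d u v hd hu hv hu' hv'
    exact (orbit_eq_iff.2 (inv_orbit (K p G d) u l (L_le_K' c d hl) u (mem_orbit_self u))).symm
  have hconst : ∀ c d : α, d ≠ c → Eps p G c d → ∀ y, y ≠ c → (lab p G c y : Lab G) ≠ lab p G c d →
      (y ∈ orbit (K p G c) d ↔ c ∈ orbit (K p G d) y) := by
    intro c d hd ⟨y₀, hy₀, hl₀, h₀⟩ y hy hl
    by_cases hsame : y ∈ orbit (K p G c) y₀
    · rw [← hXmove c d y₀ y hd hy₀ hsame hl₀ hl, ← h₀]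
      rw [← orbit_eq_iff (b := y₀)] at hsame
      constructor
      · intro hh
        rw [← orbit_eq_iff.2 hh, hsame]
        exact mem_orbit_self _
      · intro hh
        rw [← orbit_eq_iff.2 hh, ← hsame]
        exact mem_orbit_self _
    · -- the other orbit
      have hdiff : orbit (K p G d) y ≠ orbit (K p G d) y₀ := by
        intro he
        -- both pieces in one orbit of size `r`
        have hbig : (orbit (K p G c) y \ {z | (lab p G c z : Lab G) = lab p G c d}) ∪
            (orbit (K p G c) y₀ \ {z | (lab p G c z : Lab G) = lab p G c d}) ⊆ orbit (K p G d) y := by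
          rintro z (⟨hz, hzl⟩ | ⟨hz, hzl⟩)
          · rw [hXmove c d y z hd hy hz hl hzl]; exact mem_orbit_self z
          · rw [he, hXmove c d y₀ z hd hy₀ hz hl₀ hzl]; exact mem_orbit_self z
        have hsz : ∀ w, w ≠ c →
            r ≤ (orbit (K p G c) w \ {z | (lab p G c z : Lab G) = lab p G c d}).ncard + 1 := by
          intro w hw
          have h1 : (orbit (K p G c) w ∩ {z | (lab p G c z : Lab G) = lab p G c d}).ncard ≤ 1 :=
            (Set.ncard_le_one_iff).2 fun {u v} hu hv => hinj c w hw u hu.1 v hv.1 (hu.2.trans hv.2.symm)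
          have h2 := Set.ncard_inter_add_ncard_sdiff_eq_ncard (orbit (K p G c) w)
            {z | (lab p G c z : Lab G) = lab p G c d}
          rw [(horb c w hw).1] at h2
          omega
        have hdisj : Disjoint (orbit (K p G c) y \ {z | (lab p G c z : Lab G) = lab p G c d})
            (orbit (K p G c) y₀ \ {z | (lab p G c z : Lab G) = lab p G c d}) := by
          rw [Set.disjoint_left]
          intro w hw hw'
          exact hsame (by rw [← orbit_eq_iff.2 hw'.1, orbit_eq_iff.2 hw.1]; exact mem_orbit_self y)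
        have h1 := Set.ncard_le_ncard hbig
        have hyd : y ≠ d := fun e => hl (e ▸ rfl)
        rw [Set.ncard_union_eq hdisj, (horb d y hyd).1] at h1
        have := hsz y hy
        have := hsz y₀ hy₀
        omega
      have hy₀d : y₀ ≠ d := fun e => hl₀ (e ▸ rfl)
      have hyd : y ≠ d := fun e => hl (e ▸ rfl)
      have hA : y ∈ orbit (K p G c) d ↔ ¬ y₀ ∈ orbit (K p G c) d := by
        refine ⟨fun hh h' => hsame (by rw [orbit_eq_iff.2 h']; exact hh), fun hh => ?_⟩
        exact hsplit c y₀ d hy₀ hd (fun h' => hh (by rw [orbit_eq_iff.2 h']; exact mem_orbit_self _))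
          y hy hsame
      have hB : c ∈ orbit (K p G d) y ↔ ¬ c ∈ orbit (K p G d) y₀ := by
        have hne : y ∉ orbit (K p G d) y₀ := fun hh => hdiff (orbit_eq_iff.2 hh)
        refine ⟨fun hh h' => hdiff ((orbit_eq_iff.2 hh).symm.trans (orbit_eq_iff.2 h')),
          fun hh => hsplit d y₀ y hy₀d hyd hne c hd.symm hh⟩
      rw [hA, hB, h₀]
  have heps_smul : ∀ (g : G) (c d : α), Eps p G c d → Eps p G (g • c) (g • d) := by
    rintro g c d ⟨y, hy, hl, hh⟩
    refine ⟨g • y, fun e => hy (MulAction.injective g e), fun e => hl ?_, ?_⟩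
    · rw [lab_smul, lab_smul] at e; exact MulAction.injective g e
    · rw [smul_mem_orbit_iff, smul_mem_orbit_iff]; exact hh
  have heps_orbit : ∀ (c d e : α), e ∈ orbit (K p G c) d → Eps p G c d → Eps p G c e := by
    rintro c d _ ⟨⟨k, hk⟩, rfl⟩ he
    have := heps_smul k c d he
    rwa [show k • c = c from K_le c hk] at this
  have hother : ∀ c d : α, d ≠ c → ∃ y ∈ orbit (K p G c) d, y ≠ d := fun c d hd =>
    Set.exists_ne_of_one_lt_ncard (by rw [(horb c d hd).1]; omega) d
  have hlne : ∀ c d y : α, d ≠ c → y ∈ orbit (K p G c) d → y ≠ d →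
      (lab p G c y : Lab G) ≠ lab p G c d := fun c d y hd hy hne e =>
    hne (hinj c d hd y hy d (mem_orbit_self d) e)
  -- some pair satisfies `Eps`
  obtain ⟨c, d, hd, hcd⟩ : ∃ c d : α, d ≠ c ∧ Eps p G c d := by
    by_cases he : Eps p G a x
    · exact ⟨a, x, h.1.1, he⟩
    obtain ⟨y, hy, hyx⟩ := hother a x h.1.1
    have hya : y ≠ a := C.orbit_subset_compl h.1.1 hy
    have hl := hlne a x y h.1.1 hy hyx
    refine ⟨x, y, hyx, a, h.1.1.symm, ?_, ?_⟩
    · exact (C.lab_ne_symm h.1 hya hl).symm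
    · constructor
      · exact fun hh => absurd ⟨y, hya, hl, iff_of_true hy hh⟩ he
      · intro hh
        refine absurd (heps_orbit a y x (by rw [orbit_eq_iff.2 hy]; exact mem_orbit_self x) ?_) he
        refine ⟨x, h.1.1, hl.symm, iff_of_true (by rw [orbit_eq_iff.2 hy]; exact mem_orbit_self x) ?_⟩
        rw [orbit_eq_iff.2 hh]
        exact mem_orbit_self _
  -- the sets it spans
  set Vh : α → α → Set α := fun c d => insert c (orbit (K p G c) d)
  have hVcard : ∀ (c d : α), d ≠ c → (Vh c d).ncard = r + 1 := fun c d hd => by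
    rw [Set.ncard_insert_of_notMem (fun hh => C.orbit_subset_compl hd hh rfl), (horb c d hd).1]
  have hVswap : ∀ (c d : α), d ≠ c → Eps p G c d → Vh c d = Vh d c := by
    intro c d hd he
    refine Set.eq_of_subset_of_ncard_le ?_ (by rw [hVcard c d hd, hVcard d c hd.symm])
    rintro z (rfl | hz)
    · exact Or.inr (mem_orbit_self z)
    by_cases hzd : z = d
    · exact Or.inl hzd
    right
    have := (hconst c d hd he z (C.orbit_subset_compl hd hz) (hlne c d z hd hz hzd)).1 hz
    rw [orbit_eq_iff.2 this]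
    exact mem_orbit_self z
  have heps_symm : ∀ (c d : α), d ≠ c → Eps p G c d → Eps p G d c := by
    intro c d hd he
    obtain ⟨y, hy, hyd⟩ := hother c d hd
    have hyc : y ≠ c := C.orbit_subset_compl hd hy
    have hy' : y ∈ orbit (K p G d) c := by
      have h1 := (hconst c d hd he y hyc (hlne c d y hd hy hyd)).1 hy
      rw [orbit_eq_iff.2 h1]; exact mem_orbit_self _
    exact ⟨y, hyd, hlne d c y hd.symm hy' hyc, iff_of_true hy'
      (by rw [orbit_eq_iff.2 hy]; exact mem_orbit_self _)⟩
  have hVpair : ∀ (c d u v : α), d ≠ c → Eps p G c d → u ∈ Vh c d → v ∈ Vh c d → v ≠ u →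
      Eps p G u v ∧ Vh u v = Vh c d := by
    have base : ∀ (c d v : α), d ≠ c → Eps p G c d → v ∈ Vh c d → v ≠ c → Eps p G c v ∧ Vh c v = Vh c d := by
      intro c d v hd he hv hvc
      have hv' := hv.resolve_left hvc
      refine ⟨heps_orbit c d v hv' he, ?_⟩
      simp only [Vh]
      rw [orbit_eq_iff.2 hv']
    intro c d u v hd he hu hv hvu
    by_cases huc : u = c
    · subst huc; exact base u d v hd he hv hvu
    obtain ⟨he', hV'⟩ := base c d u hd he hu huc
    have hV'' : Vh u c = Vh c d := (hVswap c u huc he').symm.trans hV'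
    obtain ⟨h1, h2⟩ := base u c v (Ne.symm huc) (heps_symm c u huc he') (hV''.symm ▸ hv) hvu
    exact ⟨h1, h2.trans hV''⟩
  have hVsmul : ∀ (g : G) (c d : α), g • Vh c d = Vh (g • c) (g • d) := fun g c d => by
    simp only [Vh, Set.smul_set_insert, orbit_smul]
  by_cases hboth : ∃ (c d e : α), d ≠ c ∧ e ≠ c ∧ e ∉ orbit (K p G c) d ∧ Eps p G c d ∧ Eps p G c e
  · obtain ⟨c, d, e, hd, he, hed, hcd, hce⟩ := hboth
    have hall' : ∀ (u v : α), v ≠ u → Eps p G u v := by
      intro u v hvu
      obtain ⟨g, rfl⟩ := MulAction.exists_smul_eq G c u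
      obtain ⟨v, rfl⟩ : ∃ w, g • w = v := ⟨g⁻¹ • v, smul_inv_smul g v⟩
      refine heps_smul g c v ?_
      by_cases hvd : v ∈ orbit (K p G c) d
      · exact heps_orbit c d v hvd hcd
      · exact heps_orbit c e v (hsplit c d e hd he hed v (fun e' => hvu (e' ▸ rfl)) hvd) hce
    have hde : e ≠ d := fun e' => hed (by rw [e']; exact mem_orbit_self d)
    -- the set spanned by `d` and `e` has only these two points
    have hsub : Vh d e ⊆ {d, e} := by
      intro z hz
      by_cases hzc : z = c
      · exfalso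
        subst hzc
        obtain ⟨-, h1⟩ := hVpair d e z d hde (hall' d e hde) hz (Or.inl rfl) hd
        have h2 : e ∈ Vh z d := h1.symm ▸ (Or.inr (mem_orbit_self e) : e ∈ Vh d e)
        exact hed (h2.resolve_left he)
      have hz' : z ∈ orbit (K p G c) d ∨ z ∈ orbit (K p G c) e := by
        by_cases hzd : z ∈ orbit (K p G c) d
        · exact Or.inl hzd
        · exact Or.inr (hsplit c d e hd he hed z hzc hzd)
      rcases hz' with hz' | hz'
      · by_contra hne
        simp only [Set.mem_insert_iff, Set.mem_singleton_iff, not_or] at hne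
        obtain ⟨-, h1⟩ := hVpair c d d z hd hcd (Or.inr (mem_orbit_self d)) (Or.inr hz') hne.1
        obtain ⟨-, h2⟩ := hVpair d e d z hde (hall' d e hde) (Or.inl rfl) hz hne.1
        have h3 : e ∈ Vh c d := (h2.symm.trans h1) ▸ (Or.inr (mem_orbit_self e) : e ∈ Vh d e)
        exact hed (h3.resolve_left he)
      · by_contra hne
        simp only [Set.mem_insert_iff, Set.mem_singleton_iff, not_or] at hne
        obtain ⟨-, h1⟩ := hVpair c e e z he hce (Or.inr (mem_orbit_self e)) (Or.inr hz') hne.2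
        obtain ⟨-, h2⟩ := hVpair d e e z hde (hall' d e hde) (Or.inr (mem_orbit_self e)) hz hne.2
        have h3 : d ∈ Vh c e := (h2.symm.trans h1) ▸ (Or.inl rfl : d ∈ Vh d e)
        exact hed (by rw [orbit_eq_iff.2 (h3.resolve_left hd)]; exact mem_orbit_self e)
    have := Set.ncard_le_ncard hsub
    rw [hVcard d e hde, Set.ncard_pair (Ne.symm hde)] at this
    omega
  -- otherwise they are blocks
  have hblock : IsBlock G (Vh c d) := by
    intro g₁ g₂ hne
    rw [Set.disjoint_left]
    intro z hz₁ hz₂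
    rw [hVsmul] at hz₁ hz₂ hne
    rw [hVsmul] at hne
    have hd₁ : g₁ • d ≠ g₁ • c := fun e => hd (MulAction.injective g₁ e)
    have hd₂ : g₂ • d ≠ g₂ • c := fun e => hd (MulAction.injective g₂ e)
    have hex : ∀ g : G, ∃ w ∈ Vh (g • c) (g • d), w ≠ z := by
      intro g
      by_cases e : g • c = z
      · exact ⟨g • d, Or.inr (mem_orbit_self _), fun e' => hd (MulAction.injective g (e'.trans e.symm))⟩
      · exact ⟨_, Set.mem_insert _ _, e⟩
    obtain ⟨w₁, hw₁, hne₁⟩ := hex g₁
    obtain ⟨w₂, hw₂, hne₂⟩ := hex g₂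
    obtain ⟨e₁, hV₁⟩ := hVpair _ _ z w₁ hd₁ (heps_smul g₁ c d hcd) hz₁ hw₁ hne₁
    obtain ⟨e₂, hV₂⟩ := hVpair _ _ z w₂ hd₂ (heps_smul g₂ c d hcd) hz₂ hw₂ hne₂
    refine hboth ⟨z, w₁, w₂, hne₁, hne₂, fun hh => hne ?_, e₁, e₂⟩
    rw [← hV₁, ← hV₂]
    simp only [Vh]
    rw [orbit_eq_iff.2 hh]
  rcases C.prim.isTrivialBlock_of_isBlock hblock with hs | hu
  · exact hd (hs (Or.inr (mem_orbit_self d)) (Or.inl rfl))
  · have := hVcard c d hd
    rw [hu, Set.ncard_univ, hn] at this
    omega

end Halves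

/-- the conclusion: `K a` is transitive on the other points, and the degree of transitivity -/
theorem result (a : α) :
    (∀ y z : α, y ≠ a → z ≠ a → ∃ g ∈ K p G a, g • y = z) ∧
      E p (syl p G a : Subgroup G) (Set.univ : Set α) ≠ -(p : ℤ) ∧
      ∀ k : ℕ, 2 ≤ k → E p (syl p G a : Subgroup G) (Set.univ : Set α) = p * ((p : ℤ) - k) →
        IsMultiplyPretransitive G α k := by
  classical
  have := C.prim.toIsPretransitive
  have hp3 := C.cast_three_le
  have htwo : (∀ y z : α, y ≠ a → z ≠ a → ∃ g ∈ K p G a, g • y = z) → IsMultiplyPretransitive G α 2 := by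
    intro htr
    change IsMultiplyPretransitive G α (Nat.succ 1)
    rw [SubMulAction.ofStabilizer.isMultiplyPretransitive (a := a),
      is_one_pretransitive_iff]
    refine ⟨fun y z => ?_⟩
    obtain ⟨g, hg, hgy⟩ := htr y.1 z.1 y.2 z.2
    exact ⟨⟨g, K_le a hg⟩, Subtype.ext hgy⟩
  by_cases hnice : ∃ b y : α, Nice p G b y
  swap
  · push Not at hnice
    have htr : ∀ y z : α, y ≠ a → z ≠ a → ∃ g ∈ K p G a, g • y = z := by
      intro y z hy hz
      by_contra hcon
      exact hnice a z (C.other_of_not_nice hy (hnice a y) hz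
        (fun ⟨⟨g, hg⟩, hgy⟩ => hcon ⟨g, hg, hgy⟩)).2.1
    have hnt := C.nontriv
    obtain ⟨x, hx⟩ := exists_ne a
    have hO : orbit (K p G a) x = {a}ᶜ := Set.Subset.antisymm (C.orbit_subset_compl hx) fun y hy => by
      obtain ⟨g, hg, hgy⟩ := htr x y hx hy
      exact ⟨⟨g, hg⟩, hgy⟩
    have hE := (C.not_nice hx (hnice a x)).1
    rw [hO, C.EA_compl] at hE
    refine ⟨htr, fun he => by rw [he] at hE; nlinarith, fun k hk hk' => ?_⟩
    have hk2 : k = 2 := by
      rw [hk'] at hE
      have : (p : ℤ) * ((p : ℤ) - k) = p * ((p : ℤ) - 2) := by linarith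
      have := mul_left_cancel₀ (by linarith) this
      omega
    subst hk2
    exact htwo htr
  -- a maximal class
  obtain ⟨b₀, y₀, hby⟩ := hnice
  obtain ⟨⟨b, y⟩, hm, hmax⟩ := Set.exists_max_image {q : α × α | Nice p G q.1 q.2}
    (fun q => EA p G q.1 (Lam p G q.1 q.2 : Set (Lab G))) (Set.toFinite _) ⟨(b₀, y₀), hby⟩
  obtain ⟨g, rfl⟩ := MulAction.exists_smul_eq G b a
  have hM₀ : Max p G b y := ⟨hm, fun b' y' h' => hmax (b', y') h'⟩
  have hM : Max p G (g • b) (g • y) := C.max_smul g hM₀
  set a := g • b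
  set x := g • y
  have hP : ∀ a x : α, Max p G a x → Piece p G a x := fun a x h => C.piece h
  have hV := C.Vset_eq_univ hP hM
  have hcls : cls p G a x = {a}ᶜ := Set.Subset.antisymm (fun z hz => hz.1)
    fun z hz => (hV ▸ Set.mem_univ z : z ∈ Vset p G a x).resolve_left hz
  obtain ⟨hcc, -, hEc⟩ := C.cls_counts hM.1 (C.syl_le a)
  rw [hcls, C.EA_compl] at hEc
  rw [hcls] at hcc
  obtain ⟨k', hk'2, hk'p, hk', htt, -⟩ := C.nice_spec hM.1
  have hS0 := C.Sz_pos hM.1.1
  by_cases hS : Sz p G a x = 1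
  · rw [hS, mul_one] at hcc
    rw [hS, Nat.cast_one, one_mul, hk'] at hEc
    have hinj : Set.InjOn (lab p G a : α → Lab G) ({a}ᶜ : Set α) := by
      intro u hu v hv e
      have hu' : u ∈ cls p G a x := hcls.symm ▸ hu
      obtain ⟨w, hw⟩ := Set.ncard_eq_one.1 ((C.Sz_lab hu').trans hS)
      have m1 : u ∈ (Fixed (L p G a u) : Set α) \ {a} := ⟨L_le_right a u, hu⟩
      have m2 : v ∈ (Fixed (L p G a u) : Set α) \ {a} := by
        refine ⟨?_, hv⟩
        rw [mem_Fixed, show L p G a u = L p G a v from congrArg Lab.val e]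
        exact L_le_right a v
      rw [hw] at m1 m2
      exact (Set.mem_singleton_iff.1 m1).trans (Set.mem_singleton_iff.1 m2).symm
    have hkr : k' ≤ (Lam p G a x : Set (Lab G)).ncard := by
      obtain ⟨-, -, hrf⟩ := C.Lam_counts hM.1.1 hM.1.2.1 (C.syl_le a)
      omega
    have hlab : ∀ u : α, u ≠ a → (lab p G a u : Lab G) ∈ (Lam p G a x : Set (Lab G)) := fun u hu =>
      (hcls.symm ▸ hu : u ∈ cls p G a x).2
    refine ⟨fun u v hu hv => ?_, fun he => ?_, fun k hk hke => ?_⟩
    · obtain ⟨l, hl, hlu⟩ := htt.of_le (show 1 ≤ k' by omega) hkr ![lab p G a u] ![lab p G a v]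
        (Function.injective_of_subsingleton _) (Function.injective_of_subsingleton _)
        (by intro i; fin_cases i; exact hlab u hu) (by intro i; fin_cases i; exact hlab v hv)
      refine ⟨l, hl, hinj (C.inv_compl a l hl u hu) hv ?_⟩
      rw [lab_equi hl]; exact hlu 0
    · rw [he] at hEc
      have h0 : EA p G a (Lam p G a x : Set (Lab G)) = 0 := by rw [hk']; linarith
      obtain ⟨hr, -⟩ := C.exact_small hM.1 h0 (C.syl_le a)
      have hn : Nat.card α = 2 * p := by
        have h := Set.ncard_add_ncard_compl ({a} : Set α)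
        rw [Set.ncard_singleton, hcc] at h
        omega
      have horb : orbit (⊤ : Subgroup G) a = Set.univ := by
        refine Set.eq_univ_of_forall fun z => ?_
        obtain ⟨m, hm'⟩ := MulAction.exists_smul_eq G a z
        exact ⟨⟨m, Subgroup.mem_top m⟩, hm'⟩
      refine not_dvd_orbit (X := (⊤ : Subgroup G)) (P := syl p G a) le_top (u := a)
        ((C.syl_le a).trans (K_le a)) ?_
      rw [horb, Set.ncard_univ, hn]
      exact dvd_mul_left p 2
    · have hkk : k = k' + 1 := by
        rw [hke] at hEc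
        have : (p : ℤ) * ((p : ℤ) - k + 1) = p * ((p : ℤ) - k') := by linarith
        have := mul_left_cancel₀ (by linarith) this
        omega
      subst hkk
      rw [← Nat.succ_eq_add_one, SubMulAction.ofStabilizer.isMultiplyPretransitive (a := a)]
      refine ⟨fun u v => ?_⟩
      have hu : Function.Injective fun i => (lab p G a (u i).1 : Lab G) := fun i j e =>
        u.injective (Subtype.ext (hinj (u i).2 (u j).2 e))
      have hv : Function.Injective fun i => (lab p G a (v i).1 : Lab G) := fun i j e =>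
        v.injective (Subtype.ext (hinj (v i).2 (v j).2 e))
      obtain ⟨l, hl, hlu⟩ := htt _ _ hu hv (fun i => hlab _ (u i).2) (fun i => hlab _ (v i).2)
      refine ⟨⟨l, K_le a hl⟩, Function.Embedding.ext fun i => Subtype.ext ?_⟩
      refine hinj (C.inv_compl a l hl _ (u i).2) (v i).2 ?_
      rw [lab_equi hl]; exact hlu i
  · obtain rfl : k' = 2 := by
      by_contra hk2'
      refine hS (C.Sz_one_of_univ hM hV ?_)
      rw [hk']
      exact mul_le_mul_of_nonneg_left
        (by have : (3 : ℤ) ≤ k' := (by exact_mod_cast show 3 ≤ k' by omega); linarith) (by linarith)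
    rw [hk'] at hEc
    have htr : ∀ y z : α, y ≠ a → z ≠ a → ∃ g ∈ K p G a, g • y = z := by
      by_contra hcon
      push Not at hcon
      obtain ⟨u, v, hu, hv, huv⟩ := hcon
      obtain ⟨w, hw, hwx⟩ : ∃ w, w ≠ a ∧ w ∉ orbit (K p G a) x := by
        by_contra hall'
        push Not at hall'
        obtain ⟨⟨k₁, hk₁⟩, h1⟩ := hall' u hu
        obtain ⟨⟨k₂, hk₂⟩, h2⟩ := hall' v hv
        refine huv (k₂ * k₁⁻¹) ((K p G a).mul_mem hk₂ ((K p G a).inv_mem hk₁)) ?_
        change k₁ • x = u at h1
        change k₂ • x = v at h2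
        rw [mul_smul, ← h1, inv_smul_smul, h2]
      -- two orbits make two points per label
      have hS2 : 2 ≤ Sz p G a x := by
        by_contra hlt
        have hS : Sz p G a x = 1 := by omega
        obtain ⟨c₁, hc₁, hn₁, -⟩ := C.EA_orbit_eq hM.1.1 hM.1.2.1
        rw [hS, mul_one] at hcc
        have := Set.ncard_lt_ncard (show orbit (K p G a) x ⊂ ({a}ᶜ : Set α) from
          ⟨C.orbit_subset_compl hM.1.1, fun hh => hwx (hh hw)⟩)
        rw [hn₁, hcc] at this
        have := Nat.le_mul_of_pos_right (Lam p G a x : Set (Lab G)).ncard hc₁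
        omega
      have hb := C.bound _ a ((C.syl_le a).trans (K_le a))
      have hS2' : (2 : ℤ) ≤ (Sz p G a x : ℤ) := by exact_mod_cast hS2
      push_cast at hEc
      have hle : (Sz p G a x : ℤ) * ((p : ℤ) - 2) ≤ (p : ℤ) - 1 := by
        refine le_of_mul_le_mul_left ?_ (show (0 : ℤ) < p by linarith)
        nlinarith
      have hp3' : (p : ℤ) = 3 := by
        have := mul_le_mul_of_nonneg_right hS2' (show (0 : ℤ) ≤ (p : ℤ) - 2 by linarith)
        linarith
      have hS : Sz p G a x = 2 := by rw [hp3'] at hle; omega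
      exact C.halves_false hM hV hS ⟨w, hw, hwx⟩
    refine ⟨htr, fun he => ?_, fun k hk hke => ?_⟩
    · rw [he] at hEc
      have : (1 : ℤ) ≤ (Sz p G a x : ℤ) := by exact_mod_cast hS0
      push_cast at hEc
      nlinarith [mul_pos (show (0 : ℤ) < (Sz p G a x : ℤ) by linarith)
        (mul_pos (show (0 : ℤ) < p by linarith) (show (0 : ℤ) < (p : ℤ) - 2 by linarith))]
    · have hk2 : k = 2 := by
        rw [hke] at hEc
        push_cast at hEc
        have : (1 : ℤ) ≤ (Sz p G a x : ℤ) := by exact_mod_cast hS0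
        have h1 : (p : ℤ) * ((p : ℤ) - k + 1) = p * ((Sz p G a x : ℤ) * ((p : ℤ) - 2)) := by linarith
        have h2 := mul_left_cancel₀ (by linarith) h1
        have h3 : 2 * ((p : ℤ) - 2) ≤ (Sz p G a x : ℤ) * ((p : ℤ) - 2) :=
          mul_le_mul_of_nonneg_right (by omega) (by linarith)
        omega
      subst hk2
      exact htwo htr

end Ctx

end CfsgLib.SylowRatio
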