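import Cfsg.Agent.SylowRatio.NonNice

/-!
# An exact class sending all its pieces to the bad suborbit is impossible

The bad suborbit would consist of transversals of the classes of the fibres, and there are too few
of them.
-/

set_option linter.unusedSectionVars false

namespace CfsgLib.SylowRatio

open MulAction
open scoped Pointwise

universe u

variable {p : ℕ} [hp : Fact p.Prime] {G : Type u} [Group G] [Finite G] {α : Type u} [MulAction G α]
  [Finite α]

/-- multiply transitive groups move small subsets onto each other -/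
theorem image_eq_of_tuple {γ : Type u} [MulAction G γ] [Finite γ] [DecidableEq γ] {Y : Subgroup G} {Λ : Set γ}
    (ht : TupleTrans Y Λ p) (hp' : p ≤ Λ.ncard) {D D' : Finset γ} (hD : ↑D ⊆ Λ) (hD' : ↑D' ⊆ Λ)
    (hcard : D.card = D'.card) (hle : D.card ≤ p) : ∃ g ∈ Y, D.image (g • ·) = D' := by
  let e := D.equivFin
  let e' := D'.equivFinOfCardEq hcard.symm
  obtain ⟨g, hg, hgv⟩ := ht.of_le hle hp' (fun i => (e.symm i : γ)) (fun i => (e'.symm i : γ))
    (Subtype.val_injective.comp e.symm.injective) (Subtype.val_injective.comp e'.symm.injective)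
    (fun i => hD (e.symm i).2) (fun i => hD' (e'.symm i).2)
  refine ⟨g, hg, Finset.eq_of_subset_of_card_le ?_ ?_⟩
  · intro z hz
    obtain ⟨d, hd, rfl⟩ := Finset.mem_image.1 hz
    have h := hgv (e ⟨d, hd⟩)
    rw [Equiv.symm_apply_apply] at h
    rw [h]
    exact (e'.symm _).2
  · rw [Finset.card_image_of_injective _ (MulAction.injective g), hcard]

/-- the points of the class joined to `c` -/
def tau (p : ℕ) [Fact p.Prime] (G : Type u) [Group G] [Finite G] {α : Type u} [MulAction G α] (a x c : α) :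
    Set α :=
  {z ∈ cls p G a x | Adj p G a z c}

theorem Adj_smul {a z c : α} (g : G) (h : Adj p G a z c) : Adj p G (g • a) (g • z) (g • c) := by
  refine ⟨?_, fun e => h.2 ?_⟩
  · rw [← smul_cls]; exact Set.smul_mem_smul_set h.1
  · rw [lab_smul, lab_smul] at e
    exact MulAction.injective g e

namespace Ctx

variable (C : Ctx p G α)
include C

theorem mem_tau_smul {a x c z : α} {g : G} (hg : g ∈ K p G a) :
    g • z ∈ tau p G a x (g • c) ↔ z ∈ tau p G a x c := by
  have key : ∀ k ∈ K p G a, ∀ u v, u ∈ tau p G a x v → k • u ∈ tau p G a x (k • v) := fun k hk u v hu =>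
    ⟨C.cls_inv a x k hk u hu.1, by
      have := Adj_smul k hu.2
      rwa [show k • a = a from K_le a hk] at this⟩
  exact ⟨fun h => by simpa using key _ ((K p G a).inv_mem hg) _ _ h, key g hg z c⟩

theorem tau_smul {a x c : α} {g : G} (hg : g ∈ K p G a) :
    tau p G a x (g • c) = g • tau p G a x c := by
  ext z
  rw [Set.mem_smul_set_iff_inv_smul_mem, ← C.mem_tau_smul hg (z := g⁻¹ • z), smul_inv_smul]

section Exact

variable (hall : ∀ b y : α, Nice p G b y → EA p G b (Lam p G b y : Set (Lab G)) = 0)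
include hall

theorem allBad_false {a x : α} (h : Nice p G a x) (hb : AllBad p G a x) : False := by
  classical
  have hp3 := C.three_le
  have hsym : ∀ z ∈ cls p G a x, AllBad p G z a := by
    intro z hz
    refine C.allBad_symm hall (C.cls_spec h hz).1 ?_
    unfold AllBad
    rw [cls_eq_of_mem hz]
    exact hb
  have hnz : ∀ z ∈ cls p G a x, Nice p G z a := fun z hz => C.nice_symm (C.cls_spec h hz).1
  have hadj : ∀ z ∈ cls p G a x, ∀ c, Adj p G a z c → c ≠ a ∧ ¬ Nice p G a c := fun z hz c hc =>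
    ⟨fun e => hc.2 (by rw [e]), hsym z hz a (mem_cls_self (hnz z hz).1) c hc.1 hc.2⟩
  obtain ⟨P, hP⟩ := h.2.1
  have hPa : (P : Subgroup G) ≤ K p G a := hP.trans (L_le_K a x)
  obtain ⟨hr, hf⟩ := C.exact_small h (hall a x h) hPa
  set Λ : Set (Lab G) := (Lam p G a x : Set (Lab G)) with hΛ
  have hpr : p ≤ (Lam p G a x : Set (Lab G)).ncard := by rw [← hΛ]; omega
  set S := Sz p G a x with hS
  have hS0 : 0 < S := C.Sz_pos h.1
  -- a point of the bad suborbit
  have hxa := C.nice_symm h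
  obtain ⟨-, -, hrf⟩ := C.Lam_counts hxa.1 hxa.2.1 (C.syl_le x)
  obtain ⟨d, hd, hdb⟩ := Set.exists_ne_of_one_lt_ncard
    (show 1 < (Lam p G x a : Set (Lab G)).ncard by omega) (lab p G x a)
  obtain ⟨⟨g₀, hg₀⟩, rfl⟩ := hd
  set c₀ := g₀ • a
  have hc₀ : Adj p G a x c₀ :=
    ⟨C.orbit_subset_cls hxa.1 ⟨⟨g₀, hg₀⟩, rfl⟩, by rw [lab_equi hg₀]; exact hdb⟩
  have hx : x ∈ cls p G a x := mem_cls_self h.1
  obtain ⟨hc₀a, hc₀n⟩ := hadj x hx c₀ hc₀
  set W := orbit (K p G a) c₀
  have hadjW : ∀ z ∈ cls p G a x, ∀ c, Adj p G a z c → c ∈ W := by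
    intro z hz c hc
    obtain ⟨hca, hcn⟩ := hadj z hz c hc
    by_contra hcW
    exact hcn (C.other_of_not_nice hc₀a hc₀n hca hcW).2.1
  have hWn : ∀ c ∈ W, c ≠ a ∧ ¬ Nice p G a c := fun c hc =>
    ⟨fun e => C.orbit_subset_compl hc₀a hc e,
      fun hn => hc₀n (C.nice_orbit hn (by rw [orbit_eq_iff.2 hc]; exact mem_orbit_self _))⟩
  have hFx₀ : Fx p G a c₀ := by
    obtain ⟨c, hc, -, -, -, hfix, -⟩ :=
      C.L_orbit_counts hxa hc₀.1 hc₀.2 (P := P) (by rw [L_comm x a]; exact hP)
    have hP' : (P : Subgroup G) ≤ K p G x := hP.trans (L_le_K' a x)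
    have hf'' := (C.exact_small hxa (hall x a hxa) hP').2
    have hpos : 0 < (orbit (L p G x a) c₀ ∩ Fixed (P : Subgroup G)).ncard := by
      rcases Nat.eq_zero_or_pos (orbit (L p G x a) c₀ ∩ Fixed (P : Subgroup G)).ncard with e | e
      · exfalso
        rw [e, zero_add] at hfix
        have := Nat.eq_of_mul_eq_mul_right hc ((one_mul c).trans hfix)
        omega
      · exact e
    obtain ⟨_, ⟨⟨l, hl⟩, rfl⟩, hzf⟩ := (Set.ncard_pos).1 hpos
    have hlK : l ∈ K p G a := L_le_K' x a hl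
    refine C.Fx_of_mem (x := l • c₀) ⟨P, sylow_le_L (hPa.trans (K_le a)) hzf⟩ ?_
    exact ⟨⟨l⁻¹, (K p G a).inv_mem hlK⟩, inv_smul_smul l c₀⟩
  have hWF : ∀ c ∈ W, Fx p G a c := fun c hc => C.Fx_of_mem hFx₀ hc
  have hWinj : ∀ c ∈ W, (lab p G a c : Lab G) = lab p G a c₀ → c = c₀ := by
    obtain ⟨-, hcard⟩ := C.not_nice hc₀a hc₀n
    have hequi : ∀ g ∈ K p G a, ∀ z ∈ W, (lab p G a (g • z) : Lab G) = g • lab p G a z :=
      fun g hg z _ => lab_equi hg z
    obtain ⟨h1, h2⟩ := map_orbit hequi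
    have hinj : Set.InjOn (lab p G a : α → Lab G) W := by
      refine Set.injOn_of_ncard_image_eq ?_ (Set.toFinite _)
      rw [show (lab p G a : α → Lab G) '' W = (Lam p G a c₀ : Set (Lab G)) from
        Set.Subset.antisymm (by rintro _ ⟨z, hz, rfl⟩; exact h1 z hz) (fun b hb => h2 b hb)]
      exact (hcard hFx₀).1.symm
    exact fun c hc e => hinj hc (mem_orbit_self _) e
  -- one point on each label
  have huniq : ∀ c, ∀ z ∈ tau p G a x c, ∀ z' ∈ tau p G a x c,
      (lab p G a z : Lab G) = lab p G a z' → z = z' := by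
    intro c z hz z' hz' e
    by_contra hzz
    have hza := hnz z hz.1
    have hfix : L p G z a ≤ stabilizer G z' := by
      rw [L_comm z a, show L p G a z = L p G a z' from congrArg Lab.val e]
      exact L_le_right a z'
    have hl := C.lab_eq_of_fixed hza (Ne.symm hzz) hfix
    refine hsym z hz.1 z' ⟨Ne.symm hzz, by rw [hl]; exact lab_mem_Lam z a⟩ c hz.2.1
      (fun e' => hz.2.2 (e'.trans hl)) (C.cls_spec (hnz z' hz'.1) hz'.2.1).1
  have hlabs : ∀ c ∈ W, (lab p G a : α → Lab G) '' tau p G a x c = Λ := by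
    intro c hc
    refine Set.Subset.antisymm (by rintro _ ⟨z, hz, rfl⟩; exact hz.1.2) fun d hd => ?_
    obtain ⟨⟨g, hg⟩, rfl⟩ := hc
    have hz0 : g • x ∈ tau p G a x (g • c₀) := (C.mem_tau_smul hg).2 ⟨hx, hc₀⟩
    have hcW : g • c₀ ∈ W := ⟨⟨g, hg⟩, rfl⟩
    obtain ⟨hca, hcn⟩ := hWn _ hcW
    obtain ⟨Q, hQ⟩ := hWF _ hcW
    have ht := C.tuple_trans hall h (C.L_gen a (g • c₀)) (L_le_K a _) hQ
      (C.bad_no_label hall h hca hcn (hWF _ hcW))
    obtain ⟨l, hl, hld⟩ := ht.of_le (show 1 ≤ p by omega) hpr ![lab p G a (g • x)] ![d]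
      (Function.injective_of_subsingleton _) (Function.injective_of_subsingleton _)
      (by intro i; fin_cases i; exact hz0.1.2) (by intro i; fin_cases i; exact hd)
    refine ⟨l • g • x, ?_, ?_⟩
    · have := (C.mem_tau_smul (x := x) (L_le_K a _ hl)).2 hz0
      rwa [show l • g • c₀ = g • c₀ from L_le_right a _ hl] at this
    · rw [lab_equi (L_le_K a _ hl)]; exact hld 0
  have htau : ∀ c ∈ W, (tau p G a x c).ncard = Λ.ncard := fun c hc => by
    rw [← hlabs c hc]
    exact (Set.ncard_image_of_injOn fun z hz z' hz' e => huniq c z hz z' hz' e).symm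
  have hcol : ∀ z ∈ cls p G a x, {c ∈ W | Adj p G a z c} = cls p G z a \ ((Fixed (L p G z a) : Set α) \ {z}) := by
    intro z hz
    rw [C.fixed_diff (hnz z hz)]
    ext c
    refine ⟨fun hc => ⟨hc.2.1, fun h' => hc.2.2 h'.2⟩, fun hc => ?_⟩
    have hA : Adj p G a z c := ⟨hc.1, fun e => hc.2 ⟨hc.1, e⟩⟩
    exact ⟨hadjW z hz c hA, hA⟩
  have hsub : ∀ z ∈ cls p G a x, (Fixed (L p G z a) : Set α) \ {z} ⊆ cls p G z a := fun z hz => by
    rw [C.fixed_diff (hnz z hz)]; exact fun c hc => hc.1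
  have hSz : ∀ z ∈ cls p G a x, Sz p G z a = S := fun z hz => (C.Sz_comm hz.1).trans (C.Sz_lab hz)
  have hcolcard : ∀ z ∈ cls p G a x, {c ∈ W | Adj p G a z c}.ncard = S * (Λ.ncard - 1) := by
    intro z hz
    rw [hcol z hz, Set.ncard_sdiff (hsub z hz), (C.cls_counts (hnz z hz) (C.syl_le z)).1,
      show ((Fixed (L p G z a) : Set α) \ {z}).ncard = Sz p G z a from rfl, hSz z hz]
    have := (C.exact_small (hnz z hz) (hall z a (hnz z hz)) (C.syl_le z)).1
    rw [show (Lam p G z a : Set (Lab G)).ncard = Λ.ncard by omega]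
    rw [Nat.mul_sub, mul_comm S, mul_one]
  have hcolfix : ∀ z ∈ cls p G a x ∩ Fixed (P : Subgroup G),
      {c ∈ W ∩ Fixed (P : Subgroup G) | Adj p G a z c}.ncard = S * (p - 2) := by
    rintro z ⟨hz, hzf⟩
    have hPz : (P : Subgroup G) ≤ L p G a z := sylow_le_L (hPa.trans (K_le a)) hzf
    have hPzK : (P : Subgroup G) ≤ K p G z := hPz.trans (L_le_K' a z)
    rw [show {c ∈ W ∩ Fixed (P : Subgroup G) | Adj p G a z c}
        = (cls p G z a ∩ Fixed (P : Subgroup G)) \ ((Fixed (L p G z a) : Set α) \ {z}) from ?_]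
    · have hs' : (Fixed (L p G z a) : Set α) \ {z} ⊆ cls p G z a ∩ Fixed (P : Subgroup G) :=
        fun c hc => ⟨hsub z hz hc, fun q hq => hc.1 q (by rw [L_comm z a]; exact hPz hq)⟩
      rw [Set.ncard_sdiff hs',
        (C.cls_counts (hnz z hz) hPzK).2.1,
        show ((Fixed (L p G z a) : Set α) \ {z}).ncard = Sz p G z a from rfl, hSz z hz]
      have := (C.exact_small (hnz z hz) (hall z a (hnz z hz)) hPzK).2
      rw [show ((Lam p G z a : Set (Lab G)) ∩ Fixed (P : Subgroup G)).ncard = p - 2 + 1 by omega,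
        Nat.add_mul, one_mul, Nat.add_sub_cancel, mul_comm]
    · ext c
      have := Set.ext_iff.1 (hcol z hz) c
      simp only [Set.mem_ofPred_eq, Set.mem_inter_iff, Set.mem_sdiff] at this ⊢
      tauto
  have e1 := ncard_mul_eq W (cls p G a x) (fun c z => Adj p G a z c) (e := Λ.ncard) htau hcolcard
  have hrowfix : ∀ c ∈ W ∩ Fixed (P : Subgroup G),
      {z ∈ cls p G a x ∩ Fixed (P : Subgroup G) | Adj p G a z c}.ncard = p - 1 := by
    rintro c ⟨hc, hcf⟩
    have hinj : Set.InjOn (lab p G a : α → Lab G) {z ∈ cls p G a x ∩ Fixed (P : Subgroup G) | Adj p G a z c} :=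
      fun z hz z' hz' e => huniq c z ⟨hz.1.1, hz.2⟩ z' ⟨hz'.1.1, hz'.2⟩ e
    rw [← Set.ncard_image_of_injOn hinj,
      show p - 1 = (Λ ∩ Fixed (P : Subgroup G)).ncard by omega]
    congr 1
    refine Set.Subset.antisymm ?_ ?_
    · rintro _ ⟨z, ⟨⟨hz, hzf⟩, -⟩, rfl⟩
      exact ⟨hz.2, C.lab_fixed hPa hzf⟩
    · rintro d ⟨hd, hdf⟩
      rw [← hlabs c hc] at hd
      obtain ⟨z, hz, rfl⟩ := hd
      exact ⟨z, ⟨⟨hz.1, C.fixed_of_lab hz.1.1 (C.cls_spec h hz.1).1.2.1 hPa hdf⟩, hz.2⟩, rfl⟩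
  have e2 := ncard_mul_eq (W ∩ Fixed (P : Subgroup G)) (cls p G a x ∩ Fixed (P : Subgroup G))
    (fun c z => Adj p G a z c) hrowfix hcolfix
  obtain ⟨hclsn, hclsf, -⟩ := C.cls_counts h hPa
  rw [hclsn] at e1
  rw [hclsf] at e2
  set r := Λ.ncard with hrdef
  obtain ⟨r', hr'⟩ : ∃ r', r = r' + 1 := ⟨r - 1, by omega⟩
  have hr'' : r' + 2 = 2 * p := by omega
  have hm : W.ncard = S * S * r' := by
    refine Nat.eq_of_mul_eq_mul_right (show 0 < r by omega) ?_
    rw [e1, hr', Nat.add_sub_cancel, ← hS]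
    ring
  have hfW : (W ∩ Fixed (P : Subgroup G)).ncard = S * S * (p - 2) := by
    refine Nat.eq_of_mul_eq_mul_right (show 0 < p - 1 by omega) ?_
    rw [e2, show (Λ ∩ Fixed (P : Subgroup G)).ncard = p - 1 by omega, ← hS]
    ring
  have hSS : S * S + 1 = p := by
    have hE := (C.not_nice hc₀a hc₀n).1
    rw [C.EA_eq a (inv_orbit _ _) hPa] at hE
    unfold E at hE
    rw [hm, hfW] at hE
    have h2 : ((p - 2 : ℕ) : ℤ) = (p : ℤ) - 2 := by rw [Nat.cast_sub (by omega)]; norm_num
    have h3 : (r' : ℤ) = 2 * (p : ℤ) - 2 := by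
      have : ((r' + 2 : ℕ) : ℤ) = ((2 * p : ℕ) : ℤ) := by rw [hr'']
      push_cast at this; linarith
    push_cast [h2, h3] at hE
    have h4 : (p : ℤ) * ((S : ℤ) * S + 1 - p) = 0 := by linear_combination hE
    have h5 := (mul_eq_zero.1 h4).resolve_left (by exact_mod_cast hp.out.ne_zero)
    omega
  have hS2 : 2 ≤ S := by
    by_contra hlt
    have : S = 1 := by omega
    rw [this] at hSS
    omega
  -- agreements
  set A : α → α → ℕ := fun c c' => (tau p G a x c ∩ tau p G a x c').ncard with hA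
  have hAequi : ∀ g ∈ K p G a, ∀ c c', A (g • c) (g • c') = A c c' := fun g hg c c' => by
    simp only [hA, C.tau_smul hg, ← Set.smul_set_inter, Set.ncard_smul_set]
  have hmid : ∀ c ∈ W, ∀ c' ∈ W, 2 ≤ A c c' → A c c' + 2 ≤ r → False := by
    intro c hc c' hc' h2 hle
    obtain ⟨hca, hcn⟩ := hWn c hc
    obtain ⟨Q, hQ⟩ := hWF c hc
    have ht := C.tuple_trans hall h (C.L_gen a c) (L_le_K a c) hQ (C.bad_no_label hall h hca hcn (hWF c hc))
    set Lf := (Set.toFinite Λ).toFinset
    have hLf : Lf.card = r := (Set.ncard_eq_toFinset_card Λ (Set.toFinite Λ)).symm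
    let D : α → Finset (Lab G) := fun w =>
      (Set.toFinite (tau p G a x c ∩ tau p G a x w)).toFinset.image (lab p G a)
    have hDsub : ∀ w ∈ W, D w ⊆ Lf := by
      intro w _ d hd
      simp only [D, Finset.mem_image, Set.Finite.mem_toFinset] at hd
      obtain ⟨z, hz, rfl⟩ := hd
      exact (Set.toFinite Λ).mem_toFinset.2 hz.1.1.2
    have hDcard : (D c').card = A c c' := by
      rw [Finset.card_image_of_injOn, ← Set.ncard_eq_toFinset_card]
      intro z hz z' hz' e
      simp only [Set.Finite.coe_toFinset] at hz hz'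
      exact huniq c z hz.1 z' hz'.1 e
    have hsurj : ∀ D' ∈ Lf.powersetCard (A c c'), ∃ w ∈ (Set.toFinite W).toFinset, D w = D' := by
      intro D' hD'
      obtain ⟨hD's, hD'c⟩ := Finset.mem_powersetCard.1 hD'
      obtain ⟨g, hg, hgD⟩ : ∃ g ∈ L p G a c, (D c').image (g • ·) = D' := by
        by_cases hap : A c c' ≤ p
        · refine image_eq_of_tuple ht hpr (fun d hd => ?_) (fun d hd => ?_) (by omega) (by omega)
          · exact (Set.toFinite Λ).mem_toFinset.1 (hDsub c' hc' hd)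
          · exact (Set.toFinite Λ).mem_toFinset.1 (hD's hd)
        · have c1 : (Lf \ D c').card = r - A c c' := by
            rw [Finset.card_sdiff_of_subset (hDsub c' hc'), hLf, hDcard]
          have c2 : (Lf \ D').card = r - A c c' := by
            rw [Finset.card_sdiff_of_subset hD's, hLf, hD'c]
          obtain ⟨g, hg, hgD⟩ := image_eq_of_tuple ht hpr (D := Lf \ D c') (D' := Lf \ D')
            (fun d hd => (Set.toFinite Λ).mem_toFinset.1 (Finset.mem_sdiff.1 hd).1)
            (fun d hd => (Set.toFinite Λ).mem_toFinset.1 (Finset.mem_sdiff.1 hd).1) (by omega) (by omega)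
          refine ⟨g, hg, ?_⟩
          have hgL : Lf.image (g • ·) = Lf := by
            refine Finset.eq_of_subset_of_card_le (fun d hd => ?_)
              (by rw [Finset.card_image_of_injective _ (MulAction.injective g)])
            obtain ⟨d', hd', rfl⟩ := Finset.mem_image.1 hd
            exact (Set.toFinite Λ).mem_toFinset.2
              (inv_orbit (K p G a) _ g (L_le_K a c hg) d' ((Set.toFinite Λ).mem_toFinset.1 hd'))
          calc (D c').image (g • ·) = (Lf \ (Lf \ D c')).image (g • ·) := by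
                rw [Finset.sdiff_sdiff_eq_self (hDsub c' hc')]
            _ = Lf \ (Lf \ D') := by
                rw [Finset.image_sdiff _ _ (MulAction.injective g), hgL, hgD]
            _ = D' := Finset.sdiff_sdiff_eq_self hD's
      refine ⟨g • c', (Set.toFinite W).mem_toFinset.2 (inv_orbit _ _ g (L_le_K a c hg) c' hc'), ?_⟩
      have htc : tau p G a x c = g • tau p G a x c := by
        rw [← C.tau_smul (L_le_K a c hg), show g • c = c from L_le_right a c hg]
      rw [← hgD]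
      ext d
      simp only [D, Finset.mem_image, Set.Finite.mem_toFinset]
      constructor
      · rintro ⟨z, hz, rfl⟩
        rw [htc, C.tau_smul (L_le_K a c hg), ← Set.smul_set_inter] at hz
        obtain ⟨z', hz', rfl⟩ := hz
        exact ⟨_, ⟨z', hz', rfl⟩, (lab_equi (L_le_K a c hg) z').symm⟩
      · rintro ⟨_, ⟨z', hz', rfl⟩, rfl⟩
        refine ⟨g • z', ?_, lab_equi (L_le_K a c hg) z'⟩
        rw [htc, C.tau_smul (L_le_K a c hg), ← Set.smul_set_inter]
        exact Set.smul_mem_smul_set hz'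
    have hbound : r.choose (A c c') ≤ W.ncard := by
      rw [← hLf, ← Finset.card_powersetCard, Set.ncard_eq_toFinset_card W (Set.toFinite W)]
      refine le_trans (Finset.card_le_card ?_) (Finset.card_image_le (f := D))
      intro D' hD'
      obtain ⟨w, hw, hwD⟩ := hsurj D' hD'
      exact Finset.mem_image.2 ⟨w, hw, hwD⟩
    have h2' := (choose_two_le h2 hle).trans hbound
    rw [Nat.choose_two_right, hm, hr', Nat.add_sub_cancel] at h2'
    have hhalf : (r' + 1) * r' / 2 = (2 * p - 1) * (p - 1) := by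
      rw [show r' + 1 = 2 * p - 1 by omega, show r' = 2 * (p - 1) by omega, ← mul_assoc,
        mul_comm (2 * p - 1) 2, mul_assoc, Nat.mul_div_cancel_left _ (by norm_num)]
    rw [hhalf, show S * S = p - 1 by omega, show r' = 2 * (p - 1) by omega,
      mul_comm (2 * p - 1)] at h2'
    have := Nat.le_of_mul_le_mul_left h2' (by omega)
    omega
  have hAself : ∀ c ∈ W, A c c = r := fun c hc => by simp only [hA, Set.inter_self]; exact htau c hc
  have hAcomm : ∀ c c', A c c' = A c' c := fun c c' => by simp only [hA, Set.inter_comm]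
  have htrans : ∀ c₁ ∈ W, ∀ c₂ ∈ W, ∀ c₃ ∈ W, r ≤ A c₁ c₂ + 1 → r ≤ A c₂ c₃ + 1 → r ≤ A c₁ c₃ + 1 := by
    intro c₁ h1 c₂ h2 c₃ h3 h12 h23
    by_contra hlt
    refine hmid c₁ h1 c₃ h3 ?_ (by omega)
    have hu := Set.ncard_union_add_ncard_inter (tau p G a x c₁ ∩ tau p G a x c₂)
      (tau p G a x c₂ ∩ tau p G a x c₃)
    have hu1 : ((tau p G a x c₁ ∩ tau p G a x c₂) ∪ (tau p G a x c₂ ∩ tau p G a x c₃)).ncard ≤ r := by
      rw [← htau c₂ h2]
      exact Set.ncard_le_ncard (Set.union_subset Set.inter_subset_right Set.inter_subset_left)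
    have hu2 : ((tau p G a x c₁ ∩ tau p G a x c₂) ∩ (tau p G a x c₂ ∩ tau p G a x c₃)).ncard ≤ A c₁ c₃ :=
      Set.ncard_le_ncard fun z hz => ⟨hz.1.1, hz.2.2⟩
    simp only [hA] at h12 h23 hu2 ⊢
    omega
  let Y' : Subgroup G :=
    { carrier := {g | g ∈ K p G a ∧ r ≤ A c₀ (g • c₀) + 1}
      one_mem' := ⟨(K p G a).one_mem, by rw [one_smul, hAself c₀ (mem_orbit_self _)]; omega⟩
      mul_mem' := by
        rintro g g' ⟨hg, hgA⟩ ⟨hg', hgA'⟩
        refine ⟨(K p G a).mul_mem hg hg', htrans c₀ (mem_orbit_self _) (g • c₀) ⟨⟨g, hg⟩, rfl⟩ _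
          ⟨⟨g * g', (K p G a).mul_mem hg hg'⟩, rfl⟩ hgA ?_⟩
        rw [mul_smul, hAequi g hg]
        exact hgA'
      inv_mem' := by
        rintro g ⟨hg, hgA⟩
        refine ⟨(K p G a).inv_mem hg, ?_⟩
        rw [← hAequi g hg c₀ (g⁻¹ • c₀), smul_inv_smul, hAcomm]
        exact hgA }
  have hY1 : K p G a ⊓ stabilizer G (lab p G a c₀ : Lab G) ≤ Y' := by
    rintro g ⟨hg, hgl⟩
    refine ⟨hg, ?_⟩
    have hmem : g • c₀ ∈ W := ⟨⟨g, hg⟩, rfl⟩
    rw [hWinj (g • c₀) hmem (by rw [lab_equi hg]; exact hgl), hAself c₀ (mem_orbit_self _)]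
    omega
  -- total agreement
  have hsum : ∑ c ∈ (Set.toFinite W).toFinset, A c₀ c = r * (S * r') := by
    set T := (Set.toFinite (tau p G a x c₀)).toFinset
    have h1 : ∀ c, A c₀ c = (T.filter fun z => z ∈ tau p G a x c).card := fun c => by
      simp only [hA]
      rw [Set.ncard_eq_toFinset_card _ (Set.toFinite _)]
      congr 1; ext z; simp [T]
    simp only [h1]
    have hbi := Finset.sum_card_bipartiteAbove_eq_sum_card_bipartiteBelow (s := (Set.toFinite W).toFinset) (t := T)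
      (fun c z => z ∈ tau p G a x c)
    simp only [Finset.bipartiteAbove, Finset.bipartiteBelow] at hbi
    rw [hbi,
      Finset.sum_const_nat (m := S * r') fun z hz => ?_]
    · rw [show T.card = r from (Set.ncard_eq_toFinset_card _ _).symm.trans (htau c₀ (mem_orbit_self _))]
    · have hz' : z ∈ tau p G a x c₀ := (Set.toFinite _).mem_toFinset.1 hz
      rw [← show S * (r - 1) = S * r' by rw [hr', Nat.add_sub_cancel], ← hcolcard z hz'.1,
        Set.ncard_eq_toFinset_card _ (Set.toFinite _)]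
      congr 1
      ext c
      rw [Finset.mem_filter, Set.Finite.mem_toFinset, Set.Finite.mem_toFinset]
      exact ⟨fun h' => ⟨h'.1, h'.2.2⟩, fun h' => ⟨h'.1, hz'.1, h'.2⟩⟩
  have hWcard : (Set.toFinite W).toFinset.card = S * S * r' :=
    (Set.ncard_eq_toFinset_card W _).symm.trans hm
  rcases (C.lab_main hc₀a hFx₀).1 Y' hY1 (fun g hg => hg.1) with e | e
  · have hlow : ∀ c ∈ (Set.toFinite W).toFinset, A c₀ c ≤ 1 + if c = c₀ then r' else 0 := by
      intro c hc
      obtain ⟨⟨g, hg⟩, rfl⟩ := (Set.toFinite W).mem_toFinset.1 hc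
      split_ifs with hcc
      · change A c₀ (g • c₀) ≤ 1 + r'
        rw [show g • c₀ = c₀ from hcc, hAself c₀ (mem_orbit_self _)]; omega
      · by_contra hbig
        change ¬ A c₀ (g • c₀) ≤ 1 + 0 at hbig
        refine hmid c₀ (mem_orbit_self _) (g • c₀) ⟨⟨g, hg⟩, rfl⟩ (by omega) ?_
        by_contra hhigh
        have hgY : g ∈ Y' := ⟨hg, by omega⟩
        rw [e] at hgY
        refine hcc (hWinj _ ⟨⟨g, hg⟩, rfl⟩ ?_)
        change (lab p G a (g • c₀) : Lab G) = _
        rw [lab_equi hg]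
        exact hgY.2
    have h' := Finset.sum_le_sum hlow
    rw [hsum, Finset.sum_add_distrib, Finset.sum_ite_eq' _ c₀ (fun _ => r'),
      if_pos ((Set.toFinite W).mem_toFinset.2 (mem_orbit_self _)), Finset.sum_const, smul_eq_mul, mul_one,
      hWcard] at h'
    have h6 : (r * S) * r' ≤ (S * S + 1) * r' := by rw [add_mul, one_mul, mul_assoc]; exact h'
    have h7 := Nat.le_of_mul_le_mul_right h6 (by omega)
    rw [hSS] at h7
    have : r * 2 ≤ r * S := Nat.mul_le_mul_left r hS2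
    omega
  · have hhigh : ∀ c ∈ (Set.toFinite W).toFinset, r' ≤ A c₀ c := by
      intro c hc
      obtain ⟨⟨g, hg⟩, rfl⟩ := (Set.toFinite W).mem_toFinset.1 hc
      have hgY : g ∈ Y' := e.symm ▸ hg
      change r' ≤ A c₀ (g • c₀)
      have := hgY.2
      omega
    have h' := Finset.card_nsmul_le_sum _ _ _ hhigh
    rw [hsum, hWcard, smul_eq_mul] at h'
    have h6 : (S * r') * (S * r') ≤ r * (S * r') := le_of_eq_of_le (by ring) h'
    have h7 := Nat.le_of_mul_le_mul_right h6 (Nat.mul_pos hS0 (by omega))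
    have : 2 * r' ≤ S * r' := Nat.mul_le_mul_right r' hS2
    omega

end Exact

/-- pieces always return -/
theorem piece {a x : α} (h : Max p G a x) : Piece p G a x := by
  intro y hy hxy
  rcases C.piece_or_bad h hy hxy with e | ⟨hn, h0⟩
  · exact e
  exfalso
  have hall : ∀ b z : α, Nice p G b z → EA p G b (Lam p G b z : Set (Lab G)) = 0 := fun b z hbz =>
    le_antisymm (h0 ▸ h.2 b z hbz) (C.EA_Lam_nonneg hbz.1 hbz.2.1)
  exact C.allBad_false hall h.1 (C.allBad_of_bad hall h.1 hy hxy hn)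

end Ctx

end CfsgLib.SylowRatio
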